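import Cfsg.Agent.H951.Form
/-!
# Nondegenerate invariant subspaces of isometries of prime order
-/

set_option autoImplicit false
set_option linter.unusedSectionVars false
set_option linter.unusedVariables false

namespace Cfsg.Agent.H951

open Module Polynomial

variable {F V : Type*} [Field F] [AddCommGroup V] [Module F V]
variable {σ : F →+* F} {ε : F} {B : V → V → F} {U U' W : Submodule F V} {x : Module.End F V} {r : ℕ}

/-! ### cyclic submodules -/

/-- The span of `w, x w, …, x^{d-1} w`, `d = deg f`. -/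
def cyc (x : Module.End F V) (f : F[X]) (w : V) : Submodule F V :=
  Submodule.span F (Set.range fun j : Fin f.natDegree => (x ^ (j : ℕ)) w)

lemma irr_cyc [FiniteDimensional F V] {f : F[X]} (hf : Irreducible f) {w : V} (hw : aeval x f w = 0) (hw0 : w ≠ 0) :
    Irr x (cyc x f w) ∧ w ∈ cyc x f w := by
  have hpos : 0 < f.natDegree := hf.natDegree_pos
  have hmem : w ∈ cyc x f w := Submodule.subset_span ⟨⟨0, hpos⟩, by simp⟩
  have hinv : Inv x (cyc x f w) := inv_span_pow hf.ne_zero hw
  have hker : cyc x f w ≤ LinearMap.ker (aeval x f) := by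
    rw [cyc, Submodule.span_le]
    rintro _ ⟨j, rfl⟩
    exact (inv_ker_aeval f).pow _ w (LinearMap.mem_ker.2 hw)
  refine ⟨⟨?_, hinv, ?_⟩, hmem⟩
  · intro h
    rw [h, Submodule.mem_bot] at hmem
    exact hw0 hmem
  · intro U hU hUi
    by_cases h0 : U = ⊥
    · exact Or.inl h0
    right
    obtain ⟨u, hu, hu0⟩ := (Submodule.ne_bot_iff _).1 h0
    apply Submodule.eq_of_le_of_finrank_le hU
    have h1 : finrank F ↥(cyc x f w) ≤ f.natDegree := by
      calc finrank F ↥(cyc x f w) ≤ Fintype.card (Fin f.natDegree) := finrank_range_le_card _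
        _ = f.natDegree := Fintype.card_fin _
    exact h1.trans (natDegree_le_finrank hf (LinearMap.mem_ker.1 (hker (hU hu))) hu0 hUi hu)

lemma cyc_le {f : F[X]} {w : V} (hW : Inv x W) (hw : w ∈ W) : cyc x f w ≤ W := by
  rw [cyc, Submodule.span_le]
  rintro _ ⟨j, rfl⟩
  exact hW.pow _ w hw

lemma Irr.killed_of (hU : Irr x U) {f : F[X]} {u : V} (hu : u ∈ U) (hu0 : u ≠ 0) (h : aeval x f u = 0) :
    ∀ v ∈ U, aeval x f v = 0 := by
  rcases hU.2.2 (U ⊓ LinearMap.ker (aeval x f)) inf_le_left (hU.2.1.inf (inv_ker_aeval f)) with h1 | h1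
  · exfalso
    apply hu0
    rw [← Submodule.mem_bot F, ← h1]
    exact ⟨hu, LinearMap.mem_ker.2 h⟩
  · intro v hv
    rw [← h1] at hv
    exact LinearMap.mem_ker.1 hv.2

/-- Two totally isotropic minimal invariant subspaces in duality, killed by the same irreducible polynomial, on which
`x² ≠ 1`, have a nondegenerate minimal invariant subspace in their sum. -/
lemma exists_nd_irr [FiniteDimensional F V] (hB : Frm σ ε B) (hx : Isom B x) (hinj : Function.Injective x)
    {f : F[X]} (hf : Irreducible f) (hU : Irr x U) (hU' : Irr x U') (hfU : ∀ u ∈ U, aeval x f u = 0)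
    (hfU' : ∀ u ∈ U', aeval x f u = 0) (hti : TI B U) (hti' : TI B U') (hp : U' ⊓ hB.perp U = ⊥)
    (h2 : ∃ u ∈ U', x (x u) ≠ u) : ∃ S ≤ U ⊔ U', Irr x S ∧ Nd B S := by
  by_contra hno
  push Not at hno
  have hinv : Inv x (U ⊔ U') := hU.2.1.sup hU'.2.1
  have hfs : ∀ w ∈ U ⊔ U', aeval x f w = 0 := by
    intro w hw
    obtain ⟨a, ha, b, hb, rfl⟩ := Submodule.mem_sup.1 hw
    rw [map_add, hfU a ha, hfU' b hb, add_zero]
  have key : ∀ w ∈ U ⊔ U', B w w = 0 ∧ B w (x w) = 0 := by
    intro w hw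
    by_cases hw0 : w = 0
    · subst hw0; exact ⟨hB.zero_left _, hB.zero_left _⟩
    obtain ⟨hirr, hmem⟩ := irr_cyc (x := x) hf (hfs w hw) hw0
    have hle := cyc_le (x := x) (f := f) hinv hw
    rcases hirr.nd_or_ti hB hx hinj with h | h
    · exact absurd h (hno _ hle hirr)
    · exact ⟨h w hmem w hmem, h w hmem _ (hirr.2.1 w hmem)⟩
  have k0 : ∀ u ∈ U, ∀ u' ∈ U', B u u' + B u' u = 0 := by
    intro u hu u' hu'
    have h1 := (key (u + u') (Submodule.add_mem_sup hu hu')).1
    rw [hB.add_left, hB.add_right, hB.add_right, hti u hu u hu, hti' u' hu' u' hu', zero_add, add_zero] at h1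
    exact h1
  have k1 : ∀ u ∈ U, ∀ u' ∈ U', B u (x u') + B u' (x u) = 0 := by
    intro u hu u' hu'
    have h1 := (key (u + u') (Submodule.add_mem_sup hu hu')).2
    rw [map_add, hB.add_left, hB.add_right, hB.add_right, hti u hu _ (hU.2.1 u hu), hti' u' hu' _ (hU'.2.1 u' hu'),
      zero_add, add_zero] at h1
    exact h1
  obtain ⟨u', hu', hne⟩ := h2
  apply hne
  have h3 : x (x u') - u' ∈ U' ⊓ hB.perp U := by
    refine ⟨U'.sub_mem (hU'.2.1 _ (hU'.2.1 _ hu')) hu', ?_⟩
    rw [SetLike.mem_coe, hB.mem_perp']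
    intro u hu
    have e1 := k1 u hu (x u') (hU'.2.1 _ hu')
    rw [hx u' u] at e1
    have e0 := k0 u hu u' hu'
    rw [hB.sub_right]
    linear_combination e1 - e0
  rw [hp, Submodule.mem_bot, sub_eq_zero] at h3
  exact h3

/-! ### the adjoint of a polynomial in `x` -/

lemma adj_aeval (hB : Frm σ ε B) (hx : Isom B x) {P : ℕ} (hP : 0 < P) (hxP : x ^ (P + 1) = 1) (f : F[X]) (u v : V) :
    B (aeval x f u) v = B u (aeval x (expand F P (f.map σ)) v) := by
  induction f using Polynomial.induction_on' with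
  | add p q hp hq =>
    rw [map_add, LinearMap.add_apply, hB.add_left, hp, hq, Polynomial.map_add, map_add, map_add, LinearMap.add_apply,
      hB.add_right]
  | monomial n a =>
    rw [aeval_monomial, Module.End.mul_apply, Module.algebraMap_end_apply, hB.smul_left, map_monomial,
      expand_monomial, aeval_monomial, Module.End.mul_apply, Module.algebraMap_end_apply, hB.smul_right,
      hB.sigma_sq]
    congr 1
    have h1 : v = (x ^ n) ((x ^ (n * P)) v) := by
      rw [← Module.End.mul_apply, ← pow_add]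
      have : n + n * P = (P + 1) * n := by ring
      rw [this, pow_mul, hxP, one_pow]
      rfl
    conv_lhs => rw [h1]
    rw [hx.pow n]

/-- If `σ` is the `P`-th power map, `P` a power of the characteristic, then `f^P` has the coefficients raised. -/
lemma expand_map_eq_pow {p : ℕ} [hp : Fact p.Prime] [CharP F p] {e : ℕ} (hσ : ∀ a, σ a = a ^ (p ^ e)) (f : F[X]) :
    expand F (p ^ e) (f.map σ) = f ^ (p ^ e) := by
  have h1 : σ = iterateFrobenius F p e := by
    ext a
    rw [hσ, iterateFrobenius_def]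
  have h2 := Polynomial.map_iterateFrobenius_expand p f e
  rw [map_expand, ← h1] at h2
  exact h2

/-- Under self-duality, an irreducible polynomial killing `U` kills every minimal invariant `U'` not orthogonal
to `U`. -/
lemma killed_of_pairing (hB : Frm σ ε B) (hx : Isom B x) {p : ℕ} [Fact p.Prime] [CharP F p] {e : ℕ}
    (hσ : ∀ a, σ a = a ^ (p ^ e)) (hxP : x ^ (p ^ e + 1) = 1) {f : F[X]} (hfU : ∀ u ∈ U, aeval x f u = 0)
    (hU' : Irr x U') (hp : U' ⊓ hB.perp U = ⊥) : ∀ u ∈ U', aeval x f u = 0 := by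
  have hP : 0 < p ^ e := pow_pos (Fact.out : p.Prime).pos _
  have h1 : ∀ u' ∈ U', aeval x (f ^ (p ^ e)) u' = 0 := by
    intro u' hu'
    have h2 : aeval x (f ^ (p ^ e)) u' ∈ U' ⊓ hB.perp U := by
      refine ⟨hU'.2.1.aeval _ u' hu', ?_⟩
      rw [SetLike.mem_coe, hB.mem_perp']
      intro u hu
      rw [← expand_map_eq_pow hσ f, ← adj_aeval hB hx hP hxP, hfU u hu, hB.zero_left]
    rwa [hp, Submodule.mem_bot] at h2
  obtain ⟨v, hv, hv0⟩ := (Submodule.ne_bot_iff _).1 hU'.1
  rcases hU'.2.2 (U' ⊓ LinearMap.ker (aeval x f)) inf_le_left (hU'.2.1.inf (inv_ker_aeval f)) with h3 | h3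
  · exfalso
    -- f(x) is injective on U'
    have hinj : ∀ w ∈ U', aeval x f w = 0 → w = 0 := by
      intro w hw h0
      rw [← Submodule.mem_bot F, ← h3]
      exact ⟨hw, LinearMap.mem_ker.2 h0⟩
    have hpow : ∀ n : ℕ, ∀ w ∈ U', aeval x (f ^ n) w = 0 → w = 0 := by
      intro n
      induction n with
      | zero => intro w _ h0; simpa using h0
      | succ n ih =>
        intro w hw h0
        rw [pow_succ, map_mul, Module.End.mul_apply] at h0
        exact hinj w hw (ih _ (hU'.2.1.aeval f w hw) h0)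
    exact hv0 (hpow _ v hv (h1 v hv))
  · intro u hu
    rw [← h3] at hu
    exact LinearMap.mem_ker.1 hu.2

/-! ### blocks of prescribed dimension -/

/-- The numerical data of a family of isometries: `c` is the dimension of the minimal nondegenerate invariant
subspaces. Either `c = 2 i₀`, or `c = i₀` and the eigenvalues are self-dual. -/
def BlockNum (σ : F →+* F) (p r i₀ c : ℕ) : Prop :=
  c = 2 * i₀ ∨ (c = i₀ ∧ ∃ e : ℕ, (∀ a, σ a = a ^ (p ^ e)) ∧ r ∣ p ^ e + 1)

theorem exists_nd_block [Fintype F] [FiniteDimensional F V] [Fact r.Prime] (hr : (r : F) ≠ 0) (hr2 : r ≠ 2)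
    {p : ℕ} [Fact p.Prime] [CharP F p] {c : ℕ}
    (hB : Frm σ ε B) (hx : Isom B x) (hxr : x ^ r = 1)
    (hdiv : ∀ W' : Submodule F V, Inv x W' → Nd B W' → W' ≤ cm x → c ∣ finrank F W')
    (hc : BlockNum σ p r (orderOf (Fintype.card F : ZMod r)) c)
    (hW : Inv x W) (hWn : Nd B W) (hWc : W ≤ cm x) (h0 : W ≠ ⊥) :
    ∃ W' ≤ W, Inv x W' ∧ Nd B W' ∧ finrank F W' = c := by
  have hrP : r.Prime := Fact.out
  set i₀ := orderOf (Fintype.card F : ZMod r) with hi₀
  have hi₀pos : 0 < i₀ := ord_pos hr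
  have hinj : Function.Injective x := by
    obtain ⟨s, rfl⟩ : ∃ s, r = s + 1 := ⟨r - 1, by have := hrP.pos; omega⟩
    intro u v huv
    have h : ∀ w : V, (x ^ s) (x w) = w := by
      intro w
      rw [← Module.End.mul_apply, ← pow_succ, hxr]
      rfl
    rw [← h u, ← h v, huv]
  have hss := semisimple_of_pow hr hxr
  rcases exists_block hB hx hinj hss hW hWn h0 with ⟨U, hUW, hU, hUn⟩ |
    ⟨U, U', hUW, hU'W, hU, hU', hti, hti', hdis, hp, hnd⟩
  · have hd := hU.finrank_eq hr hxr (hUW.trans hWc)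
    have h1 := hdiv U hU.2.1 hUn (hUW.trans hWc)
    rw [hd, ← hi₀] at h1
    refine ⟨U, hUW, hU.2.1, hUn, ?_⟩
    rw [hd, ← hi₀]
    rcases hc with hc | ⟨hc, -⟩
    · rw [hc] at h1
      exact absurd (Nat.le_of_dvd hi₀pos h1) (by omega)
    · exact hc.symm
  · have hd := hU.finrank_eq hr hxr (hUW.trans hWc)
    have hd' := hU'.finrank_eq hr hxr (hU'W.trans hWc)
    rcases hc with hc | ⟨hc, e, hσ, hre⟩
    · refine ⟨U ⊔ U', sup_le hUW hU'W, hU.2.1.sup hU'.2.1, hnd, ?_⟩
      rw [finrank_sup_of_disj hdis, hd, hd', hc]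
      omega
    · have hxP : x ^ (p ^ e + 1) = 1 := by
        obtain ⟨k, hk⟩ := hre
        rw [hk, pow_mul, hxr, one_pow]
      obtain ⟨f, hf, hfd, hfU⟩ := hU.exists_factor (cyclotomic r F) (cyclotomic_ne_zero r F)
        fun v hv => cyclotomic_apply_of_mem_cm hxr ((hUW.trans hWc) hv)
      have hfU' := killed_of_pairing hB hx hσ hxP hfU hU' hp
      have h2 : ∃ u ∈ U', x (x u) ≠ u := by
        by_contra hno
        push Not at hno
        -- x = 1 on U'
        obtain ⟨v, hv, hv0⟩ := (Submodule.ne_bot_iff _).1 hU'.1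
        have hodd : Odd r := hrP.odd_of_ne_two hr2
        obtain ⟨k, hk⟩ := hodd
        have h3 : ∀ j : ℕ, ∀ w ∈ U', (x ^ (2 * j)) w = w := by
          intro j
          induction j with
          | zero => intro w _; simp
          | succ j ih =>
            intro w hw
            rw [mul_add, mul_one, pow_add, Module.End.mul_apply, pow_two, Module.End.mul_apply, hno w hw, ih w hw]
        have h4 : x v = v := by
          have h5 : (x ^ r) v = v := by rw [hxr]; rfl
          rw [hk, pow_add, pow_one, Module.End.mul_apply, h3 k _ (hU'.2.1 v hv)] at h5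
          exact h5
        apply hv0
        have h6 := (isCompl_fx_cm hr hxr).inf_eq_bot
        rw [← Submodule.mem_bot F, ← h6]
        exact ⟨mem_fx.2 h4, (hU'W.trans hWc) hv⟩
      obtain ⟨S, hS, hSi, hSn⟩ := exists_nd_irr hB hx hinj hf hU hU' hfU hfU' hti hti' hp h2
      have hSW : S ≤ W := hS.trans (sup_le hUW hU'W)
      refine ⟨S, hSW, hSi.2.1, hSn, ?_⟩
      rw [hSi.finrank_eq hr hxr (hSW.trans hWc), hc]

/-- Nondegenerate invariant subspaces of every dimension `c j ≤ dim W`. -/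
theorem exists_nd_finrank [Fintype F] [FiniteDimensional F V] [Fact r.Prime] (hr : (r : F) ≠ 0) (hr2 : r ≠ 2)
    {p : ℕ} [Fact p.Prime] [CharP F p] {c : ℕ}
    (hB : Frm σ ε B) (hx : Isom B x) (hxr : x ^ r = 1)
    (hdiv : ∀ W' : Submodule F V, Inv x W' → Nd B W' → W' ≤ cm x → c ∣ finrank F W')
    (hc : BlockNum σ p r (orderOf (Fintype.card F : ZMod r)) c)
    (hW : Inv x W) (hWn : Nd B W) (hWc : W ≤ cm x) {j : ℕ} (hj : c * j ≤ finrank F W) :
    ∃ W' ≤ W, Inv x W' ∧ Nd B W' ∧ finrank F W' = c * j := by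
  have hrP : r.Prime := Fact.out
  have hinj : Function.Injective x := by
    obtain ⟨s, rfl⟩ : ∃ s, r = s + 1 := ⟨r - 1, by have := hrP.pos; omega⟩
    intro u v huv
    have h : ∀ w : V, (x ^ s) (x w) = w := by
      intro w
      rw [← Module.End.mul_apply, ← pow_succ, hxr]
      rfl
    rw [← h u, ← h v, huv]
  have hcpos : 0 < c := by
    have := ord_pos (F := F) hr
    rcases hc with hc | ⟨hc, -⟩ <;> omega
  induction j with
  | zero => exact ⟨⊥, bot_le, inv_bot, fun u hu hu0 => absurd ((Submodule.mem_bot F).1 hu) hu0, by simp⟩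
  | succ j ih =>
    obtain ⟨W₁, h1, h2, h3, h4⟩ := ih (le_trans (Nat.mul_le_mul_left _ (Nat.le_succ j)) hj)
    have hT := hB.finrank_perp_inf h3 h1
    have hTn := hB.nd_perp_inf hWn h3 h1
    have hTi : Inv x (hB.perp W₁ ⊓ W) := (hx.inv_perp hB hinj h2).inf hW
    have hT0 : hB.perp W₁ ⊓ W ≠ ⊥ := by
      intro h0
      rw [h0, finrank_bot, h4] at hT
      rw [mul_add, mul_one] at hj
      omega
    obtain ⟨W₂, k1, k2, k3, k4⟩ := exists_nd_block hr hr2 hB hx hxr hdiv hc hTi hTn (inf_le_right.trans hWc) hT0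
    have h5 := hB.nd_sup k3 h3 (k1.trans inf_le_left)
    refine ⟨W₂ ⊔ W₁, sup_le (k1.trans inf_le_right) h1, k2.sup h2, h5.1, ?_⟩
    rw [finrank_sup_of_disj h5.2, k4, h4]
    ring

end Cfsg.Agent.H951
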