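import Cfsg.Agent.H951.Form
import Cfsg.Agent.ClassicalGeometry.HermOrthonormal
import Cfsg.Agent.ClassicalGeometry.SympIso
/-!
# Isometries between nondegenerate hermitian or alternating spaces of the same dimension

`Kind σ ε B`: hermitian over a finite field (`σ ≠ 1`, `ε = 1`) or alternating (`σ = 1`, `ε = -1`).
-/

set_option autoImplicit false
set_option linter.unusedSectionVars false
set_option linter.unusedVariables false

namespace Cfsg.Agent.H951

open Module Polynomial

variable {F V V' : Type*} [Field F] [AddCommGroup V] [Module F V] [AddCommGroup V'] [Module F V']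
variable {σ : F →+* F} {ε : F} {B : V → V → F} {B' : V' → V' → F} {U W : Submodule F V}

/-- Hermitian or alternating forms. -/
def Kind (σ : F →+* F) (ε : F) (B : V → V → F) : Prop :=
  (σ ≠ RingHom.id F ∧ ε = 1) ∨ (σ = RingHom.id F ∧ ε = -1 ∧ ∀ v, B v v = 0)

lemma ext_basis (hB : Frm σ ε B) (hB' : Frm σ ε B') {ι : Type*} [Fintype ι] (b : Basis ι F V') (φ : V' →ₗ[F] V)
    (h : ∀ i j, B (φ (b i)) (φ (b j)) = B' (b i) (b j)) (u v : V') : B (φ u) (φ v) = B' u v := by
  rw [← b.sum_repr u, ← b.sum_repr v, map_sum, map_sum, hB.sum_left, hB'.sum_left]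
  refine Finset.sum_congr rfl fun i _ => ?_
  rw [hB.sum_right, hB'.sum_right]
  refine Finset.sum_congr rfl fun j _ => ?_
  rw [map_smul, map_smul, hB.smul_left, hB.smul_right, hB'.smul_left, hB'.smul_right, h]

/-- The sesquilinear map (semilinear in the first variable) on `U`. -/
private noncomputable def sesq (hB : Frm σ ε B) (U : Submodule F V) : U →ₛₗ[σ] U →ₗ[F] F :=
  LinearMap.mk₂'ₛₗ σ (RingHom.id F) (fun u v => B v u)
    (fun u u' v => hB.add_right _ _ _) (fun a u v => hB.smul_right _ _ _)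
    (fun u v v' => hB.add_left _ _ _) (fun a u v => hB.smul_left _ _ _)

theorem exists_orthonormal [Finite F] [FiniteDimensional F V] (hσ : σ ≠ RingHom.id F) (hB : Frm σ 1 B)
    (hU : Nd B U) : ∃ b : Basis (Fin (finrank F U)) F U, ∀ i j, B (b i : V) (b j : V) = if i = j then 1 else 0 := by
  have hS : (sesq hB U).IsSymm := ⟨fun u v => by
    show σ (B (v : V) u) = B (u : V) v
    rw [hB.herm v u, one_mul]⟩
  have hN : (sesq hB U).SeparatingLeft := by
    intro u hu
    by_contra hne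
    obtain ⟨v, hv, huv⟩ := hU u.1 u.2 (fun h => hne (Subtype.ext h))
    have h1 : B v u = 0 := hu ⟨v, hv⟩
    exact huv (hB.eq_zero_comm.1 h1)
  obtain ⟨b, hb⟩ := ClassicalGeometry.HermOrthonormal.exists_orthonormal_basis hσ hB.sigma_sq (sesq hB U) hS hN
  refine ⟨b, fun i j => ?_⟩
  have h1 : B (b i : V) (b j : V) = if j = i then 1 else 0 := hb j i
  rw [h1]
  by_cases h : i = j
  · rw [if_pos h, if_pos h.symm]
  · rw [if_neg h, if_neg (Ne.symm h)]

/-- The linear map underlying a bilinear form on `U`. -/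
private noncomputable def bil {ε : F} (hB : Frm (RingHom.id F) ε B) (U : Submodule F V) : LinearMap.BilinForm F U :=
  LinearMap.mk₂ F (fun u v => B u v)
    (fun u u' v => hB.add_left _ _ _) (fun a u v => hB.smul_left _ _ _)
    (fun u v v' => hB.add_right _ _ _) (fun a u v => hB.smul_right _ _ _)

theorem even_finrank_of_alt [FiniteDimensional F V] {ε : F} (hB : Frm (RingHom.id F) ε B) (ha : ∀ v, B v v = 0)
    (hU : Nd B U) : Even (finrank F U) := by
  obtain ⟨m, l, b, -, -, -, h4⟩ := Cfsg.Agent.S0752.result (bil hB U) (fun v => ha v.1)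
  have hl : l = 0 := by
    by_contra hl
    have h5 : ∀ v : U, B (b (Sum.inr ⟨0, Nat.pos_of_ne_zero hl⟩) : V) v = 0 := h4 ⟨0, Nat.pos_of_ne_zero hl⟩
    obtain ⟨v, hv, huv⟩ := hU _ (b (Sum.inr ⟨0, Nat.pos_of_ne_zero hl⟩)).2
      (fun h => b.ne_zero (Sum.inr ⟨0, Nat.pos_of_ne_zero hl⟩) (Subtype.ext h))
    exact huv (h5 ⟨v, hv⟩)
  subst hl
  have := Module.finrank_eq_card_basis b
  simp at this
  exact ⟨m, this⟩

theorem exists_symp [FiniteDimensional F V] {ε : F} (hB : Frm (RingHom.id F) ε B) (ha : ∀ v, B v v = 0)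
    (hU : Nd B U) {k : ℕ} (hk : finrank F U = 2 * k) :
    ∃ e : (Fin k ⊕ Fin k → F) ≃ₗ[F] U, ∀ x y, B (e x : V) (e y : V) = sympForm k F x y := by
  refine ClassicalGeometry.SympIso.exists_linearEquiv_sympForm (bil hB U) (fun v => ha v.1) ?_ hk
  intro u hu
  by_contra hne
  obtain ⟨v, hv, huv⟩ := hU u.1 u.2 (fun h => hne (Subtype.ext h))
  exact huv (hu ⟨v, hv⟩)

/-- A nondegenerate space embeds isometrically onto every nondegenerate subspace of the same dimension. -/
theorem exists_isometry [Finite F] [FiniteDimensional F V] [FiniteDimensional F V'] (hB : Frm σ ε B)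
    (hB' : Frm σ ε B') (hK : Kind σ ε B) (hK' : Kind σ ε B') {U' : Submodule F V'} (hU : Nd B U) (hU' : Nd B' U')
    (hd : finrank F U' = finrank F U) :
    ∃ φ : U' ≃ₗ[F] U, ∀ u v : U', B (φ u : V) (φ v : V) = B' (u : V') (v : V') := by
  have hres : Frm σ ε (fun u v : U' => B' (u : V') (v : V')) :=
    ⟨fun u v w => hB'.add_left _ _ _, fun a u v => hB'.smul_left _ _ _, fun u v => hB'.herm _ _, hB'.sigma_sq, hB'.eps_ne⟩
  rcases hK with ⟨hσ, rfl⟩ | ⟨rfl, rfl, ha⟩
  · obtain ⟨b, hb⟩ := exists_orthonormal hσ hB hU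
    obtain ⟨b', hb'⟩ := exists_orthonormal hσ hB' hU'
    let φ : U' ≃ₗ[F] U := b'.equiv b (finCongr hd)
    refine ⟨φ, fun u v => ?_⟩
    refine ext_basis hB hres b' (U.subtype ∘ₗ (φ : U' →ₗ[F] U)) ?_ u v
    intro i j
    have h1 : ∀ i, φ (b' i) = b (finCongr hd i) := fun i => b'.equiv_apply _ _ _
    show B (φ (b' i) : V) (φ (b' j) : V) = _
    rw [h1, h1, hb, hb']
    simp
  · have ha' : ∀ v, B' v v = 0 := by
      rcases hK' with ⟨h, -⟩ | ⟨-, -, h⟩
      · exact absurd rfl h
      · exact h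
    obtain ⟨k, hk⟩ := even_finrank_of_alt hB ha hU
    obtain ⟨e, he⟩ := exists_symp hB ha hU (k := k) (by omega)
    obtain ⟨e', he'⟩ := exists_symp hB' ha' hU' (k := k) (by omega)
    refine ⟨e'.symm.trans e, fun u v => ?_⟩
    show B (e (e'.symm u) : V) (e (e'.symm v) : V) = _
    rw [he, ← he', e'.apply_symm_apply, e'.apply_symm_apply]

end Cfsg.Agent.H951
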