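import Cfsg.Agent.H253.TwoComm.RowHSTits
import Cfsg.Agent.H253.TwoComm.Cent
import Cfsg.Agent.HN.TwoClasses
import Cfsg.Agent.HN.DistinctC
import Cfsg.Agent.S1708
import Cfsg.Agent.S2056
import Cfsg.Agent.H419.Spor.HS

/-!
# Products of two commutators: the Harada-Norton group (helper951)

`C(t) = 2.HS.2`, `y ∈ C(t)` of order `11`: `|C(t y)| ≤ 44`.
-/

set_option autoImplicit false

namespace Cfsg.Agent.H951.TCRowHN

open Cfsg Subgroup Cfsg.Agent.H253.TC

universe u v

/-- centralizers in a subgroup of index two -/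
theorem card_cent_le_index {C : Type u} [Group C] [Finite C] (L : Subgroup C) [L.Normal] (y : ↥L) :
    Nat.card (centralizer ({(y : C)} : Set C)) ≤ Nat.card (centralizer ({y} : Set ↥L)) * L.index := by
  refine (card_cent_ext_le (QuotientGroup.mk' L) (y : C)).trans (Nat.mul_le_mul ?_ ?_)
  · refine Nat.card_le_card_of_injective (fun x => ⟨⟨(x : C), by
      have h := x.2.1
      exact (QuotientGroup.eq_one_iff (x : C)).1 h⟩, ?_⟩) ?_
    · have h := mem_centralizer_singleton_iff.1 x.2.2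
      exact mem_centralizer_singleton_iff.2 (Subtype.ext h)
    · intro a b hab
      exact Subtype.ext (congrArg (fun z => ((z.1 : ↥L) : C)) hab)
  · rw [Subgroup.index_eq_card]
    exact Nat.card_le_card_of_injective _ Subtype.val_injective

theorem hs_eleven {x : Spor.HS} (hx : orderOf x = 11) : Nat.card (centralizer ({x} : Set Spor.HS)) = 11 := by
  have hn' : Nat.card Spor.HS = 44352000 := NotCT.Orders.hs ⟨MulEquiv.refl _⟩
  have hfin : Finite Spor.HS := Nat.finite_of_card_ne_zero (by rw [hn']; norm_num)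
  have hs : IsSimpleGroup Spor.HS := Cfsg.Agent.H419.Spor.HS.facts.1
  exact Cfsg.Agent.H547.SelfCent.McLHS.hs ⟨MulEquiv.refl _⟩ (Cfsg.Agent.H393.Iso.na_hs ⟨MulEquiv.refl _⟩) hn' hx

/-- **The Harada-Norton group.** -/
theorem row {K : Type u} [Group K] [IsSimpleGroup K] (h : Spor.IsoHN K) : Row K := by
  have hn := NotCT.Orders.hn h
  obtain ⟨e⟩ := h
  refine Row.congr ?_ e.symm
  have hs : IsSimpleGroup Spor.HN := e.symm.isSimpleGroup
  have hcard : Nat.card Spor.HN = 273030912000000 := by rw [← hn, Nat.card_congr e.toEquiv]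
  have hfin : Finite Spor.HN := Nat.finite_of_card_ne_zero (by rw [hcard]; norm_num)
  obtain ⟨K', hK'n, hK'i, hz, ⟨f⟩, -⟩ := Cfsg.Agent.S1708.result
  have : Fact (Nat.Prime 11) := ⟨by norm_num⟩
  have hK' : Nat.card ↥K' * 2 = 177408000 := by
    rw [← Cfsg.Agent.HN.Index.card_H, ← hK'i]
    exact K'.card_mul_index
  have h11 : 11 ∣ Nat.card ↥K' := by omega
  obtain ⟨y, hy⟩ := exists_prime_orderOf_dvd_card' 11 h11
  have hy11 : y ^ 11 = 1 := by rw [← hy]; exact pow_orderOf_eq_one _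
  -- the centralizer in `2.HS`
  let π : ↥K' →* Spor.HS := f.toMonoidHom.comp (QuotientGroup.mk' (center ↥K'))
  have hker : Nat.card π.ker = 2 := by
    have h1 : π.ker = center ↥K' := by
      ext x
      rw [MonoidHom.mem_ker]
      show f (QuotientGroup.mk' (center ↥K') x) = 1 ↔ _
      rw [map_eq_one_iff f f.injective]
      exact QuotientGroup.eq_one_iff x
    rw [h1, hz]
  have hπy : orderOf (π y) = 11 := by
    refine orderOf_eq_prime (by rw [← map_pow, hy11, map_one]) fun h1 => ?_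
    have h1' : y ∈ π.ker := h1
    have h2 : orderOf (⟨y, h1'⟩ : ↥π.ker) ∣ Nat.card π.ker := orderOf_dvd_natCard _
    rw [Subgroup.orderOf_mk, hy, hker] at h2
    norm_num at h2
  have hfinHS : Finite Spor.HS := Nat.finite_of_card_ne_zero (by rw [Cfsg.Agent.H419.Spor.HS.facts.2]; norm_num)
  have h1 : Nat.card (centralizer ({y} : Set ↥K')) ≤ 2 * 11 :=
    card_cent_ext_le' π y hker.le (hs_eleven hπy).le
  have h2 := card_cent_le_index K' y
  rw [hK'i] at h2
  have h3 : Nat.card (centralizer ({(y : ↥Cfsg.Agent.HN.NormalH.H)} : Set ↥Cfsg.Agent.HN.NormalH.H)) ≤ 44 :=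
    h2.trans (Nat.mul_le_mul_right 2 h1)
  -- the involution
  have ht : (Cfsg.Agent.HN.Pres.hx ^ 2) * (Cfsg.Agent.HN.Pres.hx ^ 2) = 1 := by
    have h4 : orderOf (Cfsg.Agent.HN.Pres.hx ^ 2 : Cfsg.Spor.HN) = 2 := by
      rw [Cfsg.Agent.HN.TwoClasses.t_eq, Cfsg.Agent.HN.TwoClasses.orderOf_ψτ]
    have h5 := pow_orderOf_eq_one (Cfsg.Agent.HN.Pres.hx ^ 2 : Cfsg.Spor.HN)
    rw [h4] at h5
    rw [← pow_two]
    exact h5
  have hty : ((y : ↥Cfsg.Agent.HN.NormalH.H) : Spor.HN) * Cfsg.Agent.HN.Pres.hx ^ 2 =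
      Cfsg.Agent.HN.Pres.hx ^ 2 * ((y : ↥Cfsg.Agent.HN.NormalH.H) : Spor.HN) :=
    Cfsg.Agent.HN.Central.comm_of_mem (y : ↥Cfsg.Agent.HN.NormalH.H).2
  have hyp : ((y : ↥Cfsg.Agent.HN.NormalH.H) : Spor.HN) ^ 11 = 1 := by
    rw [← Subgroup.coe_pow, ← Subgroup.coe_pow, hy11]
    rfl
  have h6 := card_cent_mul_le ht hty (r := 11) (by decide) hyp
  have h7 := card_cent_le_of_inj (MulEquiv.subgroupCongr Cfsg.Agent.HN.Central.centralizer_eq).toMonoidHom
    (MulEquiv.subgroupCongr Cfsg.Agent.HN.Central.centralizer_eq).injective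
    (⟨((y : ↥Cfsg.Agent.HN.NormalH.H) : Spor.HN), mem_centralizer_singleton_iff.2 hty⟩ :
      centralizer ({Cfsg.Agent.HN.Pres.hx ^ 2} : Set Cfsg.Spor.HN))
  exact Row.of_card (p := 19) (c := 44) hcard (by norm_num) (by norm_num) Cfsg.Agent.S2056.result (by norm_num) (by norm_num)
    (by norm_num) (by norm_num) (by norm_num) (by norm_num) (by norm_num) _
    (h6.trans (h7.trans h3)) (by norm_num)

end Cfsg.Agent.H951.TCRowHN
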