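import Cfsg.Agent.H253.TwoComm.SporTool
import Cfsg.Agent.H253.TwoComm.Cent
import Cfsg.Agent.H690.Spor.ONRow
import Cfsg.Agent.GTwoRows.ONFin
import Cfsg.Agent.H375.LThree.Spec
import Cfsg.Agent.S2052

/-!
# Products of two commutators: the O'Nan group (helper951)

`C(v) = 4.L₃(4)`, `|v| = 4`, `y ∈ C(v)` of order `7`: `|C(v y)| ≤ 28`.
-/

set_option autoImplicit false

namespace Cfsg.Agent.H951.TCRowON

open Cfsg Subgroup Cfsg.Agent.H253.TC
open Cfsg.Spor (ON)
open Cfsg.Agent.KFacts.ON.Words Cfsg.Agent.KFacts.ON.Struct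

universe u v

/-- the centralizers of the elements of order `7` of `L₃(4)` -/
theorem card_le_psl {F : Type*} [Field F] [Fintype F] (hF : Fintype.card F = 4)
    (hc : Nat.card (Matrix.ProjectiveSpecialLinearGroup (Fin 3) F) = 20160)
    {x : Matrix.ProjectiveSpecialLinearGroup (Fin 3) F} (hx : orderOf x = 7) :
    Nat.card (centralizer ({x} : Set (Matrix.ProjectiveSpecialLinearGroup (Fin 3) F))) ≤ 7 := by
  have hch : CharP F 2 := by
    have : Fact (Nat.Prime 2) := ⟨Nat.prime_two⟩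
    obtain ⟨p, hp⟩ := CharP.exists F
    obtain ⟨n, hpp, hn⟩ := FiniteField.card F p
    have h1 : p ∣ 2 ^ 2 := by
      rw [show 2 ^ 2 = 4 by norm_num, ← hF, hn]
      exact dvd_pow_self p n.ne_zero
    obtain rfl := (Nat.prime_dvd_prime_iff_eq hpp Nat.prime_two).1 (hpp.dvd_of_dvd_pow h1)
    exact hp
  have hfin : Finite (Matrix.ProjectiveSpecialLinearGroup (Fin 3) F) :=
    Nat.finite_of_card_ne_zero (by rw [hc]; norm_num)
  have hdvd := Subgroup.card_subgroup_dvd_card (centralizer ({x} : Set (Matrix.ProjectiveSpecialLinearGroup (Fin 3) F)))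
  rw [hc] at hdvd
  have hprime : ∀ p : ℕ, p.Prime → p ∣ Nat.card (centralizer ({x} : Set (Matrix.ProjectiveSpecialLinearGroup (Fin 3) F))) →
      p = 7 := by
    intro p hp hpd
    by_contra h7
    have : Fact p.Prime := ⟨hp⟩
    obtain ⟨⟨z, hz⟩, hzo⟩ := exists_prime_orderOf_dvd_card' p hpd
    rw [Subgroup.orderOf_mk] at hzo
    have hcz : Commute z x := mem_centralizer_singleton_iff.1 hz
    have h1 : orderOf (z * x) = p * 7 := by
      rw [hcz.orderOf_mul_eq_mul_orderOf_of_coprime, hzo, hx]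
      rw [hzo, hx]
      exact (Nat.coprime_primes hp (by norm_num)).2 h7
    have h2 := Cfsg.Agent.H375.LThree.om_orderOf (z * x)
    rw [h1, hF] at h2
    have h3 : p ∣ 20160 := hpd.trans hdvd
    have h4 : p ∣ 2 ^ 6 * 3 ^ 2 * 5 * 7 := by norm_num; exact h3
    have h5 : p = 2 ∨ p = 3 ∨ p = 5 := by
      rcases hp.dvd_mul.1 h4 with h | h
      · rcases hp.dvd_mul.1 h with h | h
        · rcases hp.dvd_mul.1 h with h | h
          · left; exact (Nat.prime_dvd_prime_iff_eq hp Nat.prime_two).1 (hp.dvd_of_dvd_pow h)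
          · right; left; exact (Nat.prime_dvd_prime_iff_eq hp Nat.prime_three).1 (hp.dvd_of_dvd_pow h)
        · right; right; exact (Nat.prime_dvd_prime_iff_eq hp (by norm_num)).1 h
      · exact absurd ((Nat.prime_dvd_prime_iff_eq hp (by norm_num)).1 h) h7
    unfold Cfsg.Agent.H375.LThree.Om at h2
    rcases h5 with rfl | rfl | rfl <;> revert h2 <;> decide
  have h0 : Nat.card (centralizer ({x} : Set (Matrix.ProjectiveSpecialLinearGroup (Fin 3) F))) ≠ 0 := Nat.card_pos.ne'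
  obtain ⟨k, hk⟩ : ∃ k, Nat.card (centralizer ({x} : Set (Matrix.ProjectiveSpecialLinearGroup (Fin 3) F))) = 7 ^ k :=
    ⟨_, Nat.eq_prime_pow_of_unique_prime_dvd h0 fun {q} hq hd => hprime q hq hd⟩
  rw [hk] at hdvd ⊢
  have hk1 : k ≤ 1 := by
    by_contra h
    have h2 : 7 ^ 2 ∣ 20160 := (pow_dvd_pow 7 (by omega : 2 ≤ k)).trans hdvd
    norm_num at h2
  calc 7 ^ k ≤ 7 ^ 1 := Nat.pow_le_pow_right (by norm_num) hk1
    _ = 7 := by norm_num

/-- an element of `O'N` with centralizer of order at most `28` -/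
theorem exists_elt : ∃ m : ON, Nat.card (centralizer ({m} : Set ON)) ≤ 28 := by
  have hfinON : Finite ON := Cfsg.Agent.KFacts.ON.Cent.finite_ON
  have : Fact (Nat.Prime 7) := ⟨by norm_num⟩
  obtain ⟨F, _, _, hF, ⟨e⟩⟩ := Cfsg.Agent.GTwoRows.ONQuot.quot Cfsg.Agent.GTwoRows.h1170
  have hQ : Nat.card (Matrix.ProjectiveSpecialLinearGroup (Fin 3) F) = 20160 := by
    rw [← Nat.card_congr e.toEquiv, Cfsg.Agent.GTwoRows.ONQuot.card_Q]
  obtain ⟨y, hy⟩ := exists_prime_orderOf_dvd_card' (G := ↥J) 7 (by rw [card_J]; norm_num)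
  have hy7 : y ^ 7 = 1 := by rw [← hy]; exact pow_orderOf_eq_one _
  let π : ↥J →* Cfsg.Agent.GTwoRows.ONQuot.Q := QuotientGroup.mk' (center ↥J)
  have hker : Nat.card π.ker = 4 := by
    rw [show π.ker = center ↥J from QuotientGroup.ker_mk' _, Cfsg.Agent.GTwoRows.ONQuot.card_center]
  have hπy : orderOf (π y) = 7 := by
    refine orderOf_eq_prime (by rw [← map_pow, hy7, map_one]) fun h1 => ?_
    have h1' : y ∈ π.ker := h1
    have h2 : orderOf (⟨y, h1'⟩ : ↥π.ker) ∣ Nat.card π.ker := orderOf_dvd_natCard _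
    rw [Subgroup.orderOf_mk, hy, hker] at h2
    norm_num at h2
  have hfinP : Finite (Matrix.ProjectiveSpecialLinearGroup (Fin 3) F) :=
    Nat.finite_of_card_ne_zero (by rw [hQ]; norm_num)
  have hb : Nat.card (centralizer ({π y} : Set Cfsg.Agent.GTwoRows.ONQuot.Q)) ≤ 7 :=
    (card_cent_le_of_inj e.toMonoidHom e.injective (π y)).trans
      (card_le_psl hF hQ (by
        show orderOf (e (π y)) = 7
        rw [MulEquiv.orderOf_eq, hπy]))
  have hfinQ : Finite Cfsg.Agent.GTwoRows.ONQuot.Q := Cfsg.Agent.GTwoRows.ONQuot.finite_Q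
  have h1 : Nat.card (centralizer ({y} : Set ↥J)) ≤ 4 * 7 := card_cent_ext_le' π y hker.le hb
  refine ⟨v * (y : ON), le_trans ?_ h1⟩
  -- powers of `v y`
  have hv4 : v ^ 4 = 1 := Cfsg.Agent.KFacts.ON.Qs.v4
  have hc : Commute v (y : ON) := (mem_J.1 y.2).symm
  have hyo : (y : ON) ^ 7 = 1 := by rw [← Subgroup.coe_pow, hy7]; rfl
  have e1 : (v * (y : ON)) ^ 8 = (y : ON) := by
    rw [hc.mul_pow]
    have h2 : v ^ 8 = 1 := by rw [show 8 = 4 * 2 by norm_num, pow_mul, hv4, one_pow]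
    rw [h2, one_mul, show 8 = 7 + 1 by norm_num, pow_succ, hyo, one_mul]
  have e2 : (v * (y : ON)) ^ 21 = v := by
    rw [hc.mul_pow]
    have h2 : (y : ON) ^ 21 = 1 := by rw [show 21 = 7 * 3 by norm_num, pow_mul, hyo, one_pow]
    rw [h2, mul_one, show 21 = 4 * 5 + 1 by norm_num, pow_succ, pow_mul, hv4, one_pow, one_mul]
  have key : ∀ c ∈ centralizer ({v * (y : ON)} : Set ON), c * v = v * c ∧ c * (y : ON) = (y : ON) * c := by
    intro c hcc
    have h2 : Commute c (v * (y : ON)) := mem_centralizer_singleton_iff.1 hcc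
    constructor
    · have h3 := h2.pow_right 21
      rw [e2] at h3
      exact h3
    · have h3 := h2.pow_right 8
      rw [e1] at h3
      exact h3
  let f : centralizer ({v * (y : ON)} : Set ON) → centralizer ({y} : Set ↥J) := fun c =>
    ⟨⟨c, mem_J.2 (key c c.2).1⟩, mem_centralizer_singleton_iff.2 (Subtype.ext (key c c.2).2)⟩
  refine Nat.card_le_card_of_injective f fun a b hab => Subtype.ext ?_
  exact congrArg (fun z => ((z.1 : ↥J) : ON)) hab

/-- **The O'Nan group.** -/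
theorem row {K : Type u} [Group K] [IsSimpleGroup K] (h : Spor.IsoON K) : Row K := by
  obtain ⟨e⟩ := h
  refine Row.congr ?_ e.symm
  have hs : IsSimpleGroup ON := e.symm.isSimpleGroup
  obtain ⟨m, hm⟩ := exists_elt
  exact Row.of_card (p := 31) (c := 28) Cfsg.Agent.KFacts.ON.Cent.hON.2 (by norm_num) (by norm_num)
    Cfsg.Agent.S2052.result (by norm_num)
    (by norm_num) (by norm_num) (by norm_num) (by norm_num) (by norm_num) (by norm_num) m hm (by norm_num)

end Cfsg.Agent.H951.TCRowON
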