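import Cfsg.Agent.H253.TwoComm.SporTool
import Cfsg.Agent.H253.TwoComm.Cent
import Cfsg.Agent.H723.Spor.Th
import Cfsg.Agent.S2057

/-!
# Products of two commutators: the Thompson group (helper951)

`s` of order `7`, `a` a commuting involution: `C(s) ∩ C(a) = 7 × D₈`.
-/

set_option autoImplicit false

namespace Cfsg.Agent.H951.TCRowTh

open Cfsg Subgroup Cfsg.Agent.H253.TC

universe u v

theorem card_le {G : Type u} [Group G] [Finite G] {s a c d : G} (h : Cfsg.Agent.ThType.CentSeven.Setup s a c d) :
    Nat.card (centralizer ({a * s} : Set G)) ≤ 56 := by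
  have hs7 : s ^ 7 = 1 := by rw [← h.s7]; exact pow_orderOf_eq_one _
  refine (card_cent_mul_le h.a2 h.as.symm (r := 7) (by decide) hs7).trans ?_
  have h8 : Nat.card (closure ({c, d * c * d} : Set G)) = 8 :=
    Cfsg.Agent.ThType.CentSeven.card_closure h.c2 h.f2 h.ha h.a2 h.a1
  have h7 : Nat.card (zpowers s) = 7 := by rw [Nat.card_zpowers, h.s7]
  have h56 : Nat.card (↥(zpowers s) × ↥(closure ({c, d * c * d} : Set G))) = 56 := by
    rw [Nat.card_prod, h8, h7]
  rw [← h56]
  have hy : ∀ y : ↥(centralizer ({(⟨s, mem_centralizer_singleton_iff.2 h.as.symm⟩ : centralizer ({a} : Set G))} :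
        Set (centralizer ({a} : Set G)))), ∃ p : ↥(zpowers s) × ↥(closure ({c, d * c * d} : Set G)),
        (((y : centralizer ({a} : Set G)) : G)) = (p.1 : G) * (p.2 : G) := by
    intro y
    have h1 : ((y : centralizer ({a} : Set G)) : G) * a = a * ((y : centralizer ({a} : Set G)) : G) :=
      mem_centralizer_singleton_iff.1 (y : centralizer ({a} : Set G)).2
    have h2 : ((y : centralizer ({a} : Set G)) : G) * s = s * ((y : centralizer ({a} : Set G)) : G) :=
      congrArg Subtype.val (mem_centralizer_singleton_iff.1 y.2)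
    obtain ⟨i, z, hz, hyz⟩ := h.hC _ h2 h1
    exact ⟨(⟨s ^ i, zpow_mem (mem_zpowers s) i⟩, ⟨z, hz⟩), hyz⟩
  choose f hf using hy
  refine Nat.card_le_card_of_injective f fun y z hyz => ?_
  apply Subtype.ext
  apply Subtype.ext
  rw [hf, hf, hyz]

/-- **The Thompson group.** -/
theorem row {K : Type u} [Group K] [IsSimpleGroup K] (h : Spor.IsoTh K) : Row K := by
  obtain ⟨e⟩ := h
  refine Row.congr ?_ e.symm
  have hs : IsSimpleGroup Spor.Th := e.symm.isSimpleGroup
  have hcard : Nat.card Spor.Th = 90745943887872000 := Cfsg.Agent.H723.Spor.Th.card_th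
  have hfin : Finite Spor.Th := Nat.finite_of_card_ne_zero (by rw [hcard]; norm_num)
  have hset := Cfsg.Agent.H723.Spor.Th.setup Cfsg.Agent.KFacts.Th.Main.ctx Cfsg.Agent.H723.Spor.Th.hone
  exact Row.of_card (p := 31) (c := 56) hcard (by norm_num) (by norm_num) Cfsg.Agent.S2057.result (by norm_num)
    (by norm_num) (by norm_num) (by norm_num) (by norm_num) (by norm_num) (by norm_num) _ (card_le hset) (by norm_num)

end Cfsg.Agent.H951.TCRowTh
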