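import Cfsg.Agent.H951.Move
import Cfsg.Agent.H951.Main
import Cfsg.Agent.S0245
import Cfsg.Agent.S0776
/-!
# The symplectic space `F^{2d}`
-/

set_option autoImplicit false
set_option linter.unusedSectionVars false
set_option linter.unusedVariables false

namespace Cfsg.Agent.H951

open Module Polynomial Cfsg

section general

variable {F : Type*} [Field F] {d : ℕ}

open ClassicalGeometry.SympBasic in
lemma frm_symp (d : ℕ) : Frm (RingHom.id F) (-1) (sympForm d F) where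
  add_left u v w := sympForm_add_left u v w
  smul_left a u v := sympForm_smul_left a u v
  herm u v := by rw [RingHom.id_apply, sympForm_swap u v]; ring
  sigma_sq a := rfl
  eps_ne := neg_ne_zero.2 one_ne_zero

open ClassicalGeometry.SympBasic in
lemma kind_symp (d : ℕ) : Kind (RingHom.id F) (-1) (sympForm d F) := Or.inr ⟨rfl, rfl, fun v => sympForm_self v⟩

open ClassicalGeometry.SympBasic in
lemma nd_symp (d : ℕ) : Nd (sympForm d F) (⊤ : Submodule F (Fin d ⊕ Fin d → F)) := by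
  intro u _ hu
  by_contra hno
  push Not at hno
  exact hu (sympBilin_nondegenerate.1 u fun v => hno v trivial)

lemma isom_Sp (x : ↥(Matrix.symplecticGroup (Fin d) F)) :
    Isom (sympForm d F) (Matrix.toLin' (x : Matrix (Fin d ⊕ Fin d) (Fin d ⊕ Fin d) F)) := by
  intro u v
  rw [Matrix.toLin'_apply, Matrix.toLin'_apply]
  exact ClassicalGeometry.SympBasic.sympForm_mulVec x.2 u v

lemma exists_Sp {T : Module.End F (Fin d ⊕ Fin d → F)} (hT : Isom (sympForm d F) T) :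
    ∃ x : ↥(Matrix.symplecticGroup (Fin d) F), Matrix.toLin' (x : Matrix (Fin d ⊕ Fin d) (Fin d ⊕ Fin d) F) = T := by
  refine ⟨⟨LinearMap.toMatrix' T, ?_⟩, Matrix.toLin'_toMatrix' T⟩
  rw [ClassicalGeometry.SympBasic.mem_symplecticGroup_iff]
  intro u v
  rw [LinearMap.toMatrix'_mulVec, LinearMap.toMatrix'_mulVec]
  exact hT u v

lemma toLin'_smul_one' {ι : Type*} [Fintype ι] [DecidableEq ι] (z : F) :
    Matrix.toLin' (z • (1 : Matrix ι ι F)) = z • 1 := by
  rw [map_smul, Matrix.toLin'_one]; rfl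

lemma pow_toLin'' {ι : Type*} [Fintype ι] [DecidableEq ι] (M : Matrix ι ι F) (k : ℕ) :
    (Matrix.toLin' M) ^ k = Matrix.toLin' (M ^ k) := (Matrix.toLin'_pow M k).symm

/-- Statements about all `x ∈ Sp_{2d}` whose `r`-th power is scalar, in terms of linear maps. -/
theorem sstat_iff {r : ℕ} {P : Submodule F (Fin d ⊕ Fin d → F) → Prop} :
    (∀ x : ↥(Matrix.symplecticGroup (Fin d) F),
      (∃ z : F, ((x ^ r : ↥(Matrix.symplecticGroup (Fin d) F)) : Matrix (Fin d ⊕ Fin d) (Fin d ⊕ Fin d) F) = z • (1 : Matrix (Fin d ⊕ Fin d) (Fin d ⊕ Fin d) F)) →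
      (∀ z : F, (x : Matrix (Fin d ⊕ Fin d) (Fin d ⊕ Fin d) F) ≠ z • (1 : Matrix (Fin d ⊕ Fin d) (Fin d ⊕ Fin d) F)) →
      ∃ W : Submodule F (Fin d ⊕ Fin d → F), P W ∧
        W.map (Matrix.toLin' (x : Matrix (Fin d ⊕ Fin d) (Fin d ⊕ Fin d) F)) ≤ W) ↔
    ∀ T : Module.End F (Fin d ⊕ Fin d → F), Isom (sympForm d F) T → (∃ z : F, T ^ r = z • 1) →
      (∀ z : F, T ≠ z • 1) → ∃ W : Submodule F (Fin d ⊕ Fin d → F), P W ∧ Inv T W := by
  constructor
  · rintro h T hT ⟨z, hz⟩ hns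
    obtain ⟨x, rfl⟩ := exists_Sp hT
    obtain ⟨W, h1, h2⟩ := h x ⟨z, by
      apply Matrix.toLin'.injective
      rw [toLin'_smul_one', SubmonoidClass.coe_pow, ← pow_toLin'', hz]⟩ (fun z hz => hns z (by
        rw [hz, toLin'_smul_one']))
    exact ⟨W, h1, inv_iff_map.2 h2⟩
  · rintro h x ⟨z, hz⟩ hns
    obtain ⟨W, h1, h2⟩ := h _ (isom_Sp x) ⟨z, by
      rw [pow_toLin'', ← SubmonoidClass.coe_pow, hz, toLin'_smul_one']⟩ (fun z hz => hns z (by
        apply Matrix.toLin'.injective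
        rw [hz, toLin'_smul_one']))
    exact ⟨W, h1, inv_iff_map.1 h2⟩

lemma exists_ne_zero' (hd : 0 < d) : ∃ v : Fin d ⊕ Fin d → F, v ≠ 0 := ⟨Pi.single (Sum.inl ⟨0, hd⟩) 1, by
  intro h
  have := congrFun h (Sum.inl ⟨0, hd⟩)
  simp at this⟩

/-- The scalar is `±1`. -/
lemma scalar_sq {V : Type*} [AddCommGroup V] [Module F V] {ε : F} {B : V → V → F} (hB : Frm (RingHom.id F) ε B)
    (hV : Nd B (⊤ : Submodule F V)) (hne : ∃ v : V, v ≠ 0) {T : Module.End F V} (hT : Isom B T) {r : ℕ}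
    {z : F} (hz : T ^ r = z • 1) : z ^ 2 = 1 := by
  obtain ⟨u, hu⟩ := hne
  obtain ⟨v, -, huv⟩ := hV u trivial hu
  have h1 := hT.pow r u v
  rw [hz] at h1
  change B (z • u) (z • v) = B u v at h1
  rw [hB.smul_left, hB.smul_right, RingHom.id_apply] at h1
  have h2 : (z ^ 2 - 1) * B u v = 0 := by linear_combination h1
  rcases mul_eq_zero.1 h2 with h | h
  · linear_combination h
  · exact absurd h huv

end general

variable {F : Type*} [Field F] [Fintype F] {q d r : ℕ}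

lemma dvd_iff_cs {i c : ℕ} (hc : c = if Even i then i else 2 * i) (j : ℕ) : c ∣ 2 * j ↔ i ∣ 2 * j := by
  rw [hc]
  split_ifs with he
  · rfl
  · have hco : Nat.Coprime i 2 := by
      rw [Nat.not_even_iff_odd] at he
      exact Nat.coprime_two_right.2 he
    constructor
    · intro h; exact (Dvd.intro_left 2 rfl).trans h
    · intro h; exact Nat.mul_dvd_mul_left 2 (hco.dvd_of_dvd_mul_left h)

lemma even_cs {i c : ℕ} (hc : c = if Even i then i else 2 * i) : Even c := by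
  rw [hc]
  split_ifs with he
  · exact he
  · exact even_two_mul i

/-- `r ∣ q^{2j} - 1` iff `c ∣ 2j`. -/
lemma dvd_pow_sub_iff [Fact r.Prime] {i c : ℕ} (hq : 0 < q) (hi : i = orderOf (q : ZMod r))
    (hc : c = if Even i then i else 2 * i) (j : ℕ) : r ∣ q ^ (2 * j) - 1 ↔ c ∣ 2 * j := by
  rw [dvd_iff_cs hc, hi, orderOf_dvd_iff_pow_eq_one, ← ZMod.natCast_eq_zero_iff,
    Nat.cast_sub (Nat.one_le_pow _ _ hq)]
  push_cast
  rw [sub_eq_zero]

lemma blockNum_symp [Fact r.Prime] (hr2 : r ≠ 2) {p : ℕ} [Fact p.Prime] [CharP F p] (hF : Fintype.card F = q) {i c : ℕ}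
    (hi : i = orderOf (q : ZMod r)) (hi0 : 0 < i) (hc : c = if Even i then i else 2 * i) :
    BlockNum (RingHom.id F) p r (orderOf (Fintype.card F : ZMod r)) c := by
  rw [hF, ← hi]
  by_cases he : Even i
  · right
    rw [if_pos he] at hc
    refine ⟨hc, ?_⟩
    obtain ⟨m, hpp, hm⟩ := FiniteField.card F p
    rw [hF] at hm
    obtain ⟨j, hj⟩ := he
    refine ⟨m * j, fun a => ?_, ?_⟩
    · rw [RingHom.id_apply, pow_mul, ← hm, ← hF, FiniteField.pow_card_pow]
    · rw [pow_mul, ← hm, ← ZMod.natCast_eq_zero_iff]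
      push_cast
      have h8 : ((q : ZMod r) ^ j) ^ 2 = 1 := by
        rw [← pow_mul, mul_two, ← hj, hi]; exact pow_orderOf_eq_one _
      have h9 : ((q : ZMod r) ^ j - 1) * ((q : ZMod r) ^ j + 1) = 0 := by linear_combination h8
      rcases mul_eq_zero.1 h9 with h | h
      · exfalso
        have h1 : (q : ZMod r) ^ j = 1 := by linear_combination h
        rw [← orderOf_dvd_iff_pow_eq_one, ← hi] at h1
        have := Nat.le_of_dvd (by omega) h1
        omega
      · exact h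
  · left
    rw [hc, if_neg he]

variable {V : Type*} [AddCommGroup V] [Module F V] [FiniteDimensional F V] {B : V → V → F}

theorem dvd_finrank_symp [Fact r.Prime] (hr : (r : F) ≠ 0) (hF : Fintype.card F = q)
    (hB : Frm (RingHom.id F) (-1) B) (hK : Kind (RingHom.id F) (-1) B) {i c : ℕ}
    (hi : i = orderOf (q : ZMod r)) (hc : c = if Even i then i else 2 * i) {x : Module.End F V}
    (hxr : x ^ r = 1) (W : Submodule F V) (hWi : Inv x W) (hW : Nd B W) (hWc : W ≤ cm x) :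
    c ∣ finrank F W := by
  obtain ⟨j, hj⟩ := even_of_kind hB hK hW rfl
  have h1 := ord_dvd_finrank hxr hWi (inf_fx_of_le_cm hr hxr hWc)
  rw [hF, ← hi] at h1
  have h2 : finrank F W = 2 * j := by omega
  rw [h2, dvd_iff_cs hc, ← h2]
  exact h1

lemma ord_pos' [Fact r.Prime] (hF : Fintype.card F = q) (hr : (r : F) ≠ 0) {i : ℕ}
    (hi : i = orderOf (q : ZMod r)) : 0 < i := by
  have h := ord_pos (F := F) hr
  rwa [hF, ← hi] at h

theorem exists_block_symp [Fact r.Prime] (hF : Fintype.card F = q) {i k : ℕ}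
    (hi : i = orderOf (q : ZMod r)) (hi0 : 0 < i) (hc : 2 * k = if Even i then i else 2 * i) :
    ∃ y : Module.End F (Fin k ⊕ Fin k → F), Isom (sympForm k F) y ∧ y ^ r = 1 ∧ y ≠ 1 := by
  have hrP : r.Prime := Fact.out
  have hq : 0 < q := by rw [← hF]; exact Fintype.card_pos
  have hk0 : 0 < k := by
    split_ifs at hc <;> omega
  have h1 : r ∣ Nat.card (Matrix.symplecticGroup (Fin k) F) := by
    rw [Cfsg.Agent.S0245.result hF k]
    refine Dvd.dvd.mul_left ?_ _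
    refine dvd_trans ?_ (Finset.dvd_prod_of_mem _ (Finset.mem_range.2 (Nat.sub_lt hk0 one_pos)))
    have e1 : k - 1 + 1 = k := by omega
    rw [e1, dvd_pow_sub_iff hq hi hc]
  have : Finite (Matrix.symplecticGroup (Fin k) F) := inferInstance
  obtain ⟨g, hg⟩ := exists_prime_orderOf_dvd_card' r h1
  have hgr : g ^ r = 1 := by rw [← hg]; exact pow_orderOf_eq_one g
  refine ⟨Matrix.toLin' (g : Matrix (Fin k ⊕ Fin k) (Fin k ⊕ Fin k) F), isom_Sp g, ?_, ?_⟩
  · rw [pow_toLin'', ← SubmonoidClass.coe_pow, hgr, OneMemClass.coe_one, Matrix.toLin'_one]; rfl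
  · intro h
    have h4 : (g : Matrix (Fin k ⊕ Fin k) (Fin k ⊕ Fin k) F) = 1 := by
      apply Matrix.toLin'.injective
      rw [h, Matrix.toLin'_one]; rfl
    have h5 : g = 1 := Subtype.ext h4
    rw [h5, orderOf_one] at hg
    exact hrP.one_lt.ne hg

theorem exists_blk_symp [Fact r.Prime] (hr : (r : F) ≠ 0) (hF : Fintype.card F = q)
    (hB : Frm (RingHom.id F) (-1) B) (hK : Kind (RingHom.id F) (-1) B) {i c : ℕ}
    (hi : i = orderOf (q : ZMod r)) (hi0 : 0 < i) (hc : c = if Even i then i else 2 * i)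
    {U : Submodule F V} (hU : Nd B U) (hUc : finrank F U = c) :
    ∃ y : Module.End F V, Isom B y ∧ y ^ r = 1 ∧ hB.perp U ≤ fx y ∧ cm y = U := by
  obtain ⟨k, hk⟩ := even_cs hc
  have hc' : 2 * k = if Even i then i else 2 * i := by rw [← hc]; omega
  obtain ⟨y, hy, hyr, hy1⟩ := exists_block_symp hF hi hi0 hc'
  have hfr : finrank F (Fin k ⊕ Fin k → F) = c := by simp [hk]
  refine exists_blk hB (frm_symp k) hK (kind_symp k) (nd_symp k) hr ?_ hy hyr hy1 hU (by rw [hUc]; exact hfr)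
  intro y hy hyr
  rw [hfr]
  exact dvd_finrank_symp hr hF (frm_symp k) (kind_symp k) hi hc hyr _ inv_cm (hy.nd_cm (frm_symp k) hr hyr (nd_symp k)) le_rfl

theorem exists_elt_symp [Fact r.Prime] (hr : (r : F) ≠ 0) (hF : Fintype.card F = q)
    (hB : Frm (RingHom.id F) (-1) B) (hK : Kind (RingHom.id F) (-1) B) (hV : Nd B (⊤ : Submodule F V)) {i c : ℕ}
    (hi : i = orderOf (q : ZMod r)) (hi0 : 0 < i) (hc : c = if Even i then i else 2 * i) {M : ℕ}
    (hM : c * M ≤ finrank F V) :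
    ∃ x : Module.End F V, Isom B x ∧ x ^ r = 1 ∧ finrank F ↥(cm x) = c * M :=
  exists_elt hB hK hV hr (fun _ => even_cs hc) (fun U hU hUc => exists_blk_symp hr hF hB hK hi hi0 hc hU hUc) M hM

/-! ### counting -/

lemma toLin'_inj_Sp (g : ↥(Matrix.symplecticGroup (Fin d) F)) :
    Function.Injective (Matrix.toLin' (g : Matrix (Fin d ⊕ Fin d) (Fin d ⊕ Fin d) F)) := by
  intro u v huv
  have h := isom_Sp g
  by_contra hne
  obtain ⟨w, -, hw⟩ := nd_symp (F := F) d (u - v) trivial (sub_ne_zero.2 hne)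
  apply hw
  rw [← h, map_sub, huv, sub_self, (frm_symp d).zero_left]

/-- Orbit counting for `Sp_{2d}` on a class of subspaces. -/
theorem card_orbit_Sp {Ω : Type*} (W₀ : Submodule F (Fin d ⊕ Fin d → F)) (val : Ω → Submodule F (Fin d ⊕ Fin d → F))
    (hval : Function.Injective val)
    (hmem : ∀ g : ↥(Matrix.symplecticGroup (Fin d) F), ∃ w : Ω,
      val w = W₀.map (Matrix.toLin' (g : Matrix (Fin d ⊕ Fin d) (Fin d ⊕ Fin d) F)))
    (htrans : ∀ w : Ω, ∃ g : ↥(Matrix.symplecticGroup (Fin d) F),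
      W₀.map (Matrix.toLin' (g : Matrix (Fin d ⊕ Fin d) (Fin d ⊕ Fin d) F)) = val w) :
    Nat.card Ω * Nat.card ↥(Cfsg.stabilizing (Cfsg.spToMat d F) (W₀ : Set (Fin d ⊕ Fin d → F))) =
      Nat.card ↥(Matrix.symplecticGroup (Fin d) F) := by
  have : Finite (Matrix.symplecticGroup (Fin d) F) := inferInstance
  choose f hf using hmem
  refine card_mul_of_fiber _ f ?_ ?_
  · intro w
    obtain ⟨g, hg⟩ := htrans w
    exact ⟨g, hval (by rw [hf, hg])⟩
  · intro a b
    have hmul : ∀ (g h : ↥(Matrix.symplecticGroup (Fin d) F)) (v : Fin d ⊕ Fin d → F),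
        ((g * h : ↥(Matrix.symplecticGroup (Fin d) F)) : Matrix (Fin d ⊕ Fin d) (Fin d ⊕ Fin d) F).mulVec v =
        (g : Matrix (Fin d ⊕ Fin d) (Fin d ⊕ Fin d) F).mulVec ((h : Matrix (Fin d ⊕ Fin d) (Fin d ⊕ Fin d) F).mulVec v) := by
      intro g h v
      rw [Matrix.mulVec_mulVec]; rfl
    have hinv : ∀ (g : ↥(Matrix.symplecticGroup (Fin d) F)) (v : Fin d ⊕ Fin d → F),
        ((g⁻¹ : ↥(Matrix.symplecticGroup (Fin d) F)) : Matrix (Fin d ⊕ Fin d) (Fin d ⊕ Fin d) F).mulVec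
        ((g : Matrix (Fin d ⊕ Fin d) (Fin d ⊕ Fin d) F).mulVec v) = v := by
      intro g v
      rw [← hmul, inv_mul_cancel, OneMemClass.coe_one, Matrix.one_mulVec]
    have hinv' : ∀ (g : ↥(Matrix.symplecticGroup (Fin d) F)) (v : Fin d ⊕ Fin d → F),
        (g : Matrix (Fin d ⊕ Fin d) (Fin d ⊕ Fin d) F).mulVec
        (((g⁻¹ : ↥(Matrix.symplecticGroup (Fin d) F)) : Matrix (Fin d ⊕ Fin d) (Fin d ⊕ Fin d) F).mulVec v) = v := by
      intro g v
      rw [← hmul, mul_inv_cancel, OneMemClass.coe_one, Matrix.one_mulVec]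
    have hmem' : (a⁻¹ * b ∈ Cfsg.stabilizing (Cfsg.spToMat d F) (W₀ : Set (Fin d ⊕ Fin d → F))) ↔
      ∀ v, v ∈ W₀ ↔ ((a⁻¹ : ↥(Matrix.symplecticGroup (Fin d) F)) : Matrix (Fin d ⊕ Fin d) (Fin d ⊕ Fin d) F).mulVec
        ((b : Matrix (Fin d ⊕ Fin d) (Fin d ⊕ Fin d) F).mulVec v) ∈ W₀ := by
      constructor
      · intro h v; rw [← hmul]; exact h v
      · intro h v; have := h v; rw [← hmul] at this; exact this
    rw [hmem']
    constructor
    · intro h
      have h5 : W₀.map (Matrix.toLin' (a : Matrix (Fin d ⊕ Fin d) (Fin d ⊕ Fin d) F)) =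
        W₀.map (Matrix.toLin' (b : Matrix (Fin d ⊕ Fin d) (Fin d ⊕ Fin d) F)) := by rw [← hf, ← hf, h]
      intro v
      constructor
      · intro hv
        have h7 : (b : Matrix (Fin d ⊕ Fin d) (Fin d ⊕ Fin d) F).mulVec v ∈
            W₀.map (Matrix.toLin' (a : Matrix (Fin d ⊕ Fin d) (Fin d ⊕ Fin d) F)) := by
          rw [h5]; exact ⟨v, hv, rfl⟩
        obtain ⟨w, hw, hwv⟩ := h7
        rw [← hwv]
        change _ ∈ W₀
        rw [show Matrix.toLin' (a : Matrix (Fin d ⊕ Fin d) (Fin d ⊕ Fin d) F) w =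
          (a : Matrix (Fin d ⊕ Fin d) (Fin d ⊕ Fin d) F).mulVec w from rfl, hinv]
        exact hw
      · intro hv
        have h7 : (b : Matrix (Fin d ⊕ Fin d) (Fin d ⊕ Fin d) F).mulVec v ∈
            W₀.map (Matrix.toLin' (b : Matrix (Fin d ⊕ Fin d) (Fin d ⊕ Fin d) F)) := by
          rw [← h5]
          exact ⟨_, hv, hinv' a _⟩
        obtain ⟨w, hw, hwv⟩ := h7
        have : w = v := toLin'_inj_Sp b hwv
        rw [← this]
        exact hw
    · intro h
      apply hval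
      rw [hf, hf]
      symm
      apply Submodule.eq_of_le_of_finrank_eq
      · rintro _ ⟨v, hv, rfl⟩
        exact ⟨_, (h v).1 hv, hinv' a _⟩
      · rw [← (Submodule.equivMapOfInjective _ (toLin'_inj_Sp a) W₀).finrank_eq,
          ← (Submodule.equivMapOfInjective _ (toLin'_inj_Sp b) W₀).finrank_eq]

lemma exists_Sp_of_equiv (T : (Fin d ⊕ Fin d → F) ≃ₗ[F] (Fin d ⊕ Fin d → F))
    (hT : ∀ u v, sympForm d F (T u) (T v) = sympForm d F u v) :
    ∃ x : ↥(Matrix.symplecticGroup (Fin d) F), Matrix.toLin' (x : Matrix (Fin d ⊕ Fin d) (Fin d ⊕ Fin d) F) =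
      (T : (Fin d ⊕ Fin d → F) →ₗ[F] (Fin d ⊕ Fin d → F)) :=
  exists_Sp (T := (T : (Fin d ⊕ Fin d → F) →ₗ[F] (Fin d ⊕ Fin d → F))) hT

/-- The number of nondegenerate `2k`-spaces. -/
theorem card_nd_symp {k : ℕ} (hk : k ≤ d) :
    Nat.card {W : Submodule F (Fin d ⊕ Fin d → F) // finrank F ↥W = 2 * k ∧ Nd (sympForm d F) W} *
      (Nat.card (Matrix.symplecticGroup (Fin k) F) * Nat.card (Matrix.symplecticGroup (Fin (d - k)) F)) =
      Nat.card (Matrix.symplecticGroup (Fin d) F) := by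
  have hB := frm_symp (F := F) d
  have hK := kind_symp (F := F) d
  have hV := nd_symp (F := F) d
  have hfr : finrank F (Fin d ⊕ Fin d → F) = 2 * d := by simp [two_mul]
  obtain ⟨W₀, -, hW₀, hW₀m⟩ := exists_nd_sub hB hK hV (k := 2 * k) (by rw [finrank_top, hfr]; omega)
    (fun h => even_two_mul k)
  have hnd : ∀ u ∈ W₀, (∀ v ∈ W₀, sympForm d F u v = 0) → u = 0 := by
    intro u hu h
    by_contra h0
    obtain ⟨v, hv, huv⟩ := hW₀ u hu h0
    exact huv (h v hv)
  obtain ⟨e⟩ := Cfsg.Agent.S0776.result d k hk W₀ hW₀m hnd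
  have h3 := Nat.card_congr e.toEquiv
  rw [Nat.card_prod] at h3
  rw [← h3]
  refine card_orbit_Sp W₀ Subtype.val Subtype.val_injective ?_ ?_
  · intro g
    refine ⟨⟨W₀.map (Matrix.toLin' (g : Matrix (Fin d ⊕ Fin d) (Fin d ⊕ Fin d) F)), ?_, ?_⟩, rfl⟩
    · rw [← hW₀m]
      exact (Submodule.equivMapOfInjective _ (toLin'_inj_Sp g) W₀).finrank_eq.symm
    · rintro _ ⟨u, hu, rfl⟩ hu0
      have h0 : u ≠ 0 := by rintro rfl; exact hu0 (map_zero _)
      obtain ⟨v, hv, huv⟩ := hW₀ u hu h0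
      exact ⟨_, ⟨v, hv, rfl⟩, by rw [isom_Sp g]; exact huv⟩
  · rintro ⟨W, hWm, hW⟩
    obtain ⟨T, hT, hTW⟩ := exists_move hB hK hV hW hW₀ (by rw [hWm, hW₀m])
    obtain ⟨g, hg⟩ := exists_Sp_of_equiv T hT
    exact ⟨g, by rw [hg, hTW]⟩

end Cfsg.Agent.H951
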