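import Cfsg.Agent.H951.UElt
/-!
# Matrices of `SU_n(q)` and isometries; the number of nondegenerate `m`-spaces
-/

set_option autoImplicit false
set_option linter.unusedSectionVars false
set_option linter.unusedVariables false

namespace Cfsg.Agent.H951

open Module Polynomial Cfsg

variable {F : Type*} [Field F] [Fintype F] {q n r : ℕ}

lemma isom_SU {x : Matrix.SpecialLinearGroup (Fin n) F} (hx : x ∈ Cfsg.SU n F q) :
    Isom (hermForm n F q) (Matrix.toLin' (x : Matrix (Fin n) (Fin n) F)) := by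
  intro u v
  rw [Matrix.toLin'_apply, Matrix.toLin'_apply]
  exact hx u v

/-- An isometry of determinant 1 is an element of `SU_n`. -/
lemma exists_SU {T : Module.End F (Fin n → F)} (hT : Isom (hermForm n F q) T) (hd : LinearMap.det T = 1) :
    ∃ x : Matrix.SpecialLinearGroup (Fin n) F, x ∈ Cfsg.SU n F q ∧ Matrix.toLin' (x : Matrix (Fin n) (Fin n) F) = T := by
  refine ⟨⟨LinearMap.toMatrix' T, by rw [LinearMap.det_toMatrix']; exact hd⟩, ?_, ?_⟩
  · intro u v
    show hermForm n F q ((LinearMap.toMatrix' T).mulVec u) ((LinearMap.toMatrix' T).mulVec v) = _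
    rw [LinearMap.toMatrix'_mulVec, LinearMap.toMatrix'_mulVec]
    exact hT u v
  · exact Matrix.toLin'_toMatrix' T

/-- The determinant of an isometry. -/
lemma det_isom (hF : Fintype.card F = q ^ 2) {T : Module.End F (Fin n → F)} (hT : Isom (hermForm n F q) T) :
    LinearMap.det T ^ (q + 1) = 1 := by
  rw [← LinearMap.det_toMatrix']
  refine ClassicalGeometry.GUBasic.det_pow hF ?_
  intro u v
  rw [LinearMap.toMatrix'_mulVec, LinearMap.toMatrix'_mulVec]
  exact hT u v

lemma det_eq_one_of_coprime (hF : Fintype.card F = q ^ 2) {T : Module.End F (Fin n → F)}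
    (hT : Isom (hermForm n F q) T) (hTr : T ^ r = 1) (hco : Nat.Coprime r (q + 1)) : LinearMap.det T = 1 := by
  have h1 := det_isom hF hT
  have h2 : LinearMap.det T ^ r = 1 := by rw [← map_pow, hTr, map_one]
  have h3 : orderOf (LinearMap.det T) ∣ Nat.gcd r (q + 1) :=
    Nat.dvd_gcd (orderOf_dvd_of_pow_eq_one h2) (orderOf_dvd_of_pow_eq_one h1)
  rw [hco, Nat.dvd_one, orderOf_eq_one_iff] at h3
  exact h3

/-- A linear equivalence preserving the form gives an element of `GU_n`. -/
lemma exists_GU_of_equiv (T : (Fin n → F) ≃ₗ[F] (Fin n → F))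
    (hT : ∀ u v, hermForm n F q (T u) (T v) = hermForm n F q u v) :
    ∃ g : Cfsg.GU n F q, Matrix.toLin' (((g : Matrix.GeneralLinearGroup (Fin n) F) : Matrix (Fin n) (Fin n) F)) =
      (T : (Fin n → F) →ₗ[F] (Fin n → F)) := by
  let A : Matrix.GeneralLinearGroup (Fin n) F :=
    ⟨LinearMap.toMatrix' (T : (Fin n → F) →ₗ[F] (Fin n → F)), LinearMap.toMatrix' (T.symm : (Fin n → F) →ₗ[F] (Fin n → F)),
      by rw [← LinearMap.toMatrix'_comp]; simp, by rw [← LinearMap.toMatrix'_comp]; simp⟩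
  refine ⟨⟨A, ?_⟩, ?_⟩
  · intro u v
    show hermForm n F q ((LinearMap.toMatrix' (T : (Fin n → F) →ₗ[F] (Fin n → F))).mulVec u)
      ((LinearMap.toMatrix' (T : (Fin n → F) →ₗ[F] (Fin n → F))).mulVec v) = _
    rw [LinearMap.toMatrix'_mulVec, LinearMap.toMatrix'_mulVec]
    exact hT u v
  · exact Matrix.toLin'_toMatrix' _

/-- The number of nondegenerate `m`-spaces. -/
theorem card_nd_unitary (hF : Fintype.card F = q ^ 2) {m : ℕ} (hm : m ≤ n) :
    Nat.card {W : Submodule F (Fin n → F) // finrank F ↥W = m ∧ Nd (hermForm n F q) W} *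
      (Nat.card (Cfsg.GU m F q) * Nat.card (Cfsg.GU (n - m) F q)) = Nat.card (Cfsg.GU n F q) := by
  have hq := ClassicalGeometry.GUBasic.two_le hF
  obtain ⟨σ, hσ, h2, hne⟩ := exists_sig hF
  have hB := frm_herm hσ h2 n
  have hV : Nd (hermForm n F q) (⊤ : Submodule F (Fin n → F)) := nd_herm (by omega)
  obtain ⟨W₀, -, hW₀, hW₀m⟩ := exists_nd_sub hB (kind_herm hne n) hV (k := m) (by simpa using hm)
    (fun h => absurd h hne)
  have hnd : ∀ u ∈ W₀, (∀ v ∈ W₀, hermForm n F q u v = 0) → u = 0 := by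
    intro u hu h
    by_contra h0
    obtain ⟨v, hv, huv⟩ := hW₀ u hu h0
    exact huv (h v hv)
  obtain ⟨e⟩ := Cfsg.Agent.S0837.result hF n m hm W₀ hW₀m hnd
  have h3 := Nat.card_congr e.toEquiv
  rw [Nat.card_prod] at h3
  rw [← h3]
  have : Finite (Cfsg.GU n F q) := inferInstance
  have hlin : ∀ g : Cfsg.GU n F q, Function.Injective
      (Matrix.toLin' (((g : Matrix.GeneralLinearGroup (Fin n) F) : Matrix (Fin n) (Fin n) F))) := by
    intro g
    rw [← LinearMap.ker_eq_bot, LinearMap.ker_eq_bot']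
    intro v hv
    have h4 : (((g : Matrix.GeneralLinearGroup (Fin n) F)⁻¹ : Matrix.GeneralLinearGroup (Fin n) F) :
        Matrix (Fin n) (Fin n) F).mulVec ((((g : Matrix.GeneralLinearGroup (Fin n) F) : Matrix (Fin n) (Fin n) F)).mulVec v)
        = v := by
      rw [Matrix.mulVec_mulVec, ← Units.val_mul, inv_mul_cancel, Units.val_one, Matrix.one_mulVec]
    rw [Matrix.toLin'_apply] at hv
    rw [hv, Matrix.mulVec_zero] at h4
    exact h4.symm
  have hiso : ∀ g : Cfsg.GU n F q, ∀ u v, hermForm n F q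
      (Matrix.toLin' (((g : Matrix.GeneralLinearGroup (Fin n) F) : Matrix (Fin n) (Fin n) F)) u)
      (Matrix.toLin' (((g : Matrix.GeneralLinearGroup (Fin n) F) : Matrix (Fin n) (Fin n) F)) v) = hermForm n F q u v :=
    fun g u v => g.2 u v
  let f : Cfsg.GU n F q → {W : Submodule F (Fin n → F) // finrank F ↥W = m ∧ Nd (hermForm n F q) W} := fun g =>
    ⟨W₀.map (Matrix.toLin' (((g : Matrix.GeneralLinearGroup (Fin n) F) : Matrix (Fin n) (Fin n) F))), by
      constructor
      · rw [← hW₀m]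
        exact (Submodule.equivMapOfInjective _ (hlin g) W₀).finrank_eq.symm
      · rintro _ ⟨u, hu, rfl⟩ hu0
        have h0 : u ≠ 0 := by rintro rfl; exact hu0 (map_zero _)
        obtain ⟨v, hv, huv⟩ := hW₀ u hu h0
        exact ⟨_, ⟨v, hv, rfl⟩, by rw [hiso]; exact huv⟩⟩
  refine card_mul_of_fiber _ f ?_ ?_
  · rintro ⟨W, hWm, hW⟩
    obtain ⟨T, hT, hTW⟩ := exists_move hB (kind_herm hne n) hV hW hW₀ (by rw [hWm, hW₀m])
    obtain ⟨g, hg⟩ := exists_GU_of_equiv T hT
    refine ⟨g, Subtype.ext ?_⟩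
    show W₀.map _ = W
    rw [hg, hTW]
  · intro a b
    rw [Subgroup.mem_subgroupOf]
    have key : ∀ g : Cfsg.GU n F q, ∀ v, Matrix.toLin' (((g : Matrix.GeneralLinearGroup (Fin n) F) : Matrix (Fin n) (Fin n) F)) v
        = ((g : Matrix.GeneralLinearGroup (Fin n) F) : Matrix (Fin n) (Fin n) F).mulVec v := fun g v => rfl
    constructor
    · intro h v
      have h5 : W₀.map (Matrix.toLin' (((a : Matrix.GeneralLinearGroup (Fin n) F) : Matrix (Fin n) (Fin n) F))) =
        W₀.map (Matrix.toLin' (((b : Matrix.GeneralLinearGroup (Fin n) F) : Matrix (Fin n) (Fin n) F))) :=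
        congrArg Subtype.val h
      have h6 : (glToMat (Fin n) F) ((a⁻¹ * b : Cfsg.GU n F q) : Matrix.GeneralLinearGroup (Fin n) F) =
        (((a : Matrix.GeneralLinearGroup (Fin n) F)⁻¹ : Matrix.GeneralLinearGroup (Fin n) F) : Matrix (Fin n) (Fin n) F) *
        ((b : Matrix.GeneralLinearGroup (Fin n) F) : Matrix (Fin n) (Fin n) F) := rfl
      rw [h6, ← Matrix.mulVec_mulVec]
      constructor
      · intro hv
        have h7 : Matrix.toLin' (((b : Matrix.GeneralLinearGroup (Fin n) F) : Matrix (Fin n) (Fin n) F)) v ∈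
          W₀.map (Matrix.toLin' (((a : Matrix.GeneralLinearGroup (Fin n) F) : Matrix (Fin n) (Fin n) F))) := by
          rw [h5]; exact ⟨v, hv, rfl⟩
        obtain ⟨w, hw, hwv⟩ := h7
        rw [key, key] at hwv
        rw [← hwv, Matrix.mulVec_mulVec, ← Units.val_mul, inv_mul_cancel, Units.val_one, Matrix.one_mulVec]
        exact hw
      · intro hv
        have h7 : Matrix.toLin' (((b : Matrix.GeneralLinearGroup (Fin n) F) : Matrix (Fin n) (Fin n) F)) v ∈
          W₀.map (Matrix.toLin' (((b : Matrix.GeneralLinearGroup (Fin n) F) : Matrix (Fin n) (Fin n) F))) := by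
          rw [← h5]
          refine ⟨_, hv, ?_⟩
          rw [key, key, Matrix.mulVec_mulVec, ← Units.val_mul, mul_inv_cancel, Units.val_one, Matrix.one_mulVec]
        obtain ⟨w, hw, hwv⟩ := h7
        rw [← hlin b hwv]
        exact hw
    · intro h
      have h' : ∀ v, v ∈ (W₀ : Set (Fin n → F)) ↔ ((((a : Matrix.GeneralLinearGroup (Fin n) F)⁻¹ :
        Matrix.GeneralLinearGroup (Fin n) F) : Matrix (Fin n) (Fin n) F) *
        ((b : Matrix.GeneralLinearGroup (Fin n) F) : Matrix (Fin n) (Fin n) F)).mulVec v ∈ (W₀ : Set (Fin n → F)) := h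
      apply Subtype.ext
      show W₀.map (Matrix.toLin' _) = W₀.map (Matrix.toLin' _)
      symm
      apply Submodule.eq_of_le_of_finrank_eq
      · rintro _ ⟨v, hv, rfl⟩
        refine ⟨_, (h' v).1 hv, ?_⟩
        rw [key, key, Matrix.mulVec_mulVec, ← mul_assoc, ← Units.val_mul, mul_inv_cancel, Units.val_one, one_mul]
      · rw [← (Submodule.equivMapOfInjective _ (hlin a) W₀).finrank_eq,
          ← (Submodule.equivMapOfInjective _ (hlin b) W₀).finrank_eq]

end Cfsg.Agent.H951
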