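import Cfsg.Agent.H951.Sub
import Cfsg.Agent.H951.Block
/-!
# Operators supported on a nondegenerate subspace, gluing of isometries
-/

set_option autoImplicit false
set_option linter.unusedSectionVars false
set_option linter.unusedVariables false

namespace Cfsg.Agent.H951

open Module Polynomial

variable {F V : Type*} [Field F] [AddCommGroup V] [Module F V] [FiniteDimensional F V]
variable {σ : F →+* F} {ε : F} {B : V → V → F} {U W : Submodule F V} {r : ℕ}

/-- An operator on `U` extended by zero on `U^⊥`. -/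
noncomputable def lift (hB : Frm σ ε B) (hU : Nd B U) (A : Module.End F U) : Module.End F V :=
  U.subtype ∘ₗ A ∘ₗ U.projectionOnto (hB.perp U) (hB.isCompl_perp hU)

lemma lift_mem (hB : Frm σ ε B) (hU : Nd B U) (A : Module.End F U) (v : V) : lift hB hU A v ∈ U := Subtype.coe_prop _

lemma lift_of_mem (hB : Frm σ ε B) (hU : Nd B U) (A : Module.End F U) (u : U) : lift hB hU A u = A u := by
  show ((A (U.projectionOnto (hB.perp U) (hB.isCompl_perp hU) u) : U) : V) = A u
  rw [Submodule.projectionOnto_apply_left]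

lemma lift_of_perp (hB : Frm σ ε B) (hU : Nd B U) (A : Module.End F U) {v : V} (hv : v ∈ hB.perp U) :
    lift hB hU A v = 0 := by
  show ((A (U.projectionOnto (hB.perp U) (hB.isCompl_perp hU) v) : U) : V) = 0
  rw [Submodule.projectionOnto_apply_of_mem_right _ hv, map_zero, Submodule.coe_zero]

lemma lift_mul (hB : Frm σ ε B) (hU : Nd B U) (A A' : Module.End F U) :
    lift hB hU (A * A') = lift hB hU A * lift hB hU A' := by
  ext v
  show ((A (A' _) : U) : V) = lift hB hU A ((A' _ : U) : V)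
  rw [lift_of_mem]

lemma lift_add (hB : Frm σ ε B) (hU : Nd B U) (A A' : Module.End F U) :
    lift hB hU (A + A') = lift hB hU A + lift hB hU A' := rfl

lemma lift_pow (hB : Frm σ ε B) (hU : Nd B U) (A : Module.End F U) {n : ℕ} (hn : n ≠ 0) :
    lift hB hU (A ^ n) = lift hB hU A ^ n := by
  induction n with
  | zero => exact absurd rfl hn
  | succ n ih =>
    by_cases h : n = 0
    · subst h; rw [zero_add, pow_one, pow_one]
    · rw [pow_succ, pow_succ, lift_mul, ih h]

lemma exists_decomp (hB : Frm σ ε B) (hU : Nd B U) (v : V) : ∃ (u : U), ∃ w ∈ hB.perp U, v = u + w := by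
  have : v ∈ U ⊔ hB.perp U := by rw [(hB.isCompl_perp hU).sup_eq_top]; trivial
  obtain ⟨u, hu, w, hw, rfl⟩ := Submodule.mem_sup.1 this
  exact ⟨⟨u, hu⟩, w, hw, rfl⟩

lemma mem_perp_iff' {hB : Frm σ ε B} {v : V} (hv : v ∈ hB.perp U) {u : V} (hu : u ∈ U) : B u v = 0 ∧ B v u = 0 :=
  ⟨hB.eq_zero_comm.1 (hv u hu), hv u hu⟩

/-- The extension of an operator on `U` by the identity on `U^⊥`. -/
noncomputable def ext1 (hB : Frm σ ε B) (hU : Nd B U) (A : Module.End F U) : Module.End F V :=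
  1 + lift hB hU (A - 1)

lemma ext1_of_mem (hB : Frm σ ε B) (hU : Nd B U) (A : Module.End F U) (u : U) : ext1 hB hU A u = A u := by
  rw [ext1, LinearMap.add_apply, lift_of_mem, LinearMap.sub_apply, Submodule.coe_sub]
  simp

lemma ext1_of_perp (hB : Frm σ ε B) (hU : Nd B U) (A : Module.End F U) {v : V} (hv : v ∈ hB.perp U) :
    ext1 hB hU A v = v := by
  rw [ext1, LinearMap.add_apply, lift_of_perp hB hU _ hv, add_zero]
  rfl

lemma ext1_pow_of_mem (hB : Frm σ ε B) (hU : Nd B U) (A : Module.End F U) (n : ℕ) (u : U) :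
    (ext1 hB hU A ^ n) u = (A ^ n) u := by
  induction n generalizing u with
  | zero => simp
  | succ n ih => rw [pow_succ, pow_succ, Module.End.mul_apply, Module.End.mul_apply, ext1_of_mem, ih]

lemma ext1_pow_of_perp (hB : Frm σ ε B) (hU : Nd B U) (A : Module.End F U) (n : ℕ) {v : V} (hv : v ∈ hB.perp U) :
    (ext1 hB hU A ^ n) v = v := by
  induction n with
  | zero => simp
  | succ n ih => rw [pow_succ, Module.End.mul_apply, ext1_of_perp hB hU A hv, ih]

lemma ext1_isom (hB : Frm σ ε B) (hU : Nd B U) {A : Module.End F U}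
    (hA : ∀ u v : U, B (A u : V) (A v : V) = B (u : V) (v : V)) : Isom B (ext1 hB hU A) := by
  intro v v'
  obtain ⟨u, w, hw, rfl⟩ := exists_decomp hB hU v
  obtain ⟨u', w', hw', rfl⟩ := exists_decomp hB hU v'
  rw [map_add, map_add, ext1_of_mem, ext1_of_mem, ext1_of_perp hB hU A hw, ext1_of_perp hB hU A hw',
    hB.add_left, hB.add_right, hB.add_right, hA, (mem_perp_iff' hw' (A u).2).1, (mem_perp_iff' hw (A u').2).2,
    hB.add_left, hB.add_right, hB.add_right, (mem_perp_iff' hw' u.2).1, (mem_perp_iff' hw u'.2).2]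

lemma ext1_pow_eq_one (hB : Frm σ ε B) (hU : Nd B U) {A : Module.End F U} (hA : A ^ r = 1) :
    ext1 hB hU A ^ r = 1 := by
  ext v
  obtain ⟨u, w, hw, rfl⟩ := exists_decomp hB hU v
  rw [map_add, ext1_pow_of_mem, ext1_pow_of_perp hB hU A r hw, hA]
  rfl

lemma perp_le_fx_ext1 (hB : Frm σ ε B) (hU : Nd B U) (A : Module.End F U) : hB.perp U ≤ fx (ext1 hB hU A) :=
  fun v hv => mem_fx.2 (ext1_of_perp hB hU A hv)

lemma cm_ext1_le (hB : Frm σ ε B) (hU : Nd B U) (A : Module.End F U) : cm (ext1 hB hU A) ≤ U := by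
  intro v hv
  obtain ⟨w, rfl⟩ := mem_cm.1 hv
  have : ext1 hB hU A w - w = lift hB hU (A - 1) w := by
    rw [ext1, LinearMap.add_apply]
    simp
  rw [this]
  exact lift_mem hB hU _ w

/-! ### gluing -/

section glue

variable {x y : Module.End F V}

/-- `y` is supported on `U`, `x` is trivial on `U`. -/
lemma glue_comm (hB : Frm σ ε B) (hU : Nd B U) (hx : Isom B x) (hxU : U ≤ fx x) (hyc : cm y ≤ U)
    (hyp : hB.perp U ≤ fx y) : x * y = y * x := by
  have hxp : ∀ w ∈ hB.perp U, x w ∈ hB.perp U := by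
    intro w hw u hu
    rw [← mem_fx.1 (hxU hu), hx]
    exact hw u hu
  have hyU : ∀ u ∈ U, y u ∈ U := by
    intro u hu
    have h1 : y u - u ∈ U := hyc (mem_cm.2 ⟨u, rfl⟩)
    have := U.add_mem h1 hu
    rwa [sub_add_cancel] at this
  ext v
  obtain ⟨u, w, hw, rfl⟩ := exists_decomp hB hU v
  rw [Module.End.mul_apply, Module.End.mul_apply, map_add, map_add, map_add, map_add,
    mem_fx.1 (hxU (hyU u u.2)), mem_fx.1 (hxU u.2), mem_fx.1 (hyp hw), mem_fx.1 (hyp (hxp w hw))]

lemma glue_fx (hB : Frm σ ε B) (hU : Nd B U) (hx : Isom B x) (hxU : U ≤ fx x) (hyc : cm y ≤ U)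
    (hyp : hB.perp U ≤ fx y) : cm x ≤ hB.perp U := by
  intro v hv u hu
  exact hB.eq_zero_comm.1 (hx.fx_cm hB (hxU hu) hv)

lemma glue_cm (hB : Frm σ ε B) (hU : Nd B U) (hx : Isom B x) (hxU : U ≤ fx x) (hyc : cm y ≤ U)
    (hyp : hB.perp U ≤ fx y) : cm (x * y) = cm x ⊔ cm y ∧ cm x ⊓ cm y = ⊥ := by
  have hyU : ∀ u ∈ U, y u ∈ U := by
    intro u hu
    have h1 : y u - u ∈ U := hyc (mem_cm.2 ⟨u, rfl⟩)
    have := U.add_mem h1 hu
    rwa [sub_add_cancel] at this
  have h2 : ∀ (u : U) (w : V), w ∈ hB.perp U → (x * y) (u + w) - (u + w) = (x w - w) + (y u - u) := by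
    intro u w hw
    rw [Module.End.mul_apply, map_add, map_add, mem_fx.1 (hxU (hyU u u.2)), mem_fx.1 (hyp hw)]
    abel
  constructor
  · apply le_antisymm
    · intro v hv
      obtain ⟨z, rfl⟩ := mem_cm.1 hv
      obtain ⟨u, w, hw, rfl⟩ := exists_decomp hB hU z
      rw [h2 u w hw]
      exact Submodule.add_mem_sup (mem_cm.2 ⟨w, rfl⟩) (mem_cm.2 ⟨u, rfl⟩)
    · apply sup_le
      · intro v hv
        obtain ⟨z, rfl⟩ := mem_cm.1 hv
        obtain ⟨u, w, hw, rfl⟩ := exists_decomp hB hU z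
        have h3 := h2 0 w hw
        rw [map_add, mem_fx.1 (hxU u.2)]
        refine mem_cm.2 ⟨w, ?_⟩
        simp only [Submodule.coe_zero, zero_add, map_zero, sub_self, add_zero] at h3
        rw [h3]
        abel
      · intro v hv
        obtain ⟨z, rfl⟩ := mem_cm.1 hv
        obtain ⟨u, w, hw, rfl⟩ := exists_decomp hB hU z
        have h3 := h2 u 0 (Submodule.zero_mem _)
        rw [map_add, mem_fx.1 (hyp hw)]
        refine mem_cm.2 ⟨u, ?_⟩
        simp only [add_zero, map_zero, sub_self, zero_add] at h3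
        rw [h3]
        abel
  · rw [eq_bot_iff]
    intro v hv
    have h4 := (hB.nd_iff.1 hU)
    rw [← h4]
    exact ⟨hyc hv.2, glue_fx hB hU hx hxU hyc hyp hv.1⟩

lemma isom_mul (hx : Isom B x) (hy : Isom B y) : Isom B (x * y) := by
  intro u v
  rw [Module.End.mul_apply, Module.End.mul_apply, hx, hy]

end glue

/-- Elements `x` with `x^r = 1` and `dim [V, x] = c M`, from blocks of dimension `c`. -/
theorem exists_elt (hB : Frm σ ε B) (hK : Kind σ ε B) (hV : Nd B (⊤ : Submodule F V)) (hr : (r : F) ≠ 0) {c : ℕ}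
    (hce : σ = RingHom.id F → Even c)
    (hblk : ∀ U : Submodule F V, Nd B U → finrank F U = c →
      ∃ y : Module.End F V, Isom B y ∧ y ^ r = 1 ∧ hB.perp U ≤ fx y ∧ cm y = U) (M : ℕ)
    (hM : c * M ≤ finrank F V) : ∃ x : Module.End F V, Isom B x ∧ x ^ r = 1 ∧ finrank F ↥(cm x) = c * M := by
  induction M with
  | zero =>
    refine ⟨1, fun u v => rfl, one_pow _, ?_⟩
    have : cm (1 : Module.End F V) = ⊥ := by
      rw [eq_bot_iff]
      intro v hv
      obtain ⟨w, rfl⟩ := mem_cm.1 hv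
      simp
    rw [this]
    simp
  | succ M ih =>
    rw [mul_add, mul_one] at hM
    obtain ⟨x, hx, hxr, hxd⟩ := ih (by omega)
    have h1 : Nd B (fx x) := by
      have := hx.nd_inf_fx hB hr hxr (U := ⊤) (fun _ _ => trivial) hV
      rwa [top_inf_eq] at this
    have h2 : finrank F ↥(fx x) + finrank F ↥(cm x) = finrank F V := by
      rw [← Submodule.finrank_add_eq_of_isCompl (isCompl_fx_cm hr hxr)]
    obtain ⟨U, hUx, hU, hUc⟩ := exists_nd_sub hB hK h1 (k := c) (by omega) hce
    obtain ⟨y, hy, hyr, hyp, hyc⟩ := hblk U hU hUc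
    have h3 := glue_comm hB hU hx hUx hyc.le hyp
    have h4 := glue_cm hB hU hx hUx hyc.le hyp
    refine ⟨x * y, isom_mul hx hy, ?_, ?_⟩
    · rw [(show Commute x y from h3).mul_pow, hxr, hyr, one_mul]
    · rw [h4.1, finrank_sup_of_disj h4.2, hxd, hyc, hUc, mul_add, mul_one]

end Cfsg.Agent.H951
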