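import Cfsg.Agent.H951.Lin
/-!
# Sesquilinear (σ, ε)-hermitian forms and their isometries

`B : V → V → F` on an arbitrary vector space; all statements are about subspaces `W` of the fixed space `V`.
`Nd B W`: `W` is nondegenerate; `TI B W`: `W` is totally isotropic; `hB.perp W`: the orthogonal of `W`.
-/

set_option autoImplicit false
set_option linter.unusedSectionVars false
set_option linter.unusedVariables false

namespace Cfsg.Agent.H951

open Module Polynomial

variable {F V : Type*} [Field F] [AddCommGroup V] [Module F V]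

/-- `B` is `(σ, ε)`-hermitian: linear in the first variable, `σ`-semilinear in the second, `B v u = ε σ(B u v)`. -/
structure Frm (σ : F →+* F) (ε : F) (B : V → V → F) : Prop where
  add_left : ∀ u v w, B (u + v) w = B u w + B v w
  smul_left : ∀ (a : F) (u v : V), B (a • u) v = a * B u v
  herm : ∀ u v, B v u = ε * σ (B u v)
  sigma_sq : ∀ a, σ (σ a) = a
  eps_ne : ε ≠ 0

/-- `W` is nondegenerate. -/
def Nd (B : V → V → F) (W : Submodule F V) : Prop := ∀ u ∈ W, u ≠ 0 → ∃ v ∈ W, B u v ≠ 0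

/-- `W` is totally isotropic. -/
def TI (B : V → V → F) (W : Submodule F V) : Prop := ∀ u ∈ W, ∀ v ∈ W, B u v = 0

/-- `x` is an isometry. -/
def Isom (B : V → V → F) (x : Module.End F V) : Prop := ∀ u v, B (x u) (x v) = B u v

variable {σ : F →+* F} {ε : F} {B : V → V → F} {U W : Submodule F V} {x : Module.End F V}

namespace Frm

lemma add_right (hB : Frm σ ε B) (u v w : V) : B w (u + v) = B w u + B w v := by
  rw [hB.herm (u + v) w, hB.add_left, map_add, mul_add, ← hB.herm, ← hB.herm]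

lemma smul_right (hB : Frm σ ε B) (a : F) (u v : V) : B u (a • v) = σ a * B u v := by
  rw [hB.herm (a • v) u, hB.smul_left, map_mul, hB.herm v u]; ring

lemma zero_left (hB : Frm σ ε B) (v : V) : B 0 v = 0 := by
  have := hB.smul_left 0 0 v
  simpa using this

lemma zero_right (hB : Frm σ ε B) (v : V) : B v 0 = 0 := by
  have := hB.smul_right 0 v 0
  simpa using this

lemma neg_left (hB : Frm σ ε B) (u v : V) : B (-u) v = - B u v := by
  have := hB.smul_left (-1) u v
  simpa using this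

lemma neg_right (hB : Frm σ ε B) (u v : V) : B u (-v) = - B u v := by
  have := hB.smul_right (-1) u v
  simpa using this

lemma sub_left (hB : Frm σ ε B) (u v w : V) : B (u - v) w = B u w - B v w := by
  rw [sub_eq_add_neg, hB.add_left, hB.neg_left, sub_eq_add_neg]

lemma sub_right (hB : Frm σ ε B) (u v w : V) : B w (u - v) = B w u - B w v := by
  rw [sub_eq_add_neg, hB.add_right, hB.neg_right, sub_eq_add_neg]

lemma sum_left (hB : Frm σ ε B) {ι : Type*} (s : Finset ι) (f : ι → V) (v : V) :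
    B (∑ i ∈ s, f i) v = ∑ i ∈ s, B (f i) v := by
  classical
  induction s using Finset.induction_on with
  | empty => simp [hB.zero_left]
  | insert a s ha ih => rw [Finset.sum_insert ha, Finset.sum_insert ha, hB.add_left, ih]

lemma sum_right (hB : Frm σ ε B) {ι : Type*} (s : Finset ι) (f : ι → V) (v : V) :
    B v (∑ i ∈ s, f i) = ∑ i ∈ s, B v (f i) := by
  classical
  induction s using Finset.induction_on with
  | empty => simp [hB.zero_right]
  | insert a s ha ih => rw [Finset.sum_insert ha, Finset.sum_insert ha, hB.add_right, ih]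

lemma eq_zero_comm (hB : Frm σ ε B) {u v : V} : B u v = 0 ↔ B v u = 0 := by
  constructor
  · intro h; rw [hB.herm u v, h, map_zero, mul_zero]
  · intro h; rw [hB.herm v u, h, map_zero, mul_zero]

/-- The orthogonal complement of `W`. -/
def perp (hB : Frm σ ε B) (W : Submodule F V) : Submodule F V where
  carrier := {v | ∀ w ∈ W, B v w = 0}
  add_mem' := by
    intro u v hu hv w hw
    rw [hB.add_left, hu w hw, hv w hw, add_zero]
  zero_mem' := fun w _ => hB.zero_left w
  smul_mem' := by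
    intro a u hu w hw
    rw [hB.smul_left, hu w hw, mul_zero]

lemma mem_perp (hB : Frm σ ε B) {v : V} : v ∈ hB.perp W ↔ ∀ w ∈ W, B v w = 0 := Iff.rfl

lemma mem_perp' (hB : Frm σ ε B) {v : V} : v ∈ hB.perp W ↔ ∀ w ∈ W, B w v = 0 :=
  forall₂_congr fun _ _ => hB.eq_zero_comm

lemma perp_anti (hB : Frm σ ε B) (h : U ≤ W) : hB.perp W ≤ hB.perp U := fun _ hv w hw => hv w (h hw)

lemma le_perp_iff (hB : Frm σ ε B) : U ≤ hB.perp W ↔ W ≤ hB.perp U := by
  constructor
  · intro h w hw; rw [mem_perp']; intro u hu; exact h hu w hw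
  · intro h w hw; rw [mem_perp']; intro u hu; exact h hu w hw

lemma le_perp_perp (hB : Frm σ ε B) : W ≤ hB.perp (hB.perp W) := hB.le_perp_iff.1 le_rfl

lemma perp_sup (hB : Frm σ ε B) : hB.perp (U ⊔ W) = hB.perp U ⊓ hB.perp W := by
  apply le_antisymm
  · exact le_inf (hB.perp_anti le_sup_left) (hB.perp_anti le_sup_right)
  · intro v hv w hw
    obtain ⟨a, ha, b, hb, rfl⟩ := Submodule.mem_sup.1 hw
    rw [hB.add_right, hv.1 a ha, hv.2 b hb, add_zero]

lemma ti_iff (hB : Frm σ ε B) : TI B W ↔ W ≤ hB.perp W := Iff.rfl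

lemma nd_iff (hB : Frm σ ε B) : Nd B W ↔ W ⊓ hB.perp W = ⊥ := by
  constructor
  · intro h
    rw [eq_bot_iff]
    intro v hv
    by_contra hne
    obtain ⟨w, hw, hvw⟩ := h v hv.1 (fun h0 => hne (by rw [h0]; exact Submodule.zero_mem _))
    exact hvw (hv.2 w hw)
  · intro h u hu hu0
    by_contra hno
    push Not at hno
    apply hu0
    rw [← Submodule.mem_bot F, ← h]
    exact ⟨hu, hno⟩

section fin

variable [FiniteDimensional F V]

/-- Evaluation on a basis of `W`. -/
private noncomputable def evb (hB : Frm σ ε B) (W : Submodule F V) : V →ₗ[F] (Fin (finrank F W) → F) where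
  toFun v i := B v (finBasis F W i : V)
  map_add' u v := by ext i; exact hB.add_left _ _ _
  map_smul' a v := by ext i; exact hB.smul_left _ _ _

private lemma ker_evb (hB : Frm σ ε B) (W : Submodule F V) : LinearMap.ker (hB.evb W) = hB.perp W := by
  ext v
  rw [LinearMap.mem_ker, mem_perp]
  constructor
  · intro h w hw
    have h1 : ∀ i, B v (finBasis F W i : V) = 0 := fun i => congrFun h i
    have h2 : w = ∑ i, (finBasis F W).repr ⟨w, hw⟩ i • (finBasis F W i : V) := by
      have h3 : ((∑ i, (finBasis F W).repr ⟨w, hw⟩ i • finBasis F W i : W) : V)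
          = ∑ i, (finBasis F W).repr ⟨w, hw⟩ i • (finBasis F W i : V) := by
        rw [Submodule.coe_sum]; rfl
      rw [← h3, Basis.sum_repr]
    rw [h2, hB.sum_right]
    apply Finset.sum_eq_zero
    intro i _
    rw [hB.smul_right, h1, mul_zero]
  · intro h
    ext i
    exact h _ (finBasis F W i).2

/-- `dim W + dim W^⊥ ≥ dim V`. -/
lemma finrank_add_perp_ge (hB : Frm σ ε B) (W : Submodule F V) :
    finrank F V ≤ finrank F W + finrank F (hB.perp W) := by
  have h := LinearMap.finrank_range_add_finrank_ker (hB.evb W)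
  rw [hB.ker_evb] at h
  have h2 : finrank F ↥(LinearMap.range (hB.evb W)) ≤ finrank F W := by
    have := Submodule.finrank_le (LinearMap.range (hB.evb W))
    rwa [finrank_fin_fun] at this
  omega

lemma isCompl_perp (hB : Frm σ ε B) (h : Nd B W) : IsCompl W (hB.perp W) := by
  have hd := hB.nd_iff.1 h
  refine ⟨disjoint_iff.2 hd, codisjoint_iff.2 ?_⟩
  apply Submodule.eq_top_of_finrank_eq
  apply le_antisymm (Submodule.finrank_le _)
  rw [finrank_sup_of_disj hd]
  exact hB.finrank_add_perp_ge W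

/-- The orthogonal decomposition of `U ≥ W` for nondegenerate `W`. -/
lemma sup_perp_inf (hB : Frm σ ε B) (h : Nd B W) (hWU : W ≤ U) : W ⊔ (hB.perp W ⊓ U) = U := by
  rw [← sup_inf_assoc_of_le _ hWU, (hB.isCompl_perp h).sup_eq_top, top_inf_eq]

lemma inf_perp_inf (hB : Frm σ ε B) (h : Nd B W) : W ⊓ (hB.perp W ⊓ U) = ⊥ := by
  rw [← inf_assoc, hB.nd_iff.1 h, bot_inf_eq]

lemma finrank_perp_inf (hB : Frm σ ε B) (h : Nd B W) (hWU : W ≤ U) :
    finrank F W + finrank F ↥(hB.perp W ⊓ U) = finrank F U := by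
  conv_rhs => rw [← hB.sup_perp_inf h hWU]
  rw [finrank_sup_of_disj (hB.inf_perp_inf h)]

lemma nd_perp_inf (hB : Frm σ ε B) (hU : Nd B U) (h : Nd B W) (hWU : W ≤ U) : Nd B (hB.perp W ⊓ U) := by
  intro u hu hu0
  obtain ⟨v, hv, huv⟩ := hU u hu.2 hu0
  rw [← hB.sup_perp_inf h hWU] at hv
  obtain ⟨a, ha, b, hb, rfl⟩ := Submodule.mem_sup.1 hv
  refine ⟨b, hb, ?_⟩
  rwa [hB.add_right, hu.1 a ha, zero_add] at huv

/-- In a nondegenerate `U`, `dim W + dim (W^⊥ ∩ U) = dim U` for every `W ≤ U`. -/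
lemma finrank_perp_inf' (hB : Frm σ ε B) (hU : Nd B U) (hWU : W ≤ U) :
    finrank F W + finrank F ↥(hB.perp W ⊓ U) = finrank F U := by
  -- evaluation U → F^{dim W}
  have hker : LinearMap.ker ((hB.evb W).domRestrict U) = (hB.perp W).comap U.subtype := by
    rw [LinearMap.ker_domRestrict, hB.ker_evb]
  have h1 := LinearMap.finrank_range_add_finrank_ker ((hB.evb W).domRestrict U)
  rw [hker] at h1
  have h2 : finrank F ↥((hB.perp W).comap U.subtype) = finrank F ↥(hB.perp W ⊓ U) := by
    rw [inf_comm, ← Submodule.map_comap_subtype]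
    exact (Submodule.finrank_map_subtype_eq _ _).symm
  rw [h2] at h1
  have h3 : finrank F ↥(LinearMap.range ((hB.evb W).domRestrict U)) ≤ finrank F W := by
    have := Submodule.finrank_le (LinearMap.range ((hB.evb W).domRestrict U))
    rwa [finrank_fin_fun] at this
  -- the other inequality
  have h4 : finrank F W + finrank F ↥(hB.perp W ⊓ U) ≤ finrank F U := by
    -- W ∩ (perp of (perp W ∩ U)) etc: use evaluation of W against a complement
    have hker' : LinearMap.ker ((hB.evb U).domRestrict W) = ⊥ := by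
      rw [LinearMap.ker_domRestrict, hB.ker_evb, eq_bot_iff]
      intro w hw
      rw [Submodule.mem_bot]
      apply Subtype.ext
      by_contra hne
      obtain ⟨v, hv, hwv⟩ := hU w.1 (hWU w.2) hne
      exact hwv (hw v hv)
    -- choose a complement C of perp W ⊓ U in U; W injects into the dual of C
    obtain ⟨C, hC1, hC2, hC3⟩ := exists_rel_compl' (inf_le_right : hB.perp W ⊓ U ≤ U)
    have hkC : LinearMap.ker ((hB.evb C).domRestrict W) = ⊥ := by
      rw [LinearMap.ker_domRestrict, hB.ker_evb, eq_bot_iff]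
      intro w hw
      rw [Submodule.mem_bot]
      apply Subtype.ext
      by_contra hne
      obtain ⟨v, hv, hwv⟩ := hU w.1 (hWU w.2) hne
      rw [← hC3] at hv
      obtain ⟨a, ha, b, hb, rfl⟩ := Submodule.mem_sup.1 hv
      apply hwv
      rw [hB.add_right]
      have e1 : B w.1 a = 0 := hB.eq_zero_comm.1 (ha.1 w.1 w.2)
      have e2 : B w.1 b = 0 := hw b hb
      rw [e1, e2, add_zero]
    have h5 := LinearMap.finrank_range_add_finrank_ker ((hB.evb C).domRestrict W)
    rw [hkC, finrank_bot, add_zero] at h5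
    have h6 : finrank F ↥(LinearMap.range ((hB.evb C).domRestrict W)) ≤ finrank F C := by
      have := Submodule.finrank_le (LinearMap.range ((hB.evb C).domRestrict W))
      rwa [finrank_fin_fun] at this
    have h7 := finrank_sup_of_disj hC2
    rw [hC3] at h7
    omega
  omega

/-- A totally isotropic subspace of a nondegenerate `U` has dimension at most half of `dim U`. -/
lemma two_mul_finrank_le (hB : Frm σ ε B) (hU : Nd B U) (hWU : W ≤ U) (hW : TI B W) :
    2 * finrank F W ≤ finrank F U := by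
  have h1 := hB.finrank_perp_inf' hU hWU
  have h2 : finrank F W ≤ finrank F ↥(hB.perp W ⊓ U) := Submodule.finrank_mono (le_inf hW hWU)
  omega

/-- The orthogonal sum of nondegenerate subspaces. -/
lemma nd_sup (hB : Frm σ ε B) (hU : Nd B U) (hW : Nd B W) (h : U ≤ hB.perp W) : Nd B (U ⊔ W) ∧ U ⊓ W = ⊥ := by
  constructor
  · intro v hv hv0
    obtain ⟨a, ha, b, hb, rfl⟩ := Submodule.mem_sup.1 hv
    by_cases ha0 : a = 0
    · subst ha0
      rw [zero_add] at hv0
      obtain ⟨w, hw, hbw⟩ := hW b hb hv0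
      exact ⟨w, Submodule.mem_sup_right hw, by rwa [zero_add]⟩
    · obtain ⟨w, hw, haw⟩ := hU a ha ha0
      refine ⟨w, Submodule.mem_sup_left hw, ?_⟩
      rw [hB.add_left, hB.eq_zero_comm.1 (h hw b hb), add_zero]
      exact haw
  · rw [eq_bot_iff]
    intro v hv
    by_contra hne
    obtain ⟨w, hw, hvw⟩ := hU v hv.1 (fun h0 => hne (by rw [h0]; exact Submodule.zero_mem _))
    exact hvw (hB.eq_zero_comm.1 (h hw v hv.2))

end fin

end Frm

/-! ### isometries -/

lemma Isom.pow (hx : Isom B x) (n : ℕ) : Isom B (x ^ n) := by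
  induction n with
  | zero => intro u v; simp
  | succ n ih => intro u v; rw [pow_succ', Module.End.mul_apply, Module.End.mul_apply, hx, ih]

lemma Isom.inv_perp [FiniteDimensional F V] (hB : Frm σ ε B) (hx : Isom B x) (hinj : Function.Injective x)
    (hW : Inv x W) : Inv x (hB.perp W) := by
  have hmap : W.map x = W := by
    apply Submodule.eq_of_le_of_finrank_eq (inv_iff_map.1 hW)
    exact (Submodule.equivMapOfInjective x hinj W).finrank_eq.symm
  intro v hv w hw
  rw [← hmap] at hw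
  obtain ⟨w', hw', rfl⟩ := hw
  rw [hx]
  exact hv w' hw'

/-- The same for similarities. -/
lemma inv_perp_of_sim [FiniteDimensional F V] (hB : Frm σ ε B) {l : F} (hx : ∀ u v, B (x u) (x v) = l * B u v)
    (hinj : Function.Injective x) (hW : Inv x W) : Inv x (hB.perp W) := by
  have hmap : W.map x = W := by
    apply Submodule.eq_of_le_of_finrank_eq (inv_iff_map.1 hW)
    exact (Submodule.equivMapOfInjective x hinj W).finrank_eq.symm
  intro v hv w hw
  rw [← hmap] at hw
  obtain ⟨w', hw', rfl⟩ := hw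
  rw [hx, hv w' hw', mul_zero]

lemma Isom.fx_cm (hB : Frm σ ε B) (hx : Isom B x) {u v : V} (hu : u ∈ fx x) (hv : v ∈ cm x) : B u v = 0 := by
  obtain ⟨w, rfl⟩ := mem_cm.1 hv
  rw [hB.sub_right]
  nth_rewrite 1 [← mem_fx.1 hu]
  rw [hx, sub_self]

variable {r : ℕ}

lemma Isom.nd_inf_fx [FiniteDimensional F V] (hB : Frm σ ε B) (hx : Isom B x) (hr : (r : F) ≠ 0) (hxr : x ^ r = 1)
    (hU : Inv x U) (h : Nd B U) : Nd B (U ⊓ fx x) := by
  intro u hu hu0
  obtain ⟨v, hv, huv⟩ := h u hu.1 hu0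
  rw [← inf_fx_sup_inf_cm hr hxr hU] at hv
  obtain ⟨a, ha, b, hb, rfl⟩ := Submodule.mem_sup.1 hv
  refine ⟨a, ha, ?_⟩
  rwa [hB.add_right, hx.fx_cm hB hu.2 hb.2, add_zero] at huv

lemma Isom.nd_inf_cm [FiniteDimensional F V] (hB : Frm σ ε B) (hx : Isom B x) (hr : (r : F) ≠ 0) (hxr : x ^ r = 1)
    (hU : Inv x U) (h : Nd B U) : Nd B (U ⊓ cm x) := by
  intro u hu hu0
  obtain ⟨v, hv, huv⟩ := h u hu.1 hu0
  rw [← inf_fx_sup_inf_cm hr hxr hU] at hv
  obtain ⟨a, ha, b, hb, rfl⟩ := Submodule.mem_sup.1 hv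
  refine ⟨b, hb, ?_⟩
  rwa [hB.add_right, hB.eq_zero_comm.1 (hx.fx_cm hB ha.2 hu.2), zero_add] at huv

/-- A minimal invariant subspace is nondegenerate or totally isotropic. -/
lemma Irr.nd_or_ti [FiniteDimensional F V] (hB : Frm σ ε B) (hx : Isom B x) (hinj : Function.Injective x)
    (hU : Irr x U) : Nd B U ∨ TI B U := by
  rcases hU.2.2 (U ⊓ hB.perp U) inf_le_left (hU.2.1.inf (hx.inv_perp hB hinj hU.2.1)) with h | h
  · left; exact hB.nd_iff.2 h
  · right; intro u hu v hv
    rw [← h] at hu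
    exact hu.2 v hv

/-- Every non-zero nondegenerate invariant subspace (for a semisimple isometry) contains either a minimal invariant
subspace which is nondegenerate, or the direct sum of two totally isotropic minimal ones which is nondegenerate. -/
lemma exists_block [FiniteDimensional F V] (hB : Frm σ ε B) (hx : Isom B x) (hinj : Function.Injective x)
    (hss : x.IsSemisimple) (hW : Inv x W) (hWn : Nd B W) (h0 : W ≠ ⊥) :
    (∃ U ≤ W, Irr x U ∧ Nd B U) ∨
    (∃ U U', U ≤ W ∧ U' ≤ W ∧ Irr x U ∧ Irr x U' ∧ TI B U ∧ TI B U' ∧ U ⊓ U' = ⊥ ∧ U' ⊓ hB.perp U = ⊥ ∧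
      Nd B (U ⊔ U')) := by
  obtain ⟨U, hUW, hU⟩ := exists_irr hW h0
  rcases hU.nd_or_ti hB hx hinj with hn | hti
  · exact Or.inl ⟨U, hUW, hU, hn⟩
  have hpi : Inv x (hB.perp U) := hx.inv_perp hB hinj hU.2.1
  obtain ⟨T, hT, hTW, hT1, hT2⟩ := exists_rel_compl hss (hpi.inf hW) hW (inf_le_right : hB.perp U ⊓ W ≤ W)
  have hT0 : T ≠ ⊥ := by
    rintro rfl
    rw [sup_bot_eq] at hT2
    obtain ⟨u, hu, hu0⟩ := (Submodule.ne_bot_iff _).1 hU.1
    obtain ⟨v, hv, huv⟩ := hWn u (hUW hu) hu0
    rw [← hT2] at hv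
    exact huv (hB.eq_zero_comm.1 (hv.1 u hu))
  obtain ⟨U', hU'T, hU'⟩ := exists_irr hT hT0
  have hU'W : U' ≤ W := hU'T.trans hTW
  have hU'p : U' ⊓ hB.perp U = ⊥ := by
    rw [eq_bot_iff, ← hT1]
    intro v hv
    exact ⟨⟨hv.2, hU'W hv.1⟩, hU'T hv.1⟩
  rcases hU'.nd_or_ti hB hx hinj with hn | hti'
  · exact Or.inl ⟨U', hU'W, hU', hn⟩
  right
  have hdis : U ⊓ U' = ⊥ := by
    rw [eq_bot_iff, ← hU'p]
    exact fun v hv => ⟨hv.2, hti v hv.1⟩
  have hUp' : U ⊓ hB.perp U' = ⊥ := by
    rcases hU.2.2 (U ⊓ hB.perp U') inf_le_left (hU.2.1.inf (hx.inv_perp hB hinj hU'.2.1)) with h | h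
    · exact h
    · exfalso
      have h1 : U ≤ hB.perp U' := by rw [← h]; exact inf_le_right
      have h2 : U' ≤ hB.perp U := hB.le_perp_iff.1 h1
      apply hU'.1
      rw [← hU'p]
      exact (inf_eq_left.2 h2).symm
  refine ⟨U, U', hUW, hU'W, hU, hU', hti, hti', hdis, hU'p, ?_⟩
  rw [hB.nd_iff, eq_bot_iff]
  intro v hv
  obtain ⟨a, ha, b, hb, rfl⟩ := Submodule.mem_sup.1 hv.1
  have hb0 : b ∈ U' ⊓ hB.perp U := by
    refine ⟨hb, fun w hw => ?_⟩
    have := hv.2 w (Submodule.mem_sup_left hw)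
    rwa [hB.add_left, hti a ha w hw, zero_add] at this
  rw [hU'p, Submodule.mem_bot] at hb0
  have ha0 : a ∈ U ⊓ hB.perp U' := by
    refine ⟨ha, fun w hw => ?_⟩
    have := hv.2 w (Submodule.mem_sup_right hw)
    rwa [hb0, add_zero] at this
  rw [hUp', Submodule.mem_bot] at ha0
  rw [ha0, hb0, add_zero]
  exact Submodule.zero_mem _

end Cfsg.Agent.H951
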