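import Cfsg.Agent.H951.Iso
/-!
# Nondegenerate and totally isotropic subspaces of prescribed dimension
-/

set_option autoImplicit false
set_option linter.unusedSectionVars false
set_option linter.unusedVariables false

namespace Cfsg.Agent.H951

open Module Polynomial

open scoped Classical in
/-- 2 for alternating forms, 1 for hermitian ones. -/
noncomputable def cmin {F : Type*} [Field F] (σ : F →+* F) : ℕ := if σ = RingHom.id F then 2 else 1

lemma cmin_id {F : Type*} [Field F] : cmin (RingHom.id F) = 2 := if_pos rfl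

lemma cmin_ne {F : Type*} [Field F] {σ : F →+* F} (h : σ ≠ RingHom.id F) : cmin σ = 1 := if_neg h

variable {F V : Type*} [Field F] [AddCommGroup V] [Module F V]
variable {σ : F →+* F} {ε : F} {B : V → V → F} {U W T C : Submodule F V}

lemma nd_bot : Nd B (⊥ : Submodule F V) := fun u hu hu0 => absurd ((Submodule.mem_bot F).1 hu) hu0

lemma ti_bot (hB : Frm σ ε B) : TI B (⊥ : Submodule F V) := fun u hu v _ => by
  rw [(Submodule.mem_bot F).1 hu, hB.zero_left]

lemma Kind.sigma_ne_or (hK : Kind σ ε B) : (σ ≠ RingHom.id F ∧ ε = 1) ∨ (σ = RingHom.id F ∧ ε = -1 ∧ ∀ v, B v v = 0) := hK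

/-- Polarization: a hermitian form with `B u u = 0` on `U` vanishes on `U`. -/
lemma herm_polar (hσ : σ ≠ RingHom.id F) {η : F} (hB : ∀ u v, B v u = η * σ (B u v))
    (hadd : ∀ u v w, B (u + v) w = B u w + B v w) (hsm : ∀ (a : F) (u v : V), B (a • u) v = a * B u v)
    (h0 : ∀ u ∈ U, B u u = 0) : ∀ u ∈ U, ∀ v ∈ U, B u v = 0 := by
  have haddr : ∀ u v w, B w (u + v) = B w u + B w v := by
    intro u v w
    rw [hB (u + v) w, hadd, map_add, mul_add, ← hB, ← hB]
  have h1 : ∀ u ∈ U, ∀ v ∈ U, B u v + B v u = 0 := by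
    intro u hu v hv
    have := h0 (u + v) (U.add_mem hu hv)
    rw [hadd, haddr, haddr, h0 u hu, h0 v hv, zero_add, add_zero] at this
    exact this
  intro u hu v hv
  by_contra hne
  apply hσ
  ext t
  have h2 : ∀ s : F, s * B u v + η * σ (s * B u v) = 0 := by
    intro s
    have := h1 (s • u) (U.smul_mem s hu) v hv
    rw [hsm, hB (s • u) v, hsm] at this
    exact this
  have h3 := h2 ((B u v)⁻¹ * 1)
  have h4 := h2 ((B u v)⁻¹ * t)
  rw [mul_right_comm, inv_mul_cancel₀ hne, one_mul, map_one, mul_one] at h3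
  rw [mul_right_comm, inv_mul_cancel₀ hne, one_mul] at h4
  have h5 : η = -1 := by linear_combination h3
  rw [h5] at h4
  rw [RingHom.id_apply]
  linear_combination -h4

/-- A smallest nondegenerate subspace. -/
theorem exists_nd_min [FiniteDimensional F V] (hB : Frm σ ε B) (hK : Kind σ ε B) (hU : Nd B U) (h0 : U ≠ ⊥) :
    ∃ W ≤ U, Nd B W ∧ finrank F W = cmin σ := by
  obtain ⟨u, hu, hu0⟩ := (Submodule.ne_bot_iff _).1 h0
  obtain ⟨v, hv, huv⟩ := hU u hu hu0
  rcases hK with ⟨hσ, rfl⟩ | ⟨rfl, rfl, ha⟩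
  · have h1 : ∃ w ∈ U, B w w ≠ 0 := by
      by_contra hno
      push Not at hno
      exact huv (herm_polar hσ hB.herm hB.add_left hB.smul_left hno u hu v hv)
    obtain ⟨w, hw, hww⟩ := h1
    have hw0 : w ≠ 0 := by rintro rfl; exact hww (hB.zero_left _)
    refine ⟨F ∙ w, (Submodule.span_singleton_le_iff_mem _ _).2 hw, ?_, ?_⟩
    · intro x hx hx0
      obtain ⟨a, rfl⟩ := Submodule.mem_span_singleton.1 hx
      refine ⟨w, Submodule.mem_span_singleton_self w, ?_⟩
      rw [hB.smul_left]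
      have ha : a ≠ 0 := by rintro rfl; exact hx0 (zero_smul _ _)
      exact mul_ne_zero ha hww
    · rw [cmin_ne hσ, finrank_span_singleton hw0]
  · have hB' : ∀ a b, B b a = - B a b := by
      intro a b
      rw [hB.herm a b]; simp
    refine ⟨F ∙ u ⊔ F ∙ v, sup_le ((Submodule.span_singleton_le_iff_mem _ _).2 hu)
      ((Submodule.span_singleton_le_iff_mem _ _).2 hv), ?_, ?_⟩
    · intro x hx hx0
      obtain ⟨y, hy, z, hz, rfl⟩ := Submodule.mem_sup.1 hx
      obtain ⟨a, rfl⟩ := Submodule.mem_span_singleton.1 hy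
      obtain ⟨b, rfl⟩ := Submodule.mem_span_singleton.1 hz
      by_cases ha0 : a = 0
      · refine ⟨u, Submodule.mem_sup_left (Submodule.mem_span_singleton_self u), ?_⟩
        subst ha0
        have hb0 : b ≠ 0 := by rintro rfl; apply hx0; simp
        rw [zero_smul, zero_add, hB.smul_left, hB' u v]
        exact mul_ne_zero hb0 (neg_ne_zero.2 huv)
      · refine ⟨v, Submodule.mem_sup_right (Submodule.mem_span_singleton_self v), ?_⟩
        rw [hB.add_left, hB.smul_left, hB.smul_left, ha v, mul_zero, add_zero]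
        exact mul_ne_zero ha0 huv
    · have hv0 : v ≠ 0 := by rintro rfl; exact huv (hB.zero_right _)
      have hd : F ∙ u ⊓ F ∙ v = ⊥ := by
        rw [eq_bot_iff]
        intro x hx
        obtain ⟨a, rfl⟩ := Submodule.mem_span_singleton.1 hx.1
        obtain ⟨b, hb⟩ := Submodule.mem_span_singleton.1 hx.2
        have h3 : B u (b • v) = 0 := by
          rw [hb, hB.smul_right, ha u, mul_zero]
        rw [hB.smul_right] at h3
        have hb0 : b = 0 := by
          rcases mul_eq_zero.1 h3 with h | h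
          · simpa using h
          · exact absurd h huv
        rw [← hb, hb0, zero_smul]
        exact Submodule.zero_mem _
      rw [finrank_sup_of_disj hd, finrank_span_singleton hu0, finrank_span_singleton hv0, cmin_id]

/-- The dimension of a nondegenerate space is even in the alternating case. -/
lemma even_of_kind [FiniteDimensional F V] (hB : Frm σ ε B) (hK : Kind σ ε B) (hU : Nd B U)
    (h : σ = RingHom.id F) : Even (finrank F U) := by
  rcases hK with ⟨hσ, -⟩ | ⟨rfl, rfl, ha⟩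
  · exact absurd h hσ
  · exact even_finrank_of_alt hB ha hU

/-- Nondegenerate subspaces of every dimension (every even one in the alternating case). -/
theorem exists_nd_sub [FiniteDimensional F V] (hB : Frm σ ε B) (hK : Kind σ ε B) (hU : Nd B U) {k : ℕ}
    (hk : k ≤ finrank F U) (he : σ = RingHom.id F → Even k) : ∃ W ≤ U, Nd B W ∧ finrank F W = k := by
  induction k using Nat.strong_induction_on with
  | _ k ih =>
    by_cases hk0 : k = 0
    · subst hk0; exact ⟨⊥, bot_le, nd_bot, by simp⟩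
    set c := cmin σ with hc
    have hck : c ≤ k := by
      by_cases h : σ = RingHom.id F
      · rw [hc, h, cmin_id]
        obtain ⟨j, hj⟩ := he h
        omega
      · rw [hc, cmin_ne h]; omega
    have hcpos : 0 < c := by
      by_cases h : σ = RingHom.id F
      · rw [hc, h, cmin_id]; norm_num
      · rw [hc, cmin_ne h]; norm_num
    obtain ⟨W, hWU, hW, hWk⟩ := ih (k - c) (by omega) (by omega) (by
      intro h
      have hc2 : c = 2 := by rw [hc, h, cmin_id]
      obtain ⟨j, hj⟩ := he h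
      exact ⟨j - 1, by omega⟩)
    have h1 := hB.finrank_perp_inf hW hWU
    have h2 := hB.nd_perp_inf hU hW hWU
    have h3 : hB.perp W ⊓ U ≠ ⊥ := by
      intro h
      rw [h, finrank_bot] at h1
      omega
    obtain ⟨W', hW'U, hW', hW'c⟩ := exists_nd_min hB hK h2 h3
    have h4 := hB.nd_sup hW' hW (hW'U.trans inf_le_left)
    refine ⟨W' ⊔ W, sup_le (hW'U.trans inf_le_right) hWU, h4.1, ?_⟩
    rw [finrank_sup_of_disj h4.2, hW'c, hWk]
    omega

/-- The complement of a totally isotropic `T` in `T^⊥ ∩ U` is nondegenerate. -/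
lemma nd_compl_ti [FiniteDimensional F V] (hB : Frm σ ε B) (hU : Nd B U) (hTU : T ≤ U) (hT : TI B T)
    (hC1 : T ⊓ C = ⊥) (hC2 : T ⊔ C = hB.perp T ⊓ U) :
    Nd B C ∧ C ≤ hB.perp T ∧ C ≤ U ∧ 2 * finrank F T + finrank F C = finrank F U := by
  have hCle : C ≤ hB.perp T ⊓ U := by rw [← hC2]; exact le_sup_right
  have h1 := hB.finrank_perp_inf' hU hTU
  have h2 := finrank_sup_of_disj hC1
  rw [hC2] at h2
  refine ⟨?_, hCle.trans inf_le_left, hCle.trans inf_le_right, by omega⟩
  -- double perp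
  have h3 := hB.finrank_perp_inf' hU (inf_le_right : hB.perp T ⊓ U ≤ U)
  have h4 : T ≤ hB.perp (hB.perp T ⊓ U) ⊓ U := le_inf (hB.le_perp_iff.1 inf_le_left) hTU
  have h5 : T = hB.perp (hB.perp T ⊓ U) ⊓ U := Submodule.eq_of_le_of_finrank_eq h4 (by omega)
  rw [hB.nd_iff, eq_bot_iff, ← hC1, le_inf_iff]
  refine ⟨?_, inf_le_left⟩
  intro v hv
  rw [h5]
  refine ⟨?_, (hCle hv.1).2⟩
  intro w hw
  rw [← hC2] at hw
  obtain ⟨a, ha, b, hb, rfl⟩ := Submodule.mem_sup.1 hw
  rw [hB.add_right, (hCle hv.1).1 a ha, hv.2 b hb, add_zero]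

lemma TI.mono (h : TI B W) (hU : U ≤ W) : TI B U := fun u hu v hv => h u (hU hu) v (hU hv)

lemma ti_sup (hB : Frm σ ε B) (hU : TI B U) (hW : TI B W) (h : U ≤ hB.perp W) : TI B (U ⊔ W) := by
  intro x hx y hy
  obtain ⟨a, ha, b, hb, rfl⟩ := Submodule.mem_sup.1 hx
  obtain ⟨c, hc, d, hd, rfl⟩ := Submodule.mem_sup.1 hy
  rw [hB.add_left, hB.add_right, hB.add_right, hU a ha c hc, hW b hb d hd, h ha d hd, hB.eq_zero_comm.1 (h hc b hb)]
  simp

lemma ti_span_singleton (hB : Frm σ ε B) {v : V} (h : B v v = 0) : TI B (F ∙ v) := by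
  intro x hx y hy
  obtain ⟨a, rfl⟩ := Submodule.mem_span_singleton.1 hx
  obtain ⟨b, rfl⟩ := Submodule.mem_span_singleton.1 hy
  rw [hB.smul_left, hB.smul_right, h, mul_zero, mul_zero]

/-- Isotropic vectors. -/
theorem exists_isotropic [Finite F] [FiniteDimensional F V] (hB : Frm σ ε B) (hK : Kind σ ε B) (hU : Nd B U)
    (h2 : 2 ≤ finrank F U) : ∃ v ∈ U, v ≠ 0 ∧ B v v = 0 := by
  rcases hK with ⟨hσ, rfl⟩ | ⟨rfl, rfl, ha⟩
  · obtain ⟨b, hb⟩ := exists_orthonormal hσ hB hU
    obtain ⟨x, hx⟩ := ClassicalGeometry.InvolutiveNorm.exists_mul_sigma_eq hσ hB.sigma_sq (a := -1) (by simp)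
    refine ⟨b ⟨0, by omega⟩ + x • b ⟨1, by omega⟩, U.add_mem (b _).2 (U.smul_mem _ (b _).2), ?_, ?_⟩
    · intro h
      have h1 : B (b ⟨0, by omega⟩ : V) ((b ⟨0, by omega⟩ : V) + x • (b ⟨1, by omega⟩ : V)) = 0 := by
        rw [h, hB.zero_right]
      rw [hB.add_right, hB.smul_right, hb, hb] at h1
      simp at h1
    · rw [hB.add_left, hB.add_right, hB.add_right, hB.smul_left, hB.smul_left, hB.smul_right, hB.smul_right,
        hb, hb, hb, hb]
      have e1 : (⟨0, by omega⟩ : Fin (finrank F U)) ≠ ⟨1, by omega⟩ := by simp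
      rw [if_pos rfl, if_pos rfl, if_neg e1, if_neg e1.symm]
      linear_combination hx
  · have h0 : U ≠ ⊥ := by rintro rfl; rw [finrank_bot] at h2; omega
    obtain ⟨u, hu, hu0⟩ := (Submodule.ne_bot_iff _).1 h0
    exact ⟨u, hu, hu0, ha u⟩

/-- Totally isotropic subspaces of every dimension at most `dim U / 2`. -/
theorem exists_ti_sub [Finite F] [FiniteDimensional F V] (hB : Frm σ ε B) (hK : Kind σ ε B) (hU : Nd B U) {k : ℕ}
    (hk : 2 * k ≤ finrank F U) : ∃ W ≤ U, TI B W ∧ finrank F W = k := by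
  induction k with
  | zero => exact ⟨⊥, bot_le, ti_bot hB, by simp⟩
  | succ k ih =>
    obtain ⟨T, hTU, hT, hTk⟩ := ih (by omega)
    obtain ⟨C, hC0, hC1, hC2⟩ := exists_rel_compl' (le_inf (hB.ti_iff.1 hT) hTU)
    obtain ⟨hCn, hCp, hCU, hCd⟩ := nd_compl_ti hB hU hTU hT hC1 hC2
    obtain ⟨v, hv, hv0, hvv⟩ := exists_isotropic hB hK hCn (by omega)
    refine ⟨F ∙ v ⊔ T, sup_le ((Submodule.span_singleton_le_iff_mem _ _).2 (hCU hv)) hTU,
      ti_sup hB (ti_span_singleton hB hvv) hT ((Submodule.span_singleton_le_iff_mem _ _).2 (hCp hv)), ?_⟩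
    have hd : F ∙ v ⊓ T = ⊥ := by
      rw [eq_bot_iff, ← hC1]
      exact fun w hw => ⟨hw.2, (Submodule.span_singleton_le_iff_mem _ _).2 hv hw.1⟩
    rw [finrank_sup_of_disj hd, finrank_span_singleton hv0, hTk]
    omega

end Cfsg.Agent.H951
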