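import Cfsg.Agent.H951.Decomp
/-!
# Existence of permuted decompositions

* `pd_semisimple`: for `x^r = 1` (`r` prime, not the characteristic), `U` invariant with `dim U = a t` and
  `dim [U, x] ≤ c ⌊a/c⌋ t`, `c` the order of `|F|` modulo `r`: `U` is a sum of `t` invariant `a`-spaces.
* `cyc_of_irreducible`: if `x^r = z` with `X^r - z` irreducible, every invariant `U` is `W ⊕ x W ⊕ ⋯ ⊕ x^{r-1} W`.
* `pd_of_pow_eq`: such an `x` permutes a decomposition into `a`-spaces whenever `a t = dim V`.
-/

set_option autoImplicit false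

namespace Cfsg.Agent.H951

open Module Polynomial

variable {F V : Type*} [Field F] [AddCommGroup V] [Module F V]
variable {x y : Module.End F V} {a b r s t : ℕ} {U U' W : Submodule F V}

lemma injective_of_pow (hr : 0 < r) (hx : x ^ r = 1) : Function.Injective x := by
  obtain ⟨s, rfl⟩ : ∃ s, r = s + 1 := ⟨r - 1, by omega⟩
  intro u v huv
  have h : ∀ w : V, (x ^ s) (x w) = w := by
    intro w
    rw [← Module.End.mul_apply, ← pow_succ, hx]
    rfl
  rw [← h u, ← h v, huv]

lemma injective_of_pow' (hr : 0 < r) {z : F} (hz : z ≠ 0) (hx : x ^ r = z • 1) : Function.Injective x := by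
  obtain ⟨s, rfl⟩ : ∃ s, r = s + 1 := ⟨r - 1, by omega⟩
  intro u v huv
  have h : ∀ w : V, (x ^ s) (x w) = z • w := by
    intro w
    rw [← Module.End.mul_apply, ← pow_succ, hx]
    rfl
  have := h u
  rw [huv, h v] at this
  exact (smul_right_injective V hz this).symm

lemma pd_semisimple [Fintype F] [FiniteDimensional F V] [Fact r.Prime] (hr : (r : F) ≠ 0) (hx : x ^ r = 1)
    (hU : Inv x U) (hd : finrank F U = a * t)
    (hM : finrank F ↥(U ⊓ cm x) ≤ orderOf (Fintype.card F : ZMod r) * (a / orderOf (Fintype.card F : ZMod r)) * t) :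
    PD x a U t := by
  set c := orderOf (Fintype.card F : ZMod r) with hc
  have hcpos : 0 < c := ord_pos hr
  have hinj : Function.Injective x := injective_of_pow (Fact.out : r.Prime).pos hx
  induction t generalizing U with
  | zero =>
    have : U = ⊥ := Submodule.finrank_eq_zero.1 (by rw [hd]; simp)
    subst this
    exact PD.zero
  | succ t ih =>
    obtain ⟨M, hMd⟩ := ord_dvd_finrank hx (hU.inf inv_cm)
      (inf_fx_of_le_cm hr hx (inf_le_right : U ⊓ cm x ≤ cm x))
    rw [← hc] at hMd
    have hadd := finrank_inf_add hr hx hU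
    have hmod := Nat.div_add_mod a c
    set A := a / c with hA
    set j := min M A with hj
    have hjM : j ≤ M := min_le_left _ _
    have hjA : j ≤ A := min_le_right _ _
    obtain ⟨C, hCle, hCi, hCd⟩ := exists_inv_finrank hr hx (hU.inf inv_cm)
      (inf_le_right : U ⊓ cm x ≤ cm x) (j := j) (by rw [hMd, ← hc]; exact Nat.mul_le_mul_left _ hjM)
    rw [← hc] at hCd
    have hcja : c * j ≤ a := (Nat.mul_le_mul_left _ hjA).trans (by omega)
    have hkey : a - c * j ≤ finrank F ↥(U ⊓ fx x) := by
      rw [hMd] at hadd hM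
      rcases Nat.le_total M A with h | h
      · have : j = M := min_eq_left h
        rw [this]
        rw [hd, mul_add, mul_one] at hadd
        have := Nat.zero_le (a * t)
        omega
      · have hjA' : j = A := min_eq_right h
        rw [hjA']
        rw [hd] at hadd
        have h1 : a * (t + 1) = c * A * (t + 1) + a % c * (t + 1) := by
          conv_lhs => rw [← hmod]
          ring
        have h2 : a % c ≤ a % c * (t + 1) := Nat.le_mul_of_pos_right _ (Nat.succ_pos t)
        omega
    obtain ⟨E, hEle, hEd⟩ := exists_sub (U ⊓ fx x) hkey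
    obtain ⟨T, hTi, hT1, hT2, hT3, hT4⟩ := exists_compl_split hr hx hU hEle hCle hCi
    have hEC : E ⊓ C = ⊥ := by
      rw [eq_bot_iff, ← (isCompl_fx_cm hr hx).inf_eq_bot]
      exact inf_le_inf (hEle.trans inf_le_right) (hCle.trans inf_le_right)
    have hECd : finrank F ↥(E ⊔ C) = a := by
      rw [finrank_sup_of_disj hEC, hEd, hCd]; omega
    have hTd := finrank_sup_of_disj hT1
    rw [hT2, hECd, hd] at hTd
    have hTd' : finrank F T = a * t := by rw [mul_add, mul_one] at hTd; omega
    have hTM : finrank F ↥(T ⊓ cm x) ≤ c * A * t := by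
      rw [hCd, hMd] at hT4
      rcases Nat.le_total M A with h | h
      · have : j = M := min_eq_left h
        rw [this] at hT4
        have : finrank F ↥(T ⊓ cm x) = 0 := by omega
        rw [this]; exact Nat.zero_le _
      · have hjA' : j = A := min_eq_right h
        rw [hjA'] at hT4
        rw [hMd, mul_add, mul_one] at hM
        omega
    have h1 := ih hTi hTd' hTM
    have hECi : Inv x (E ⊔ C) := (inv_of_le_fx (hEle.trans inf_le_right)).sup hCi
    have h2 := (h1.sup (pd_one hinj hECi hECd) (by rw [inf_comm]; exact hT1))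
    rwa [sup_comm, hT2] at h2

/-- If `x^r = z` with `X^r - z` irreducible then every invariant subspace is a cyclic piece. -/
lemma cyc_of_irreducible [FiniteDimensional F V] (hr : 0 < r) {z : F} (hP : Irreducible (X ^ r - C z))
    (hx : x ^ r = z • 1) (hz : z ≠ 0) (hU : Inv x U) : ∃ m, Cyc x r m U := by
  have hPx : aeval x (X ^ r - C z) = 0 := by
    rw [map_sub, map_pow, aeval_X, aeval_C, hx, Algebra.smul_def, mul_one, sub_self]
  have hss : x.IsSemisimple :=
    Module.End.isSemisimple_of_squarefree_aeval_eq_zero hP.squarefree hPx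
  have hnat : (X ^ r - C z).natDegree = r := natDegree_X_pow_sub_C
  have hmap : ∀ W : Submodule F V, W.map (x ^ r) = W := by
    intro W
    rw [hx, Submodule.map_smul _ _ _ hz, map_one']
  induction hn : finrank F U using Nat.strong_induction_on generalizing U with
  | _ n ih =>
    by_cases h0 : U = ⊥
    · subst h0; exact ⟨0, Cyc.zero⟩
    · obtain ⟨S, hSU, hS⟩ := exists_irr hU h0
      obtain ⟨T, hT, hTU, hST, hST'⟩ := exists_rel_compl hss hS.2.1 hU hSU
      have hSd : finrank F S = r := by
        rw [hS.finrank_eq_natDegree hP (fun v _ => by rw [hPx]; rfl), hnat]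
      have h1 := finrank_sup_of_disj hST
      rw [hST', hn, hSd] at h1
      obtain ⟨m, hm⟩ := ih (finrank F T) (by omega) hT rfl
      obtain ⟨v, hv, hv0⟩ := (Submodule.ne_bot_iff _).1 hS.1
      have hcyc : Cyc x r 1 S := by
        have hle : (⨆ j : Fin r, (F ∙ v).map (x ^ (j : ℕ))) ≤ S := by
          refine iSup_le fun j => ?_
          rw [Submodule.map_span_le]
          intro w hw
          rw [Set.mem_singleton_iff] at hw
          subst hw
          exact hS.2.1.pow _ _ hv
        have hinv : Inv x (⨆ j : Fin r, (F ∙ v).map (x ^ (j : ℕ))) := by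
          have e : (⨆ j : Fin r, (F ∙ v).map (x ^ (j : ℕ)))
              = Submodule.span F (Set.range fun j : Fin (X ^ r - C z : F[X]).natDegree => (x ^ (j : ℕ)) v) := by
            rw [hnat, Submodule.span_range_eq_iSup]
            simp only [Submodule.map_span, Set.image_singleton]
          rw [e]
          exact inv_span_pow hP.ne_zero (by rw [hPx]; rfl)
        refine ⟨F ∙ v, finrank_span_singleton hv0, ?_, by rw [hSd, one_mul], hmap _⟩
        refine (hS.2.2 _ hle hinv).resolve_left fun hbot => hv0 ?_
        rw [← Submodule.mem_bot F, ← hbot]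
        exact (Cyc.le_of hr rfl) (Submodule.mem_span_singleton_self v)
      refine ⟨1 + m, ?_⟩
      rw [← hST']
      exact hcyc.sup hr hm hST

lemma pd_of_irreducible [FiniteDimensional F V] (hrp : r.Prime) {z : F} (hP : Irreducible (X ^ r - C z))
    (hx : x ^ r = z • 1) (hz : z ≠ 0) (hd : finrank F V = a * t) : PD x a ⊤ t := by
  have hr := hrp.pos
  have hinj := injective_of_pow' hr hz hx
  have hmap : ∀ W : Submodule F V, W.map (x ^ r) = W := by
    intro W
    rw [hx, Submodule.map_smul _ _ _ hz, map_one']
  obtain ⟨m, hm⟩ := cyc_of_irreducible hr hP hx hz (inv_top (x := x))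
  have hfr : a * t = m * r := by
    obtain ⟨_, _, _, h, _⟩ := hm
    rw [finrank_top] at h
    rw [← h, hd]
  by_cases hra : r ∣ a
  · obtain ⟨a', rfl⟩ := hra
    have : m = a' * t := by
      have : r * m = r * (a' * t) := by rw [mul_comm r m, ← hfr, mul_assoc]
      exact Nat.eq_of_mul_eq_mul_left hr this
    rw [this] at hm
    rw [mul_comm r a']
    exact hm.pd_inv hr hinj hmap
  · have hrt : r ∣ t := by
      have : r ∣ a * t := by rw [hfr]; exact dvd_mul_left _ _
      exact (hrp.dvd_mul.1 this).resolve_left hra
    obtain ⟨t', rfl⟩ := hrt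
    have : m = a * t' := by
      have : r * m = r * (a * t') := by rw [mul_comm r m, ← hfr]; ring
      exact Nat.eq_of_mul_eq_mul_left hr this
    rw [this] at hm
    exact hm.pd_mul hr hinj hmap

end Cfsg.Agent.H951
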