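import Cfsg.Agent.H951.Decomp2
/-!
# Permuted decompositions for involutions in characteristic 2 and for free summands
-/

set_option autoImplicit false

namespace Cfsg.Agent.H951

open Module Polynomial

variable {F V : Type*} [Field F] [AddCommGroup V] [Module F V]
variable {x y : Module.End F V} {a b r s t : ℕ} {U U' W : Submodule F V}

/-- A subspace of the fixed space is decomposed trivially. -/
lemma pd_of_le_fx [FiniteDimensional F V] (hinj : Function.Injective x) (h : U ≤ fx x) (hd : finrank F U = a * t) :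
    PD x a U t := by
  induction t generalizing U with
  | zero =>
    have : U = ⊥ := Submodule.finrank_eq_zero.1 (by rw [hd]; simp)
    subst this
    exact PD.zero
  | succ t ih =>
    rw [mul_add, mul_one] at hd
    obtain ⟨W₁, W₂, e1, e2, e3, e4⟩ := exists_split U hd
    have h1 : W₁ ≤ fx x := (le_sup_left.trans e4.le).trans h
    have h2 : W₂ ≤ fx x := (le_sup_right.trans e4.le).trans h
    rw [← e4]
    exact (ih h1 e1).sup (pd_one hinj (inv_of_le_fx h2) e2) e3

lemma disj_of_finrank [FiniteDimensional F V] (h : finrank F U + finrank F W ≤ finrank F ↥(U ⊔ W)) :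
    U ⊓ W = ⊥ := by
  have := Submodule.finrank_sup_add_finrank_inf_eq U W
  exact Submodule.finrank_eq_zero.1 (by omega)

lemma Cyc.finrank (h : Cyc x r a U) : finrank F U = a * r := by
  obtain ⟨_, _, _, h, _⟩ := h
  exact h

/-- `S` a free part (2-cycles), `T` fixed: all decompositions into `a`-spaces exist. -/
lemma pd_mono_two [FiniteDimensional F V] (hinj : Function.Injective x)
    (hx' : ∀ W : Submodule F V, W.map (x ^ 2) = W) {S T : Submodule F V} (hS : Cyc x 2 s S) (hT : T ≤ fx x)
    (hST : S ⊓ T = ⊥) (hd : 2 * s + finrank F T = a * t) : PD x a (S ⊔ T) t := by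
  induction t using Nat.strong_induction_on generalizing s S T with
  | _ t ih =>
    have hSd := hS.finrank
    have hSTd := finrank_sup_of_disj hST
    rcases Nat.eq_zero_or_pos t with ht | ht
    · subst ht
      have : S ⊔ T = ⊥ := Submodule.finrank_eq_zero.1 (by rw [hSTd, hSd]; omega)
      rw [this]; exact PD.zero
    obtain ⟨t', rfl⟩ : ∃ t', t = t' + 1 := ⟨t - 1, by omega⟩
    by_cases hcase : Even a ∨ 1 ≤ finrank F T
    · -- split off an invariant a-space
      set j := min s (a / 2) with hj
      have hjs : j ≤ s := min_le_left _ _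
      have hja : j ≤ a / 2 := min_le_right _ _
      have he : a - 2 * j ≤ finrank F T := by
        rcases Nat.le_total s (a / 2) with h | h
        · have : j = s := min_eq_left h
          rw [this]
          rw [mul_add, mul_one] at hd
          have := Nat.zero_le (a * t')
          omega
        · have : j = a / 2 := min_eq_right h
          rw [this]
          rcases hcase with hev | h1
          · obtain ⟨k, hk⟩ := hev
            omega
          · omega
      obtain ⟨s', hs'⟩ : ∃ s', s = j + s' := ⟨s - j, by omega⟩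
      rw [hs'] at hS
      obtain ⟨S₁, S₂, h1, h2, h3, h4⟩ := Cyc.split (by norm_num) hx' hS
      obtain ⟨T₁, T₂, k1, k2, k3, k4⟩ := exists_split T (a := a - 2 * j) (b := finrank F T - (a - 2 * j)) (by omega)
      have hT₁ : T₁ ≤ fx x := (le_sup_left.trans k4.le).trans hT
      have hT₂ : T₂ ≤ fx x := (le_sup_right.trans k4.le).trans hT
      have hS₁d := h1.finrank
      have hS₂d := h2.finrank
      have hsup : (S₁ ⊔ T₁) ⊔ (S₂ ⊔ T₂) = S ⊔ T := by rw [sup_sup_sup_comm, h4, k4]
      have hd1 : S₁ ⊓ T₁ = ⊥ := by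
        rw [eq_bot_iff, ← hST]
        exact inf_le_inf (le_sup_left.trans h4.le) (le_sup_left.trans k4.le)
      have hd2 : S₂ ⊓ T₂ = ⊥ := by
        rw [eq_bot_iff, ← hST]
        exact inf_le_inf (le_sup_right.trans h4.le) (le_sup_right.trans k4.le)
      have e1 := finrank_sup_of_disj hd1
      have e2 := finrank_sup_of_disj hd2
      have hdis : (S₁ ⊔ T₁) ⊓ (S₂ ⊔ T₂) = ⊥ := by
        apply disj_of_finrank
        rw [hsup, hSTd, e1, e2]
        omega
      rw [mul_add, mul_one] at hd
      have h5 := ih t' (by omega) h2 hT₂ hd2 (by omega)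
      have h6 : PD x a (S₁ ⊔ T₁) 1 :=
        pd_one hinj ((h1.inv (by norm_num)).sup (inv_of_le_fx hT₁)) (by rw [e1]; omega)
      rw [← hsup, sup_comm]
      exact h5.sup h6 (by rw [inf_comm]; exact hdis)
    · push Not at hcase
      obtain ⟨hodd, hT0⟩ := hcase
      have hT0' : finrank F T = 0 := by omega
      have hTbot : T = ⊥ := Submodule.finrank_eq_zero.1 hT0'
      subst hTbot
      rw [sup_bot_eq]
      rw [Nat.not_even_iff_odd] at hodd
      -- 2 s = a (t' + 1) so t' + 1 is even
      have h2t : 2 ∣ t' + 1 := by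
        have h2 : 2 ∣ a * (t' + 1) := ⟨s, by rw [hT0'] at hd; omega⟩
        rcases (Nat.prime_two.dvd_mul).1 h2 with h | h
        · exact absurd (even_iff_two_dvd.2 h) (Nat.not_even_iff_odd.2 hodd)
        · exact h
      obtain ⟨t₂, ht₂⟩ := h2t
      have : s = a * t₂ := by
        have : 2 * s = 2 * (a * t₂) := by rw [hT0', add_zero, ht₂] at hd; rw [hd]; ring
        omega
      rw [this] at hS
      rw [ht₂]
      exact hS.pd_mul (by norm_num) hinj hx'

lemma iSup_fin2 (f : Fin 2 → Submodule F V) : (⨆ j, f j) = f 0 ⊔ f 1 := by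
  apply le_antisymm
  · refine iSup_le fun j => ?_
    fin_cases j
    · exact le_sup_left
    · exact le_sup_right
  · exact sup_le (le_iSup f 0) (le_iSup f 1)

/-- In characteristic 2 an operator with `x² = 1` is a sum of free part and a fixed part. -/
lemma exists_mono_two [FiniteDimensional F V] (h2 : (2 : F) = 0) (hx : x ^ 2 = 1) :
    ∃ s S T, Cyc x 2 s S ∧ T ≤ fx x ∧ S ⊓ T = ⊥ ∧ S ⊔ T = ⊤ := by
  have hNN : ∀ v, (x - 1) ((x - 1) v) = 0 := by
    intro v
    have h : x (x v) = v := by rw [← Module.End.mul_apply, ← pow_two, hx]; rfl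
    simp only [LinearMap.sub_apply, Module.End.one_apply, map_sub, h]
    have : v - x v - (x v - v) = (2 : F) • (v - x v) := by rw [two_smul]; abel
    rw [this, h2, zero_smul]
  obtain ⟨W, hW⟩ := (fx x).exists_isCompl
  have hcmfx : cm x ≤ fx x := by
    intro v hv
    obtain ⟨w, rfl⟩ := mem_cm.1 hv
    have := hNN w
    rw [fx, LinearMap.mem_ker]
    simpa using this
  obtain ⟨T, hT1, hT2, hT3⟩ := exists_rel_compl' hcmfx
  have hmapN : W.map (x - 1) = cm x := by
    apply le_antisymm
    · exact LinearMap.map_le_range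
    · intro v hv
      obtain ⟨w, rfl⟩ := hv
      have hw : w ∈ fx x ⊔ W := by rw [hW.sup_eq_top]; trivial
      obtain ⟨p, hp, q, hq, rfl⟩ := Submodule.mem_sup.1 hw
      refine ⟨q, hq, ?_⟩
      rw [map_add, show (x - 1) p = 0 from LinearMap.mem_ker.1 hp, zero_add]
  have hsup : W ⊔ W.map x = W ⊔ cm x := by
    apply le_antisymm
    · refine sup_le le_sup_left ?_
      rintro _ ⟨w, hw, rfl⟩
      have : x w = w + (x - 1) w := by simp
      rw [this]
      exact Submodule.add_mem_sup hw ⟨w, rfl⟩
    · refine sup_le le_sup_left ?_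
      rw [← hmapN]
      rintro _ ⟨w, hw, rfl⟩
      have : (x - 1) w = -w + x w := by simp [sub_eq_neg_add]
      rw [this]
      exact Submodule.add_mem_sup (W.neg_mem hw) ⟨w, hw, rfl⟩
  have hdis : W ⊓ cm x = ⊥ := by
    rw [eq_bot_iff, ← hW.inf_eq_bot, inf_comm]
    exact inf_le_inf hcmfx le_rfl
  have hfr1 : finrank F W = finrank F ↥(cm x) := by
    have h1 := Submodule.finrank_add_eq_of_isCompl hW
    have h2 := LinearMap.finrank_range_add_finrank_ker (x - 1)
    rw [fx] at h1
    rw [cm]
    omega
  have hfr : finrank F ↥(W ⊔ cm x) = finrank F W * 2 := by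
    rw [finrank_sup_of_disj hdis, ← hfr1]; ring
  refine ⟨finrank F W, W ⊔ cm x, T, ⟨W, rfl, ?_, hfr, ?_⟩, hT1, ?_, ?_⟩
  · rw [iSup_fin2, ← hsup]
    simp [map_one']
  · rw [hx, map_one']
  · apply disj_of_finrank
    have h3 := finrank_sup_of_disj hT2
    rw [hT3] at h3
    have h4 : (W ⊔ cm x) ⊔ T = ⊤ := by rw [sup_assoc, hT3, sup_comm]; exact hW.sup_eq_top
    have h5 := Submodule.finrank_add_eq_of_isCompl hW
    rw [h4, finrank_top, hfr]
    omega
  · rw [sup_assoc, hT3, sup_comm]; exact hW.sup_eq_top

end Cfsg.Agent.H951
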