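import Cfsg.Agent.H951.Decomp3
import Cfsg.Prelude.Def_GeometricClasses
/-!
# From `PD` to `Cfsg.Geo.IsMDecomposition`, and matrices with scalar powers
-/

set_option autoImplicit false

namespace Cfsg.Agent.H951

open Module Polynomial

variable {ι : Type} [Fintype ι] [DecidableEq ι] {F : Type*} [Field F]

lemma toLin'_pow_eq {M : Matrix ι ι F} {r : ℕ} {z : F} (h : M ^ r = z • (1 : Matrix ι ι F)) :
    (Matrix.toLin' M) ^ r = z • (1 : Module.End F (ι → F)) := by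
  rw [← Matrix.toLin'_pow, h, map_smul, Matrix.toLin'_one]
  rfl

lemma ne_zero_of_pow_scalar [Nonempty ι] {M : Matrix ι ι F} (hdet : M.det = 1) {r : ℕ} {z : F}
    (h : M ^ r = z • (1 : Matrix ι ι F)) : z ≠ 0 := by
  rintro rfl
  have := congrArg Matrix.det h
  rw [Matrix.det_pow, hdet, one_pow, zero_smul, Matrix.det_zero] at this
  exact one_ne_zero this

omit [DecidableEq ι] in
lemma isMDecomposition_of {a t : ℕ} (ht : 2 ≤ t) (ha : 1 ≤ a) {D : Fin t → Submodule F (ι → F)}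
    (h1 : ∀ i, finrank F (D i) = a) (h2 : (⨆ i, D i) = ⊤) (h3 : finrank F ↥(⊤ : Submodule F (ι → F)) = a * t) :
    Cfsg.Geo.IsMDecomposition a D := by
  refine ⟨ht, ha, h1, indep_of_finrank D ?_, h2⟩
  rw [h2, h3]
  simp [h1, mul_comm]

lemma exists_decomp_of_pd {a t : ℕ} (ht : 2 ≤ t) (ha : 1 ≤ a) {x : Module.End F (ι → F)}
    (h : PD x a ⊤ t) : ∃ D : Fin t → Submodule F (ι → F), Cfsg.Geo.IsMDecomposition a D ∧
      ∃ σ : Equiv.Perm (Fin t), ∀ j, (D j).map x = D (σ j) := by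
  obtain ⟨D, h1, h2, h3, σ, h4⟩ := h
  exact ⟨D, isMDecomposition_of ht ha h1 h2 h3, σ, h4⟩

end Cfsg.Agent.H951
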