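import Cfsg.Agent.H951.Decomp4
import Cfsg.Agent.H951.Elem
/-!
# The number of decompositions into `t` subspaces of dimension `a`
-/

set_option autoImplicit false

namespace Cfsg.Agent.H951

open Module

section gl

variable {F V : Type*} [Field F] [Fintype F] [AddCommGroup V] [Module F V] [FiniteDimensional F V] {r : ℕ}

/-- If the prime `r` divides the order of `GL(V)` then the order of `|F|` modulo `r` is at most `dim V`. -/
lemma ord_le_of_dvd_card [Fact r.Prime] (hr : (r : F) ≠ 0) (h : r ∣ Nat.card (V ≃ₗ[F] V)) :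
    orderOf (Fintype.card F : ZMod r) ≤ finrank F V := by
  have hV : Finite V := Module.finite_of_finite F
  have hG : Finite (V ≃ₗ[F] V) := DFunLike.finite _
  obtain ⟨g, hg⟩ := exists_prime_orderOf_dvd_card' r h
  have hx : (g : Module.End F V) ^ r = 1 := by
    have h1 : g ^ r = 1 := hg ▸ pow_orderOf_eq_one g
    apply LinearMap.ext
    intro v
    have h2 : ∀ j : ℕ, ((g : Module.End F V) ^ j) v = (g ^ j) v := by
      intro j
      induction j with
      | zero => rfl
      | succ j ih => rw [pow_succ', pow_succ', Module.End.mul_apply, ih]; rfl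
    rw [h2, h1]; rfl
  have hne : cm (g : Module.End F V) ≠ ⊥ := by
    intro h0
    have h1 : g = 1 := by
      apply LinearEquiv.ext
      intro v
      have h2 : g v - v ∈ cm (g : Module.End F V) := mem_cm.2 ⟨v, rfl⟩
      rw [h0, Submodule.mem_bot, sub_eq_zero] at h2
      exact h2
    rw [h1, orderOf_one] at hg
    exact (Fact.out : r.Prime).one_lt.ne hg
  have h1 := ord_dvd_finrank hx inv_cm (inf_fx_of_le_cm hr hx le_rfl)
  refine (Nat.le_of_dvd ?_ h1).trans (Submodule.finrank_le _)
  exact Nat.pos_of_ne_zero fun h0 => hne (Submodule.finrank_eq_zero.1 h0)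

end gl

section count

variable {F V : Type*} [Field F] [Fintype F] [AddCommGroup V] [Module F V] [FiniteDimensional F V] {a t : ℕ}

/-- The ordered decompositions. -/
def Dec (F V : Type*) [Field F] [AddCommGroup V] [Module F V] (a t : ℕ) : Type _ :=
  {D : Fin t → Submodule F V // (∀ i, finrank F (D i) = a) ∧ iSupIndep D ∧ (⨆ i, D i) = ⊤}

/-- The action of `GL(V)` on ordered decompositions. -/
@[reducible] def decAct (F V : Type*) [Field F] [AddCommGroup V] [Module F V] (a t : ℕ) :
    MulAction (V ≃ₗ[F] V) (Dec F V a t) where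
  smul g D := ⟨fun i => (D.1 i).map (g : V →ₗ[F] V), fun i =>
      (LinearEquiv.finrank_map_eq g _).trans (D.2.1 i),
    LinearMap.iSupIndep_map (g : V →ₗ[F] V) g.injective D.2.2.1,
    (Submodule.map_iSup _ _).symm.trans ((congrArg _ D.2.2.2).trans ((Submodule.map_top _).trans (LinearEquiv.range g)))⟩
  one_smul D := Subtype.ext (funext fun i => Submodule.map_id _)
  mul_smul g h D := Subtype.ext (funext fun i => Submodule.map_comp (h : V →ₗ[F] V) (g : V →ₗ[F] V) (D.1 i))

/-- The action of the symmetric group on ordered decompositions. -/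
@[reducible] def permAct (F V : Type*) [Field F] [AddCommGroup V] [Module F V] (a t : ℕ) :
    MulAction (Equiv.Perm (Fin t)) (Dec F V a t) where
  smul σ D := ⟨fun i => D.1 (σ⁻¹ i), fun i => D.2.1 _, D.2.2.1.comp (σ⁻¹).injective,
    ((σ⁻¹).iSup_comp (g := D.1)).trans D.2.2.2⟩
  one_smul D := Subtype.ext (funext fun i => by show D.1 ((1 : Equiv.Perm (Fin t))⁻¹ i) = _; simp)
  mul_smul g h D := Subtype.ext (funext fun i => by
    show D.1 ((g * h)⁻¹ i) = D.1 (h⁻¹ (g⁻¹ i)); rw [mul_inv_rev]; rfl)

omit [Fintype F] in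
lemma dec_transitive (D D' : Dec F V a t) : ∃ g : V ≃ₗ[F] V, ∀ i, (D.1 i).map (g : V →ₗ[F] V) = D'.1 i := by
  classical
  have hI := DirectSum.isInternal_submodule_of_iSupIndep_of_iSup_eq_top D.2.2.1 D.2.2.2
  have hI' := DirectSum.isInternal_submodule_of_iSupIndep_of_iSup_eq_top D'.2.2.1 D'.2.2.2
  let b : ∀ i, Basis (Fin a) F (D.1 i) := fun i => Module.finBasisOfFinrankEq F _ (D.2.1 i)
  let b' : ∀ i, Basis (Fin a) F (D'.1 i) := fun i => Module.finBasisOfFinrankEq F _ (D'.2.1 i)
  let B := hI.collectedBasis b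
  let B' := hI'.collectedBasis b'
  let g : V ≃ₗ[F] V := B.equiv B' (Equiv.refl _)
  refine ⟨g, fun i => ?_⟩
  apply Submodule.eq_of_le_of_finrank_eq
  · have hspan : D.1 i = Submodule.span F (Set.range fun k => ((b i k : D.1 i) : V)) := by
      have h1 := congrArg (Submodule.map (D.1 i).subtype) (b i).span_eq
      rw [Submodule.map_span, Submodule.map_top, Submodule.range_subtype, ← Set.range_comp] at h1
      exact h1.symm
    rw [hspan, Submodule.map_span_le]
    rintro _ ⟨k, rfl⟩
    have h1 : B ⟨i, k⟩ = (b i k : V) := by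
      simp only [B, DirectSum.IsInternal.collectedBasis_coe]
    have h2 : g (B ⟨i, k⟩) = B' ⟨i, k⟩ := by simp [g]
    have h3 : B' ⟨i, k⟩ = (b' i k : V) := by
      simp only [B', DirectSum.IsInternal.collectedBasis_coe]
    show g ((b i k : D.1 i) : V) ∈ D'.1 i
    rw [← h1, h2, h3]
    exact (b' i k).2
  · exact (LinearEquiv.finrank_map_eq g _).trans ((D.2.1 i).trans (D'.2.1 i).symm)

lemma card_dec_dvd (h : Nonempty (Dec F V a t)) : Nat.card (Dec F V a t) ∣ Nat.card (V ≃ₗ[F] V) := by
  have hV : Finite V := Module.finite_of_finite F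
  let _ := decAct F V a t
  have ht : MulAction.IsPretransitive (V ≃ₗ[F] V) (Dec F V a t) := by
    constructor
    intro D D'
    obtain ⟨g, hg⟩ := dec_transitive D D'
    exact ⟨g, Subtype.ext (funext hg)⟩
  obtain ⟨D⟩ := h
  rw [← MulAction.index_stabilizer_of_transitive (V ≃ₗ[F] V) D]
  exact Subgroup.index_dvd_card _

omit [Fintype F] [FiniteDimensional F V] in
lemma factorial_dvd_card_dec (ha : 1 ≤ a) : t.factorial ∣ Nat.card (Dec F V a t) := by
  let _ := permAct F V a t
  have hfree : ∀ D : Dec F V a t, MulAction.stabilizer (Equiv.Perm (Fin t)) D = ⊥ := by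
    intro D
    rw [eq_bot_iff]
    intro σ hσ
    rw [MulAction.mem_stabilizer_iff] at hσ
    rw [Subgroup.mem_bot]
    have hinj : Function.Injective D.1 := by
      apply D.2.2.1.injective
      intro j hj
      have := D.2.1 j
      rw [hj, finrank_bot] at this
      omega
    have h1 : σ⁻¹ = 1 := by
      apply Equiv.ext
      intro i
      apply hinj
      exact congrFun (congrArg Subtype.val hσ) i
    rw [← inv_inv σ, h1, inv_one]
  have h1 := Nat.card_congr (MulAction.selfEquivOrbitsQuotientProd hfree)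
  rw [Nat.card_prod, Nat.card_perm, Nat.card_fin] at h1
  rw [h1]
  exact dvd_mul_left _ _

/-- If the prime `r` divides the number of unordered decompositions into `t` subspaces of dimension `a ≥ 1` then the
order of `|F|` modulo `r` is at most `dim V`. -/
lemma ord_le_of_dvd_card_dec {r : ℕ} [Fact r.Prime] (hr : (r : F) ≠ 0) (ha : 1 ≤ a) (hd : finrank F V = a * t)
    (h : r ∣ Nat.card (Dec F V a t) / t.factorial) : orderOf (Fintype.card F : ZMod r) ≤ finrank F V := by
  apply ord_le_of_dvd_card hr
  have hne : Nonempty (Dec F V a t) := by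
    have h1 : PD (1 : Module.End F V) a ⊤ t := by
      apply pd_of_le_fx (x := (1 : Module.End F V))
      · exact fun _ _ h => h
      · intro v _; exact mem_fx.2 rfl
      · rw [finrank_top, hd]
    obtain ⟨D, h1, h2, h3, -⟩ := h1
    refine ⟨⟨D, h1, indep_of_finrank D ?_, h2⟩⟩
    rw [h2, h3]
    simp [h1, mul_comm]
  refine dvd_trans ?_ (card_dec_dvd hne)
  obtain ⟨k, hk⟩ := factorial_dvd_card_dec (F := F) (V := V) (t := t) ha
  rw [hk, Nat.mul_div_cancel_left _ (Nat.factorial_pos t)] at h
  rw [hk]
  exact h.mul_left _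

end count

end Cfsg.Agent.H951
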