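import Cfsg.Agent.H951.Glue
/-!
# Transitivity on nondegenerate subspaces, and a counting lemma
-/

set_option autoImplicit false
set_option linter.unusedSectionVars false
set_option linter.unusedVariables false

namespace Cfsg.Agent.H951

open Module Polynomial

section count

/-- Orbit–stabilizer for a map with cosets as fibres. -/
theorem card_mul_of_fiber {G Ω : Type*} [Group G] [Finite G] (S : Subgroup G) (f : G → Ω)
    (hf : Function.Surjective f) (h : ∀ a b, f a = f b ↔ a⁻¹ * b ∈ S) : Nat.card Ω * Nat.card S = Nat.card G := by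
  have e : (G ⧸ S) ≃ Ω := by
    refine Equiv.ofBijective (fun x => Quotient.liftOn' x f fun a b hab => (h a b).2 (QuotientGroup.leftRel_apply.1 hab)) ⟨?_, ?_⟩
    · intro x y
      induction x using Quotient.inductionOn'
      induction y using Quotient.inductionOn'
      intro hxy
      exact Quotient.sound' (QuotientGroup.leftRel_apply.2 ((h _ _).1 hxy))
    · intro w
      obtain ⟨g, rfl⟩ := hf w
      exact ⟨Quotient.mk'' g, rfl⟩
  rw [← Nat.card_congr e]
  exact (Subgroup.card_eq_card_quotient_mul_card_subgroup S).symm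

end count

variable {F V V' : Type*} [Field F] [AddCommGroup V] [Module F V] [FiniteDimensional F V]
  [AddCommGroup V'] [Module F V'] [FiniteDimensional F V']
variable {σ : F →+* F} {ε : F} {B : V → V → F} {B' : V' → V' → F} {U W : Submodule F V} {r : ℕ}

/-- Isometric pieces glue. -/
theorem exists_glue_equiv (hB : Frm σ ε B) (hB' : Frm σ ε B') {W' : Submodule F V'} (hW : Nd B W) (hW' : Nd B' W')
    (φ : W' ≃ₗ[F] W) (ψ : hB'.perp W' ≃ₗ[F] hB.perp W)
    (hφ : ∀ u v : W', B (φ u : V) (φ v : V) = B' (u : V') (v : V'))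
    (hψ : ∀ u v : hB'.perp W', B (ψ u : V) (ψ v : V) = B' (u : V') (v : V')) :
    ∃ T : V' ≃ₗ[F] V, (∀ u v, B (T u) (T v) = B' u v) ∧ (∀ u : W', T u = φ u) ∧ (∀ u : hB'.perp W', T u = ψ u) ∧
      W'.map (T : V' →ₗ[F] V) = W := by
  let e' := Submodule.prodEquivOfIsCompl W' (hB'.perp W') (hB'.isCompl_perp hW')
  let e := Submodule.prodEquivOfIsCompl W (hB.perp W) (hB.isCompl_perp hW)
  let T : V' ≃ₗ[F] V := e'.symm.trans ((φ.prodCongr ψ).trans e)
  have hT : ∀ (u : W') (w : hB'.perp W'), T (u + w) = φ u + ψ w := by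
    intro u w
    have h1 : e'.symm ((u : V') + w) = (u, w) := by
      rw [LinearEquiv.symm_apply_eq]
      exact (Submodule.coe_prodEquivOfIsCompl' _ _ _ (u, w)).symm
    show e ((φ.prodCongr ψ) (e'.symm ((u : V') + w))) = _
    rw [h1]
    exact Submodule.coe_prodEquivOfIsCompl' _ _ _ (φ u, ψ w)
  have hT1 : ∀ u : W', T u = φ u := by
    intro u
    have := hT u 0
    simpa using this
  have hT2 : ∀ u : hB'.perp W', T u = ψ u := by
    intro u
    have := hT 0 u
    simpa using this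
  refine ⟨T, ?_, hT1, hT2, ?_⟩
  · intro v v'
    obtain ⟨u, w, hw, rfl⟩ := exists_decomp hB' hW' v
    obtain ⟨u', w', hw', rfl⟩ := exists_decomp hB' hW' v'
    have e1 := hT u ⟨w, hw⟩
    have e2 := hT u' ⟨w', hw'⟩
    simp only at e1 e2
    rw [e1, e2, hB.add_left, hB.add_right, hB.add_right, hφ, hψ, (mem_perp_iff' (ψ ⟨w', hw'⟩).2 (φ u).2).1,
      (mem_perp_iff' (ψ ⟨w, hw⟩).2 (φ u').2).2, hB'.add_left, hB'.add_right, hB'.add_right,
      (mem_perp_iff' hw' u.2).1, (mem_perp_iff' hw u'.2).2]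
  · apply le_antisymm
    · rintro _ ⟨u, hu, rfl⟩
      have : (T : V' →ₗ[F] V) u = φ ⟨u, hu⟩ := hT1 ⟨u, hu⟩
      rw [this]
      exact (φ ⟨u, hu⟩).2
    · intro w hw
      refine ⟨(φ.symm ⟨w, hw⟩ : W'), (φ.symm ⟨w, hw⟩).2, ?_⟩
      have : (T : V' →ₗ[F] V) (φ.symm ⟨w, hw⟩ : W') = φ (φ.symm ⟨w, hw⟩) := hT1 _
      rw [this, φ.apply_symm_apply]

/-- Nondegenerate subspaces of the same dimension are conjugate. -/
theorem exists_move [Finite F] (hB : Frm σ ε B) (hK : Kind σ ε B) (hV : Nd B (⊤ : Submodule F V)) {W' : Submodule F V}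
    (hW : Nd B W) (hW' : Nd B W') (hd : finrank F W' = finrank F W) :
    ∃ T : V ≃ₗ[F] V, (∀ u v, B (T u) (T v) = B u v) ∧ W'.map (T : V →ₗ[F] V) = W := by
  obtain ⟨φ, hφ⟩ := exists_isometry hB hB hK hK hW hW' hd
  have h1 := hB.finrank_perp_inf hW (le_top : W ≤ ⊤)
  have h2 := hB.finrank_perp_inf hW' (le_top : W' ≤ ⊤)
  rw [inf_top_eq] at h1 h2
  have h3 := hB.nd_perp_inf hV hW le_top
  have h4 := hB.nd_perp_inf hV hW' le_top
  rw [inf_top_eq] at h3 h4
  obtain ⟨ψ, hψ⟩ := exists_isometry hB hB hK hK h3 h4 (by omega)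
  obtain ⟨T, hT, -, -, hT'⟩ := exists_glue_equiv hB hB hW hW' φ ψ hφ hψ
  exact ⟨T, hT, hT'⟩

/-- A nondegenerate space is isometric to a nondegenerate subspace of the same dimension. -/
theorem exists_equiv_of_top [Finite F] (hB : Frm σ ε B) (hB' : Frm σ ε B') (hK : Kind σ ε B) (hK' : Kind σ ε B')
    (hU : Nd B U) (hV' : Nd B' (⊤ : Submodule F V')) (hd : finrank F V' = finrank F U) :
    ∃ φ : V' ≃ₗ[F] U, ∀ u v : V', B (φ u : V) (φ v : V) = B' u v := by
  obtain ⟨φ, hφ⟩ := exists_isometry hB hB' hK hK' hU hV' (by rw [finrank_top]; exact hd)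
  refine ⟨Submodule.topEquiv.symm.trans φ, fun u v => ?_⟩
  have := hφ (Submodule.topEquiv.symm u) (Submodule.topEquiv.symm v)
  simpa using this

/-- Blocks: a single isometry of prime order of a `c`-dimensional space gives one supported on every nondegenerate
subspace of dimension `c`, provided that `c` divides the dimension of commutator spaces. -/
theorem exists_blk [Finite F] (hB : Frm σ ε B) (hB' : Frm σ ε B') (hK : Kind σ ε B) (hK' : Kind σ ε B')
    (hV' : Nd B' (⊤ : Submodule F V')) (hr : (r : F) ≠ 0) (hdiv : ∀ y : Module.End F V', Isom B' y → y ^ r = 1 →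
      finrank F V' ∣ finrank F ↥(cm y))
    {y : Module.End F V'} (hy : Isom B' y) (hyr : y ^ r = 1) (hy1 : y ≠ 1) (hU : Nd B U)
    (hd : finrank F V' = finrank F U) :
    ∃ y : Module.End F V, Isom B y ∧ y ^ r = 1 ∧ hB.perp U ≤ fx y ∧ cm y = U := by
  obtain ⟨φ, hφ⟩ := exists_equiv_of_top hB hB' hK hK' hU hV' hd
  -- cm y = ⊤
  have h1 : cm y = ⊤ := by
    have h2 : cm y ≠ ⊥ := by
      intro h
      apply hy1
      ext v
      have : y v - v ∈ cm y := mem_cm.2 ⟨v, rfl⟩
      rw [h, Submodule.mem_bot, sub_eq_zero] at this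
      exact this
    have h3 : 0 < finrank F ↥(cm y) := by
      rw [Nat.pos_iff_ne_zero]
      intro h
      exact h2 (Submodule.finrank_eq_zero.1 h)
    exact Submodule.eq_top_of_finrank_eq (le_antisymm (Submodule.finrank_le _) (Nat.le_of_dvd h3 (hdiv y hy hyr)))
  let A : Module.End F U := φ.conj y
  have hA : ∀ u, A u = φ (y (φ.symm u)) := fun u => rfl
  have hAi : ∀ u v : U, B (A u : V) (A v : V) = B (u : V) (v : V) := by
    intro u v
    rw [hA, hA, hφ, hy, ← hφ, φ.apply_symm_apply, φ.apply_symm_apply]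
  have hAr : A ^ r = 1 := by
    have : A ^ r = φ.conj (y ^ r) := by
      have h := map_pow (LinearEquiv.conjAlgEquiv F φ) y r
      exact h.symm
    rw [this, hyr]
    ext u
    simp [LinearEquiv.conj_apply]
  refine ⟨ext1 hB hU A, ext1_isom hB hU hAi, ext1_pow_eq_one hB hU hAr, perp_le_fx_ext1 hB hU A, ?_⟩
  apply le_antisymm (cm_ext1_le hB hU A)
  intro u hu
  have h5 : φ.symm ⟨u, hu⟩ ∈ cm y := by rw [h1]; trivial
  obtain ⟨w, hw⟩ := mem_cm.1 h5
  refine mem_cm.2 ⟨(φ w : V), ?_⟩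
  rw [ext1_of_mem, hA, φ.symm_apply_apply, ← Submodule.coe_sub, ← map_sub, hw, φ.apply_symm_apply]

end Cfsg.Agent.H951
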