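import Cfsg.Agent.H951.JT
import Cfsg.Agent.H951.Move
/-!
# Realisation of Jordan types of skew nilpotent operators
-/

set_option autoImplicit false
set_option linter.unusedSectionVars false
set_option linter.unusedVariables false

namespace Cfsg.Agent.H951

open Module Polynomial

variable {F V : Type*} [Field F] [AddCommGroup V] [Module F V] [FiniteDimensional F V]
variable {σ : F →+* F} {ε : F} {B : V → V → F} {N N' : Module.End F V} {U W W' : Submodule F V}

section model

variable (s k : ℕ)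

/-- Extension by zero. -/
def zx {F : Type*} [Field F] {s k : ℕ} (u : Fin (k + 1) → Fin s → F) (i : ℕ) : Fin s → F :=
  if h : i < k + 1 then u ⟨i, h⟩ else 0

variable {s k}

lemma zx_add {F : Type*} [Field F] (u v : Fin (k + 1) → Fin s → F) (i : ℕ) : zx (u + v) i = zx u i + zx v i := by
  unfold zx; split_ifs <;> simp

lemma zx_smul {F : Type*} [Field F] (a : F) (u : Fin (k + 1) → Fin s → F) (i : ℕ) : zx (a • u) i = a • zx u i := by
  unfold zx; split_ifs <;> simp

lemma zx_coe {F : Type*} [Field F] (u : Fin (k + 1) → Fin s → F) (i : Fin (k + 1)) : zx u i = u i := by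
  unfold zx; rw [dif_pos i.2]

/-- The form on the multiplicity space. -/
def gf (σ : F →+* F) (G : Fin s → Fin s → F) (x y : Fin s → F) : F := ∑ b, ∑ b', x b * G b b' * σ (y b')

lemma gf_add_left (G : Fin s → Fin s → F) (x x' y : Fin s → F) : gf σ G (x + x') y = gf σ G x y + gf σ G x' y := by
  simp only [gf, Pi.add_apply, add_mul, Finset.sum_add_distrib]

lemma gf_smul_left (G : Fin s → Fin s → F) (a : F) (x y : Fin s → F) : gf σ G (a • x) y = a * gf σ G x y := by
  simp only [gf, Pi.smul_apply, smul_eq_mul, Finset.mul_sum, mul_assoc]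

lemma gf_zero_right (G : Fin s → Fin s → F) (x : Fin s → F) : gf σ G x 0 = 0 := by simp [gf]

lemma gf_zero_left (G : Fin s → Fin s → F) (x : Fin s → F) : gf σ G 0 x = 0 := by simp [gf]

lemma gf_herm {η : F} {G : Fin s → Fin s → F} (h2 : ∀ a, σ (σ a) = a) (hG : ∀ b b', G b' b = η * σ (G b b'))
    (x y : Fin s → F) : gf σ G y x = η * σ (gf σ G x y) := by
  simp only [gf, map_sum, map_mul, h2, Finset.mul_sum]
  rw [Finset.sum_comm]
  refine Finset.sum_congr rfl fun b _ => Finset.sum_congr rfl fun b' _ => ?_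
  rw [hG b b']
  ring

/-- The model form. -/
def mf (σ : F →+* F) (G : Fin s → Fin s → F) (u v : Fin (k + 1) → Fin s → F) : F :=
  ∑ i ∈ Finset.range (k + 1), (-1) ^ i * gf σ G (zx u i) (zx v (k - i))

/-- The model operator. -/
def mN (F : Type*) [Field F] (s k : ℕ) : Module.End F (Fin (k + 1) → Fin s → F) where
  toFun u i := if (i : ℕ) = 0 then 0 else zx u (i - 1)
  map_add' u v := by
    funext i; simp only [Pi.add_apply]; split_ifs
    · simp
    · rw [zx_add]
  map_smul' a u := by
    funext i; simp only [Pi.smul_apply, RingHom.id_apply]; split_ifs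
    · simp
    · rw [zx_smul]

lemma zx_mN (u : Fin (k + 1) → Fin s → F) (i : ℕ) (hi : i < k + 1) :
    zx (mN F s k u) i = if i = 0 then 0 else zx u (i - 1) := by
  conv_lhs => rw [zx, dif_pos hi]
  rfl

lemma frm_mf {G : Fin s → Fin s → F} (hε : ε ≠ 0) (h2 : ∀ a, σ (σ a) = a)
    (hG : ∀ b b', G b' b = ((-1) ^ k * ε) * σ (G b b')) : Frm σ ε (mf (k := k) σ G) where
  add_left u v w := by
    simp only [mf, zx_add, gf_add_left, mul_add, Finset.sum_add_distrib]
  smul_left a u v := by
    simp only [mf, zx_smul, gf_smul_left, Finset.mul_sum]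
    exact Finset.sum_congr rfl fun i _ => by ring
  herm u v := by
    simp only [mf, map_sum, Finset.mul_sum]
    rw [← Finset.sum_range_reflect]
    refine Finset.sum_congr rfl fun i hi => ?_
    rw [Finset.mem_range] at hi
    have e1 : k + 1 - 1 - i = k - i := by omega
    have e2 : k - (k - i) = i := by omega
    rw [e1, e2, gf_herm h2 hG, map_mul, map_pow, map_neg, map_one]
    have e3 : (-1 : F) ^ (k - i) * (-1) ^ k = (-1) ^ i := by
      have e4 : (-1 : F) ^ k = (-1) ^ (k - i) * (-1) ^ i := by rw [← pow_add]; congr 1; omega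
      rw [e4, ← mul_assoc, ← mul_pow]; norm_num
    calc (-1 : F) ^ (k - i) * ((-1) ^ k * ε * σ (gf σ G (zx u i) (zx v (k - i))))
        = ((-1 : F) ^ (k - i) * (-1) ^ k) * ε * σ (gf σ G (zx u i) (zx v (k - i))) := by ring
      _ = _ := by rw [e3]; ring
  sigma_sq := h2
  eps_ne := hε

/-- The generator `e_i ⊗ x`. -/
def gen (F : Type*) [Field F] {s : ℕ} (k : ℕ) (i : ℕ) (x : Fin s → F) : Fin (k + 1) → Fin s → F :=
  fun j => if (j : ℕ) = i then x else 0

lemma zx_gen (i j : ℕ) (x : Fin s → F) (hj : j < k + 1) : zx (gen F k i x) j = if j = i then x else 0 := by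
  rw [zx, dif_pos hj]; rfl

lemma mf_gen_right {G : Fin s → Fin s → F} (u : Fin (k + 1) → Fin s → F) (i : ℕ) (hi : i ≤ k) (x : Fin s → F) :
    mf σ G u (gen F k (k - i) x) = (-1) ^ i * gf σ G (zx u i) x := by
  rw [mf, Finset.sum_eq_single i]
  · rw [zx_gen _ _ _ (by omega), if_pos rfl]
  · intro j hj hji
    rw [Finset.mem_range] at hj
    rw [zx_gen _ _ _ (by omega), if_neg (by omega), gf_zero_right, mul_zero]
  · intro h; exact absurd (Finset.mem_range.2 (by omega)) h

lemma mN_gen (i : ℕ) (x : Fin s → F) : mN F s k (gen F k i x) = gen F k (i + 1) x := by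
  funext j
  show (if (j : ℕ) = 0 then 0 else zx (gen F k i x) (j - 1)) = if (j : ℕ) = i + 1 then x else 0
  have hj := j.2
  by_cases h : (j : ℕ) = 0
  · rw [if_pos h, if_neg (by omega)]
  · rw [if_neg h, zx_gen _ _ _ (by omega)]
    by_cases h' : (j : ℕ) = i + 1
    · rw [if_pos h', if_pos (by omega)]
    · rw [if_neg h', if_neg (by omega)]

lemma mN_pow_gen (t : ℕ) (i : ℕ) (x : Fin s → F) : (mN F s k ^ t) (gen F k i x) = gen F k (i + t) x := by
  induction t generalizing i with
  | zero => rfl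
  | succ t ih => rw [pow_succ, Module.End.mul_apply, mN_gen, ih]; congr 1; omega

lemma gen_big (i : ℕ) (hi : k < i) (x : Fin s → F) : gen F k i x = 0 := by
  funext j
  show (if (j : ℕ) = i then x else 0) = 0
  rw [if_neg (by omega)]

lemma eq_sum_gen (u : Fin (k + 1) → Fin s → F) : u = ∑ i : Fin (k + 1), gen F k i (u i) := by
  funext j
  rw [Finset.sum_apply, Finset.sum_eq_single j]
  · show u j = if (j : ℕ) = j then u j else 0
    rw [if_pos rfl]
  · intro i _ hij
    show (if (j : ℕ) = i then u i else 0) = 0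
    rw [if_neg (fun h => hij (Fin.ext h.symm))]
  · intro h; exact absurd (Finset.mem_univ _) h

lemma mN_pow_eq_zero : mN F s k ^ (k + 1) = 0 := by
  apply LinearMap.ext
  intro u
  rw [eq_sum_gen u, map_sum]
  simp only [mN_pow_gen]
  rw [Finset.sum_eq_zero fun i _ => gen_big _ (by omega) _]
  rfl

lemma skew_mN (G : Fin s → Fin s → F) : Skew (mf (k := k) σ G) (mN F s k) := by
  intro u v
  simp only [mf]
  rw [Finset.sum_range_succ', Finset.sum_range_succ]
  have h1 : zx (mN F s k u) 0 = 0 := by rw [zx_mN _ _ (by omega), if_pos rfl]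
  have h2 : zx (mN F s k v) (k - k) = 0 := by rw [Nat.sub_self, zx_mN _ _ (by omega), if_pos rfl]
  rw [h1, h2, gf_zero_left, gf_zero_right, mul_zero, mul_zero, add_zero, add_zero, ← Finset.sum_neg_distrib]
  refine Finset.sum_congr rfl fun i hi => ?_
  rw [Finset.mem_range] at hi
  rw [zx_mN _ _ (by omega), if_neg (by omega), zx_mN _ _ (by omega), if_neg (by omega), Nat.add_sub_cancel,
    show k - (i + 1) = k - i - 1 by omega]
  ring

lemma nd_mf {G : Fin s → Fin s → F} (hG : ∀ c : Fin s → F, (∀ b, ∑ b', c b' * G b' b = 0) → c = 0) :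
    Nd (mf (k := k) σ G) (⊤ : Submodule F (Fin (k + 1) → Fin s → F)) := by
  classical
  intro u _ hu
  obtain ⟨i, hi⟩ := Function.ne_iff.1 hu
  have h1 : ∃ b, ∑ b', u i b' * G b' b ≠ 0 := by
    by_contra hno
    push Not at hno
    exact hi (hG _ hno)
  obtain ⟨b, hb⟩ := h1
  refine ⟨gen F k (k - i) (Pi.single b 1), trivial, ?_⟩
  rw [mf_gen_right u i (by omega), zx_coe]
  apply mul_ne_zero (pow_ne_zero _ (neg_ne_zero.2 one_ne_zero))
  have h2 : gf σ G (u i) (Pi.single b 1) = ∑ b', u i b' * G b' b := by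
    rw [gf]
    refine Finset.sum_congr rfl fun b' _ => ?_
    rw [Finset.sum_eq_single b]
    · simp
    · intro c _ hc; rw [Pi.single_eq_of_ne hc, map_zero, mul_zero]
    · intro h; exact absurd (Finset.mem_univ _) h
  rw [h2]
  exact hb

end model

/-- Realisation of a block on a nondegenerate subspace of the right dimension. -/
theorem exists_block_real [Finite F] (hB : Frm σ ε B) (hK : Kind σ ε B) (h2 : σ = RingHom.id F → (2 : F) ≠ 0) {s k : ℕ}
    (G : Fin s → Fin s → F) (hG1 : ∀ b b', G b' b = ((-1) ^ k * ε) * σ (G b b'))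
    (hG2 : ∀ c : Fin s → F, (∀ b, ∑ b', c b' * G b' b = 0) → c = 0) (hU : Nd B U)
    (hd : finrank F U = s * (k + 1)) :
    ∃ N : Module.End F V, Skew B N ∧ (∀ v ∈ hB.perp U, N v = 0) ∧ (∀ v, N v ∈ U) ∧ N ^ (k + 1) = 0 ∧
      Blk B N U s (k + 1) := by
  classical
  have hB' : Frm σ ε (mf (k := k) σ G) := frm_mf hB.eps_ne hB.sigma_sq hG1
  have hK' : Kind σ ε (mf (k := k) σ G) := by
    rcases hK with ⟨h, rfl⟩ | ⟨h, rfl, -⟩
    · exact Or.inl ⟨h, rfl⟩
    · refine Or.inr ⟨h, rfl, fun v => ?_⟩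
      have h3 := hB'.herm v v
      rw [h] at h3 ⊢
      rw [RingHom.id_apply] at h3
      have h4 : 2 * mf (k := k) (RingHom.id F) G v v = 0 := by linear_combination h3
      exact (mul_eq_zero.1 h4).resolve_left (h2 h)
  obtain ⟨φ, hφ⟩ := exists_equiv_of_top hB hB' hK hK' hU (nd_mf hG2) (by
    rw [hd, finrank_pi_fintype]
    simp [mul_comm])
  let A : Module.End F U := φ.conj (mN F s k)
  have hA : ∀ u, A u = φ (mN F s k (φ.symm u)) := fun u => rfl
  let N : Module.End F V := lift hB hU A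
  have hNφ : ∀ v, N (φ v : V) = φ (mN F s k v) := by
    intro v
    show lift hB hU A (φ v : V) = _
    rw [lift_of_mem, hA, φ.symm_apply_apply]
  have hNφp : ∀ (t : ℕ) v, (N ^ t) (φ v : V) = φ ((mN F s k ^ t) v) := by
    intro t
    induction t with
    | zero => intro v; rfl
    | succ t ih => intro v; rw [pow_succ, pow_succ, Module.End.mul_apply, Module.End.mul_apply, hNφ, ih]
  have hNp : ∀ v ∈ hB.perp U, N v = 0 := fun v hv => lift_of_perp hB hU A hv
  have hNm : ∀ v, N v ∈ U := fun v => lift_mem hB hU A v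
  have hsk : Skew B N := by
    intro v v'
    obtain ⟨u, w, hw, rfl⟩ := exists_decomp hB hU v
    obtain ⟨u', w', hw', rfl⟩ := exists_decomp hB hU v'
    obtain ⟨t, rfl⟩ := φ.surjective u
    obtain ⟨t', rfl⟩ := φ.surjective u'
    rw [map_add, map_add, hNp w hw, hNp w' hw', add_zero, add_zero, hB.add_right, hB.add_left,
      (mem_perp_iff' hw' (hNm _)).1, (mem_perp_iff' hw (hNm _)).2, add_zero, add_zero, hNφ, hNφ, hφ, hφ]
    exact skew_mN G t t'
  have hNk : N ^ (k + 1) = 0 := by
    apply LinearMap.ext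
    intro v
    obtain ⟨u, w, hw, rfl⟩ := exists_decomp hB hU v
    obtain ⟨t, rfl⟩ := φ.surjective u
    have h5 : (N ^ (k + 1)) w = 0 := by
      rw [pow_succ, Module.End.mul_apply, hNp w hw, map_zero]
    rw [map_add, h5, hNφp, mN_pow_eq_zero]
    simp
  refine ⟨N, hsk, hNp, hNm, hNk, ?_⟩
  have hblk := blk_of_gens hB hsk (s := s) (k := k) (fun b => (φ (gen F k 0 (Pi.single b 1)) : V)) (fun b => by
    rw [hNk]; rfl) (by
    intro c hc
    apply hG2
    intro b
    have h6 := hc b
    rw [← h6]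
    refine Finset.sum_congr rfl fun b' _ => ?_
    rw [hNφp, hφ, mN_pow_gen, zero_add]
    have h7 := mf_gen_right (σ := σ) (G := G) (gen F k 0 (Pi.single b' 1)) 0 (Nat.zero_le k) (Pi.single b 1)
    rw [Nat.sub_zero] at h7
    rw [h7, zx_gen _ _ _ (by omega), if_pos rfl, pow_zero, one_mul]
    congr 1
    rw [gf, Finset.sum_eq_single b', Finset.sum_eq_single b]
    · simp
    · intro c _ hc; rw [Pi.single_eq_of_ne hc, map_zero, mul_zero]
    · intro h; exact absurd (Finset.mem_univ _) h
    · intro c _ hc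
      apply Finset.sum_eq_zero
      intro d _
      rw [Pi.single_eq_of_ne hc, zero_mul, zero_mul]
    · intro h; exact absurd (Finset.mem_univ _) h)
  have hle : Submodule.span F (Set.range fun x : Fin (k + 1) × Fin s =>
      (N ^ (x.1 : ℕ)) (φ (gen F k 0 (Pi.single x.2 1)) : V)) = U := by
    apply Submodule.eq_of_le_of_finrank_eq
    · rw [Submodule.span_le]
      rintro _ ⟨x, rfl⟩
      simp only
      rw [hNφp]
      exact (φ _).2
    · rw [hblk.finrank_eq, hd]
  rw [hle] at hblk
  exact hblk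

/-- Realisation of all types. -/
theorem exists_real (hB : Frm σ ε B) (hK : Kind σ ε B) {n : ℕ} (hn : n ≠ 0) {P : ℕ → ℕ → Prop}
    (hreal : ∀ s a, P s a → ∀ U : Submodule F V, Nd B U → finrank F U = s * a → ∃ N : Module.End F V, Skew B N ∧
      (∀ v ∈ hB.perp U, N v = 0) ∧ (∀ v, N v ∈ U) ∧ N ^ n = 0 ∧ Blk B N U s a)
    (hpar : σ = RingHom.id F → ∀ s a, P s a → Even (s * a)) (μ : Multiset (ℕ × ℕ)) (hμ : ∀ x ∈ μ, P x.1 x.2)
    (W : Submodule F V) (hW : Nd B W) (hd : finrank F W = (μ.map fun x => x.1 * x.2).sum) :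
    ∃ N : Module.End F V, Skew B N ∧ (∀ v ∈ hB.perp W, N v = 0) ∧ (∀ v, N v ∈ W) ∧ N ^ n = 0 ∧ JT B N W μ := by
  induction μ using Multiset.induction_on generalizing W with
  | empty =>
    have h0 : W = ⊥ := by
      rw [← Submodule.finrank_eq_zero (R := F)]
      simpa using hd
    subst h0
    refine ⟨0, fun u v => ?_, fun v _ => rfl, fun v => Submodule.zero_mem _, zero_pow hn, JT.zero⟩
    rw [LinearMap.zero_apply, LinearMap.zero_apply, hB.zero_left, hB.zero_right, neg_zero]
  | cons x μ ih =>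
    obtain ⟨s, a⟩ := x
    rw [Multiset.map_cons, Multiset.sum_cons] at hd
    simp only at hd
    have hPx : P s a := hμ (s, a) (Multiset.mem_cons_self _ _)
    obtain ⟨U, hUW, hU, hUd⟩ := exists_nd_sub hB hK hW (k := s * a) (by omega) (fun h => hpar h s a hPx)
    obtain ⟨N₁, h1, h2, h3, h4, h5⟩ := hreal s a hPx U hU hUd
    have h6 := hB.finrank_perp_inf hU hUW
    obtain ⟨N₂, k1, k2, k3, k4, k5⟩ := ih (fun y hy => hμ y (Multiset.mem_cons_of_mem hy)) (hB.perp U ⊓ W)
      (hB.nd_perp_inf hW hU hUW) (by omega)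
    have hU' : U ≤ hB.perp (hB.perp U ⊓ W) := hB.le_perp_iff.1 inf_le_left
    have e1 : N₁ * N₂ = 0 := LinearMap.ext fun v => h2 _ (k3 v).1
    have e2 : N₂ * N₁ = 0 := LinearMap.ext fun v => k2 _ (hU' (h3 v))
    refine ⟨N₁ + N₂, ?_, ?_, ?_, ?_, ?_⟩
    · intro u v
      rw [LinearMap.add_apply, LinearMap.add_apply, hB.add_left, hB.add_right, h1, k1]
      ring
    · intro v hv
      rw [LinearMap.add_apply, h2 v (hB.perp_anti hUW hv), k2 v (hB.perp_anti inf_le_right hv), add_zero]
    · intro v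
      exact W.add_mem (hUW (h3 v)) (k3 v).2
    · have hc : Commute N₁ N₂ := by rw [Commute, SemiconjBy, e1, e2]
      have e3 : ∀ t : ℕ, t ≠ 0 → (N₁ + N₂) ^ t = N₁ ^ t + N₂ ^ t := by
        intro t
        induction t with
        | zero => intro h; exact absurd rfl h
        | succ t iht =>
          intro _
          by_cases ht : t = 0
          · subst ht; simp
          · rw [pow_succ, iht ht, pow_succ, pow_succ]
            have e4 : N₁ ^ t * N₂ = 0 := by
              obtain ⟨r, rfl⟩ : ∃ r, t = r + 1 := ⟨t - 1, by omega⟩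
              rw [pow_succ, mul_assoc, e1, mul_zero]
            have e5 : N₂ ^ t * N₁ = 0 := by
              obtain ⟨r, rfl⟩ : ∃ r, t = r + 1 := ⟨t - 1, by omega⟩
              rw [pow_succ, mul_assoc, e2, mul_zero]
            rw [add_mul, mul_add, mul_add, e4, e5, add_zero, zero_add]
      rw [e3 n hn, h4, k4, add_zero]
    · have hc1 : Blk B (N₁ + N₂) U s a := h5.congr fun u hu => by
        rw [LinearMap.add_apply, k2 u (hU' hu), add_zero]
      have hc2 : JT B (N₁ + N₂) (hB.perp U ⊓ W) μ := k5.congr fun u hu => by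
        rw [LinearMap.add_apply, h2 u hu.1, zero_add]
      have := JT.cons hc1 hc2 fun u hu w hw => hB.eq_zero_comm.1 (hw.1 u hu)
      rwa [hB.sup_perp_inf hU hUW] at this

end Cfsg.Agent.H951
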