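import Cfsg.Agent.H951.Step
/-!
# Jordan types of skew nilpotent operators on form spaces

`Blk B N U s a`: `U` is nondegenerate, `N`-invariant, and `N` has `s` Jordan blocks of size `a` on `U` (expressed by
ranks of powers). `JT B N W μ`: `W` is an orthogonal sum of blocks of the types in `μ`.
-/

set_option autoImplicit false
set_option linter.unusedSectionVars false
set_option linter.unusedVariables false

namespace Cfsg.Agent.H951

open Module Polynomial

variable {F V : Type*} [Field F] [AddCommGroup V] [Module F V] [FiniteDimensional F V]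
variable {σ : F →+* F} {ε : F} {B : V → V → F} {N N' : Module.End F V} {U W W' : Submodule F V}

structure Blk (B : V → V → F) (N : Module.End F V) (U : Submodule F V) (s a : ℕ) : Prop where
  inv : Inv N U
  nd : Nd B U
  rank : ∀ j, finrank F ↥(U.map (N ^ j)) = s * (a - j)

inductive JT (B : V → V → F) (N : Module.End F V) : Submodule F V → Multiset (ℕ × ℕ) → Prop
  | zero : JT B N ⊥ 0
  | cons {U W : Submodule F V} {s a : ℕ} {μ : Multiset (ℕ × ℕ)} (hU : Blk B N U s a) (hW : JT B N W μ)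
      (h : ∀ u ∈ U, ∀ w ∈ W, B u w = 0) : JT B N (U ⊔ W) ((s, a) ::ₘ μ)

lemma Blk.finrank_eq {s a : ℕ} (h : Blk B N U s a) : finrank F U = s * a := by
  have := h.rank 0
  rwa [pow_zero, Module.End.one_eq_id, Submodule.map_id, Nat.sub_zero] at this

lemma map_pow_le (h : Inv N U) (j : ℕ) : U.map (N ^ j) ≤ U := by
  rintro _ ⟨u, hu, rfl⟩
  exact h.pow j u hu

lemma JT.inv {μ : Multiset (ℕ × ℕ)} (h : JT B N W μ) : Inv N W := by
  induction h with
  | zero => exact inv_bot
  | cons hU _ _ ih => exact hU.inv.sup ih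

lemma JT.nd {μ : Multiset (ℕ × ℕ)} (hB : Frm σ ε B) (h : JT B N W μ) : Nd B W := by
  induction h with
  | zero => exact nd_bot
  | cons hU _ ho ih => exact (hB.nd_sup hU.nd ih ho).1

lemma finrank_map_sup (hB : Frm σ ε B) (hU : Inv N U) (hW : Inv N W) (hd : U ⊓ W = ⊥) (j : ℕ) :
    finrank F ↥((U ⊔ W).map (N ^ j)) = finrank F ↥(U.map (N ^ j)) + finrank F ↥(W.map (N ^ j)) := by
  rw [Submodule.map_sup]
  apply finrank_sup_of_disj
  rw [eq_bot_iff, ← hd]
  exact inf_le_inf (map_pow_le hU j) (map_pow_le hW j)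

lemma JT.rank {μ : Multiset (ℕ × ℕ)} (hB : Frm σ ε B) (h : JT B N W μ) (j : ℕ) :
    finrank F ↥(W.map (N ^ j)) = (μ.map fun x => x.1 * (x.2 - j)).sum := by
  induction h with
  | zero => simp
  | cons hU hW ho ih =>
    rw [finrank_map_sup hB hU.inv hW.inv (hB.nd_sup hU.nd (hW.nd hB) ho).2, hU.rank, ih, Multiset.map_cons,
      Multiset.sum_cons]

lemma JT.finrank_eq {μ : Multiset (ℕ × ℕ)} (hB : Frm σ ε B) (h : JT B N W μ) :
    finrank F W = (μ.map fun x => x.1 * x.2).sum := by
  have := h.rank hB 0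
  rwa [pow_zero, Module.End.one_eq_id, Submodule.map_id] at this

lemma JT.sub {μ ν : Multiset (ℕ × ℕ)} (h : JT B N W μ) (hν : ν ≤ μ) : ∃ W' ≤ W, JT B N W' ν := by
  classical
  induction h generalizing ν with
  | zero =>
    have := Multiset.le_zero.1 hν
    subst this
    exact ⟨⊥, le_rfl, JT.zero⟩
  | @cons U W s a μ hU hW ho ih =>
    by_cases hm : (s, a) ∈ ν
    · obtain ⟨ν', rfl⟩ := Multiset.exists_cons_of_mem hm
      obtain ⟨W', hW'W, hW'⟩ := ih ((Multiset.cons_le_cons_iff _).1 hν)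
      exact ⟨U ⊔ W', sup_le_sup_left hW'W U, JT.cons hU hW' fun u hu w hw => ho u hu w (hW'W hw)⟩
    · obtain ⟨W', hW'W, hW'⟩ := ih ((Multiset.le_cons_of_notMem hm).1 hν)
      exact ⟨W', hW'W.trans le_sup_right, hW'⟩

lemma JT.add {μ ν : Multiset (ℕ × ℕ)} (hB : Frm σ ε B) (h : JT B N W μ) (h' : JT B N W' ν)
    (ho : ∀ u ∈ W, ∀ w ∈ W', B u w = 0) : JT B N (W ⊔ W') (μ + ν) := by
  induction h with
  | zero => rw [bot_sup_eq, zero_add]; exact h'
  | @cons U W s a μ hU hW hUW ih =>
    rw [sup_assoc, Multiset.cons_add]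
    refine JT.cons hU (ih fun u hu w hw => ho u (Submodule.mem_sup_right hu) w hw) ?_
    intro u hu w hw
    obtain ⟨b, hb, c, hc, rfl⟩ := Submodule.mem_sup.1 hw
    rw [hB.add_right, hUW u hu b hb, ho u (Submodule.mem_sup_left hu) c hc, add_zero]

lemma map_pow_congr (hU : Inv N U) (hN : ∀ u ∈ U, N u = N' u) (j : ℕ) : U.map (N ^ j) = U.map (N' ^ j) := by
  have h : ∀ u ∈ U, (N ^ j) u = (N' ^ j) u := by
    induction j with
    | zero => intro u _; rfl
    | succ j ih =>
      intro u hu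
      rw [pow_succ, pow_succ, Module.End.mul_apply, Module.End.mul_apply, ← hN u hu, ih _ (hU u hu)]
  ext v
  constructor
  · rintro ⟨u, hu, rfl⟩; exact ⟨u, hu, (h u hu).symm⟩
  · rintro ⟨u, hu, rfl⟩; exact ⟨u, hu, h u hu⟩

lemma Blk.congr {s a : ℕ} (h : Blk B N U s a) (hN : ∀ u ∈ U, N u = N' u) : Blk B N' U s a where
  inv u hu := by rw [← hN u hu]; exact h.inv u hu
  nd := h.nd
  rank j := by rw [← map_pow_congr h.inv hN, h.rank]

lemma JT.congr {μ : Multiset (ℕ × ℕ)} (h : JT B N W μ) (hN : ∀ u ∈ W, N u = N' u) : JT B N' W μ := by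
  induction h with
  | zero => exact JT.zero
  | cons hU hW ho ih =>
    exact JT.cons (hU.congr fun u hu => hN u (Submodule.mem_sup_left hu))
      (ih fun u hu => hN u (Submodule.mem_sup_right hu)) ho

/-- Existence of a decomposition into blocks. -/
theorem exists_jt (hB : Frm σ ε B) (hperp : ∀ W, Inv N W → Inv N (hB.perp W)) {P : ℕ → ℕ → Prop}
    (step : ∀ W, Inv N W → Nd B W → W ≠ ⊥ → ∃ U ≤ W, ∃ s a, P s a ∧ 0 < s * a ∧ Blk B N U s a)
    (W : Submodule F V) (hW : Inv N W) (hWn : Nd B W) : ∃ μ : Multiset (ℕ × ℕ), JT B N W μ ∧ ∀ x ∈ μ, P x.1 x.2 := by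
  induction hn : finrank F W using Nat.strong_induction_on generalizing W with
  | _ n ih =>
    by_cases h0 : W = ⊥
    · subst h0; exact ⟨0, JT.zero, fun x hx => absurd hx (Multiset.notMem_zero x)⟩
    obtain ⟨U, hUW, s, a, hP, hpos, hU⟩ := step W hW hWn h0
    have h1 := hB.finrank_perp_inf hU.nd hUW
    rw [hU.finrank_eq] at h1
    obtain ⟨μ, hμ, hμP⟩ := ih (finrank F ↥(hB.perp U ⊓ W)) (by omega) (hB.perp U ⊓ W) ((hperp _ hU.inv).inf hW)
      (hB.nd_perp_inf hWn hU.nd hUW) rfl
    refine ⟨(s, a) ::ₘ μ, ?_, ?_⟩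
    · have := JT.cons hU hμ fun u hu w hw => hB.eq_zero_comm.1 (hw.1 u hu)
      rwa [hB.sup_perp_inf hU.nd hUW] at this
    · intro x hx
      rcases Multiset.mem_cons.1 hx with rfl | hx
      · exact hP
      · exact hμP x hx

/-! ### skew operators -/

/-- `N` is skew. -/
def Skew (B : V → V → F) (N : Module.End F V) : Prop := ∀ u v, B (N u) v = - B u (N v)

lemma Skew.pow (hB : Frm σ ε B) (hN : Skew B N) (i : ℕ) (u v : V) : B ((N ^ i) u) v = (-1) ^ i * B u ((N ^ i) v) := by
  induction i generalizing u v with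
  | zero => simp
  | succ i ih =>
    have e1 : (N ^ (i + 1)) u = N ((N ^ i) u) := by rw [pow_succ', Module.End.mul_apply]
    have e2 : (N ^ (i + 1)) v = (N ^ i) (N v) := by rw [pow_succ, Module.End.mul_apply]
    rw [e1, e2, hN, ih]
    ring

lemma Skew.inv_perp (hB : Frm σ ε B) (hN : Skew B N) (hW : Inv N W) : Inv N (hB.perp W) := by
  intro v hv w hw
  rw [hN, hv _ (hW w hw), neg_zero]

/-- Blocks from generators with nonsingular top Gram matrix. -/
theorem blk_of_gens (hB : Frm σ ε B) (hN : Skew B N) {s k : ℕ} (u : Fin s → V) (hk : ∀ b, (N ^ (k + 1)) (u b) = 0)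
    (hG : ∀ c : Fin s → F, (∀ b, ∑ b', c b' * B (u b') ((N ^ k) (u b)) = 0) → c = 0) :
    Blk B N (Submodule.span F (Set.range fun x : Fin (k + 1) × Fin s => (N ^ (x.1 : ℕ)) (u x.2))) s (k + 1) := by
  classical
  set w : Fin (k + 1) × Fin s → V := fun x => (N ^ (x.1 : ℕ)) (u x.2) with hw
  set U := Submodule.span F (Set.range w) with hU
  have hwU : ∀ x, w x ∈ U := fun x => Submodule.subset_span ⟨x, rfl⟩
  have hbig : ∀ (i : ℕ) (b : Fin s), k < i → (N ^ i) (u b) = 0 := by
    intro i b hi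
    obtain ⟨t, rfl⟩ : ∃ t, i = t + (k + 1) := ⟨i - (k + 1), by omega⟩
    rw [pow_add, Module.End.mul_apply, hk, map_zero]
  have key : ∀ c : Fin (k + 1) × Fin s → F, (∀ x, B (∑ y, c y • w y) (w x) = 0) → c = 0 := by
    intro c hc
    by_contra hne
    have hex : ∃ i : ℕ, ∃ (hi : i < k + 1) (b : Fin s), c (⟨i, hi⟩, b) ≠ 0 := by
      obtain ⟨x, hx⟩ := Function.ne_iff.1 hne
      exact ⟨x.1, x.1.2, x.2, hx⟩
    obtain ⟨hi, b₀, hb₀⟩ := Nat.find_spec hex
    set i := Nat.find hex with hidef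
    have hmin : ∀ j, (hj : j < k + 1) → j < i → ∀ b, c (⟨j, hj⟩, b) = 0 := by
      intro j hj hji b
      by_contra h
      exact Nat.find_min hex hji ⟨hj, b, h⟩
    have h1 : (fun b' => c (⟨i, hi⟩, b')) = 0 := by
      apply hG
      intro b
      have h2 := hc (⟨k - i, by omega⟩, b)
      rw [hB.sum_left, Fintype.sum_prod_type, Finset.sum_eq_single (⟨i, hi⟩ : Fin (k + 1))] at h2
      · have h3 : ∀ b' : Fin s, B (c (⟨i, hi⟩, b') • w (⟨i, hi⟩, b')) (w (⟨k - i, by omega⟩, b)) =
            (-1) ^ i * (c (⟨i, hi⟩, b') * B (u b') ((N ^ k) (u b))) := by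
          intro b'
          rw [hB.smul_left, hw]
          simp only
          rw [hN.pow hB, ← Module.End.mul_apply, ← pow_add, Nat.add_sub_cancel' (by omega : i ≤ k)]
          ring
        rw [Finset.sum_congr rfl fun b' _ => h3 b', ← Finset.mul_sum] at h2
        exact (mul_eq_zero.1 h2).resolve_left (pow_ne_zero _ (neg_ne_zero.2 one_ne_zero))
      · intro j _ hji
        apply Finset.sum_eq_zero
        intro b' _
        rcases lt_trichotomy (j : ℕ) i with h4 | h4 | h4
        · have : c (j, b') = 0 := hmin j j.2 h4 b'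
          rw [this, zero_smul, hB.zero_left]
        · exact absurd (Fin.ext h4) hji
        · rw [hB.smul_left, hw]
          simp only
          rw [hN.pow hB, ← Module.End.mul_apply, ← pow_add, hbig _ _ (by omega), hB.zero_right, mul_zero, mul_zero]
      · intro h; exact absurd (Finset.mem_univ _) h
    exact hb₀ (congrFun h1 b₀)
  have hli : LinearIndependent F w := by
    rw [Fintype.linearIndependent_iff]
    intro c hc x
    have := key c fun x => by rw [hc, hB.zero_left]
    exact congrFun this x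
  refine ⟨?_, ?_, ?_⟩
  · intro v hv
    induction hv using Submodule.span_induction with
    | mem v hv =>
      obtain ⟨x, rfl⟩ := hv
      by_cases h : (x.1 : ℕ) + 1 < k + 1
      · have : N (w x) = w (⟨x.1 + 1, h⟩, x.2) := by
          rw [hw]; simp only
          rw [pow_succ', Module.End.mul_apply]
        rw [this]
        exact hwU _
      · have : N (w x) = 0 := by
          rw [hw]; simp only
          rw [← Module.End.mul_apply, ← pow_succ', hbig _ _ (by omega)]
        rw [this]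
        exact Submodule.zero_mem _
    | zero => rw [map_zero]; exact Submodule.zero_mem _
    | add a b _ _ ha hb => rw [map_add]; exact Submodule.add_mem _ ha hb
    | smul t a _ ha => rw [map_smul]; exact Submodule.smul_mem _ t ha
  · intro v hv hv0
    obtain ⟨c, rfl⟩ := (Submodule.mem_span_range_iff_exists_fun F).1 hv
    by_contra hno
    push Not at hno
    apply hv0
    have := key c fun x => hno _ (hwU x)
    rw [this]
    simp
  · intro j
    have h1 : U.map (N ^ j) = Submodule.span F (Set.range fun x : Fin (k + 1 - j) × Fin s => (N ^ ((x.1 : ℕ) + j)) (u x.2)) := by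
      rw [hU, Submodule.map_span]
      apply le_antisymm
      · rw [Submodule.span_le]
        rintro _ ⟨_, ⟨x, rfl⟩, rfl⟩
        have h2 : (N ^ j) (w x) = (N ^ ((x.1 : ℕ) + j)) (u x.2) := by
          rw [hw]; simp only
          rw [← Module.End.mul_apply, ← pow_add, add_comm]
        by_cases h : (x.1 : ℕ) < k + 1 - j
        · exact Submodule.subset_span ⟨(⟨x.1, h⟩, x.2), h2.symm⟩
        · rw [SetLike.mem_coe, h2, hbig _ _ (by omega)]
          exact Submodule.zero_mem _
      · rw [Submodule.span_le]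
        rintro _ ⟨x, rfl⟩
        apply Submodule.subset_span
        refine ⟨w (⟨x.1, by omega⟩, x.2), ⟨_, rfl⟩, ?_⟩
        rw [hw]; simp only
        rw [← Module.End.mul_apply, ← pow_add, add_comm]
    rw [h1]
    have h2 : LinearIndependent F (fun x : Fin (k + 1 - j) × Fin s => (N ^ ((x.1 : ℕ) + j)) (u x.2)) := by
      have := hli.comp (fun x : Fin (k + 1 - j) × Fin s => ((⟨x.1 + j, by omega⟩ : Fin (k + 1)), x.2)) (by
        intro x y hxy
        simp only [Prod.mk.injEq, Fin.mk.injEq] at hxy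
        exact Prod.ext (Fin.ext (by omega)) hxy.2)
      exact this
    rw [finrank_span_eq_card h2, Fintype.card_prod, Fintype.card_fin, Fintype.card_fin, mul_comm]

/-- The largest power of `N` that does not vanish on `W`. -/
lemma exists_top_power {n : ℕ} (hN : N ^ n = 0) (h0 : W ≠ ⊥) :
    ∃ k, k < n ∧ (∃ w ∈ W, (N ^ k) w ≠ 0) ∧ ∀ w ∈ W, (N ^ (k + 1)) w = 0 := by
  classical
  have hex : ∃ k, ∀ w ∈ W, (N ^ k) w = 0 := ⟨n, fun w _ => by rw [hN]; rfl⟩
  have hpos : Nat.find hex ≠ 0 := by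
    intro h
    have h1 := Nat.find_spec hex
    rw [h] at h1
    apply h0
    rw [eq_bot_iff]
    intro w hw
    have := h1 w hw
    simpa using this
  have hle : Nat.find hex ≤ n := Nat.find_min' hex fun w _ => by rw [hN]; rfl
  refine ⟨Nat.find hex - 1, by omega, ?_, ?_⟩
  · have h2 := Nat.find_min hex (Nat.sub_lt (Nat.pos_of_ne_zero hpos) one_pos)
    push Not at h2
    exact h2
  · rw [Nat.sub_add_cancel (Nat.pos_of_ne_zero hpos)]
    exact Nat.find_spec hex

/-- Hermitian case: single Jordan blocks. -/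
theorem step_herm (hσ : σ ≠ RingHom.id F) (hB : Frm σ 1 B) (hN : Skew B N) {n : ℕ} (hn : N ^ n = 0)
    (W : Submodule F V) (hW : Inv N W) (hWn : Nd B W) (h0 : W ≠ ⊥) :
    ∃ U ≤ W, ∃ s a, (s = 1 ∧ 0 < a ∧ a ≤ n) ∧ 0 < s * a ∧ Blk B N U s a := by
  obtain ⟨k, hkn, ⟨w, hw, hwk⟩, hk⟩ := exists_top_power hn h0
  have h1 : ∃ u ∈ W, B u ((N ^ k) u) ≠ 0 := by
    by_contra hno
    push Not at hno
    have h2 := herm_polar (B := fun u v => B u ((N ^ k) v)) (U := W) (η := (-1) ^ k) hσ
      (fun u v => by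
        show B v ((N ^ k) u) = (-1) ^ k * σ (B u ((N ^ k) v))
        rw [← one_mul (σ _), ← hB.herm, hN.pow hB, ← mul_assoc, ← mul_pow]
        norm_num) (fun u v w => hB.add_left _ _ _)
      (fun a u v => hB.smul_left _ _ _) hno
    obtain ⟨v, hv, hwv⟩ := hWn _ (hW.pow k w hw) hwk
    exact hwv (hB.eq_zero_comm.1 (h2 v hv w hw))
  obtain ⟨u, hu, huu⟩ := h1
  refine ⟨_, ?_, 1, k + 1, ⟨rfl, by omega, by omega⟩, by omega,
    blk_of_gens hB hN (s := 1) (k := k) (fun _ => u) (fun _ => hk u hu) ?_⟩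
  · rw [Submodule.span_le]
    rintro _ ⟨x, rfl⟩
    exact hW.pow _ u hu
  · intro c hc
    have h3 := hc 0
    rw [Fin.sum_univ_one] at h3
    ext b
    rw [Subsingleton.elim b 0]
    exact (mul_eq_zero.1 h3).resolve_right huu

end Cfsg.Agent.H951
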