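import Mathlib
/-!
# Multisets determined by the sums of truncated parts; multisets of pairs
-/

set_option autoImplicit false
set_option linter.unusedVariables false

namespace Cfsg.Agent.H951

section multiset

/-- A multiset of positive integers is determined by the sums `Σ (a - j)`. -/
theorem count_of_sums (μ : Multiset ℕ) {a : ℕ} (ha : 0 < a) :
    (μ.map fun x => x - (a - 1)).sum + (μ.map fun x => x - (a + 1)).sum =
      2 * (μ.map fun x => x - a).sum + μ.count a := by
  induction μ using Multiset.induction_on with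
  | empty => simp
  | cons x μ ih =>
    rw [Multiset.map_cons, Multiset.map_cons, Multiset.map_cons, Multiset.sum_cons, Multiset.sum_cons,
      Multiset.sum_cons, Multiset.count_cons]
    by_cases h : a = x
    · subst h
      rw [if_pos rfl]
      omega
    · rw [if_neg h]
      omega

theorem multiset_eq_of_sums {μ ν : Multiset ℕ} (hμ : ∀ a ∈ μ, 0 < a) (hν : ∀ a ∈ ν, 0 < a)
    (h : ∀ j, (μ.map fun x => x - j).sum = (ν.map fun x => x - j).sum) : μ = ν := by
  ext a
  rcases Nat.eq_zero_or_pos a with rfl | ha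
  · rw [Multiset.count_eq_zero_of_notMem fun h0 => absurd (hμ 0 h0) (lt_irrefl 0),
      Multiset.count_eq_zero_of_notMem fun h0 => absurd (hν 0 h0) (lt_irrefl 0)]
  · have h1 := count_of_sums μ ha
    have h2 := count_of_sums ν ha
    rw [h (a - 1), h (a + 1), h a] at h1
    omega

end multiset

section pairs

/-- The multiset of sizes of a multiset of pairs (multiplicity, size). -/
def parts (μ : Multiset (ℕ × ℕ)) : Multiset ℕ := (μ.map fun x => Multiset.replicate x.1 x.2).sum

@[simp] lemma parts_zero : parts 0 = 0 := rfl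

@[simp] lemma parts_cons (x : ℕ × ℕ) (μ : Multiset (ℕ × ℕ)) :
    parts (x ::ₘ μ) = Multiset.replicate x.1 x.2 + parts μ := by
  rw [parts, Multiset.map_cons, Multiset.sum_cons]; rfl

lemma two_rep (a : ℕ) (μ : Multiset ℕ) : Multiset.replicate 2 a + μ = a ::ₘ a ::ₘ μ := by
  rw [show Multiset.replicate 2 a = a ::ₘ {a} from rfl, Multiset.cons_add, Multiset.singleton_add]

lemma parts_add (μ ν : Multiset (ℕ × ℕ)) : parts (μ + ν) = parts μ + parts ν := by
  rw [parts, Multiset.map_add, Multiset.sum_add]; rfl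

lemma parts_sum (μ : Multiset (ℕ × ℕ)) (j : ℕ) :
    ((parts μ).map fun x => x - j).sum = (μ.map fun x => x.1 * (x.2 - j)).sum := by
  induction μ using Multiset.induction_on with
  | empty => simp
  | cons x μ ih =>
    rw [parts_cons, Multiset.map_add, Multiset.sum_add, ih, Multiset.map_cons, Multiset.sum_cons,
      Multiset.map_replicate, Multiset.sum_replicate, smul_eq_mul]

lemma parts_sum' (μ : Multiset (ℕ × ℕ)) : (parts μ).sum = (μ.map fun x => x.1 * x.2).sum := by
  have := parts_sum μ 0
  simpa using this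

lemma mem_parts {μ : Multiset (ℕ × ℕ)} {a : ℕ} (h : a ∈ parts μ) : ∃ x ∈ μ, x.2 = a := by
  induction μ using Multiset.induction_on with
  | empty => simp at h
  | cons x μ ih =>
    rw [parts_cons, Multiset.mem_add] at h
    rcases h with h | h
    · exact ⟨x, Multiset.mem_cons_self _ _, (Multiset.eq_of_mem_replicate h).symm⟩
    · obtain ⟨y, hy, rfl⟩ := ih h
      exact ⟨y, Multiset.mem_cons_of_mem hy, rfl⟩

/-- The types of blocks of the symplectic group in odd characteristic. -/
def PSymp (p s a : ℕ) : Prop := (s = 1 ∧ Even a ∧ 0 < a ∧ a ≤ p) ∨ (s = 2 ∧ Odd a ∧ a ≤ p)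

lemma PSymp.pos {p s a : ℕ} (h : PSymp p s a) : 0 < a ∧ a ≤ p := by
  rcases h with ⟨-, -, h1, h2⟩ | ⟨-, h1, h2⟩
  · exact ⟨h1, h2⟩
  · exact ⟨h1.pos, h2⟩

lemma parity_parts {p : ℕ} {μ : Multiset (ℕ × ℕ)} (hμ : ∀ x ∈ μ, PSymp p x.1 x.2) (a : ℕ) (ha : Odd a) :
    Even ((parts μ).count a) := by
  induction μ using Multiset.induction_on with
  | empty => simp
  | cons x μ ih =>
    rw [parts_cons, Multiset.count_add]
    refine Even.add ?_ (ih fun y hy => hμ y (Multiset.mem_cons_of_mem hy))
    rw [Multiset.count_replicate]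
    split_ifs with h
    · rcases hμ x (Multiset.mem_cons_self _ _) with ⟨-, h1, -⟩ | ⟨h1, -⟩
      · rw [h] at h1
        exact absurd ha (Nat.not_odd_iff_even.2 h1)
      · rw [h1]; exact even_two
    · exact Even.zero

lemma exists_pairs {p : ℕ} (μ₀ : Multiset ℕ) (h1 : ∀ a ∈ μ₀, 0 < a ∧ a ≤ p) (h2 : ∀ a, Odd a → Even (μ₀.count a)) :
    ∃ μ : Multiset (ℕ × ℕ), (∀ x ∈ μ, PSymp p x.1 x.2) ∧ parts μ = μ₀ := by
  induction hn : Multiset.card μ₀ using Nat.strong_induction_on generalizing μ₀ with
  | _ n ih =>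
    rcases Multiset.empty_or_exists_mem μ₀ with rfl | ⟨a, ha⟩
    · exact ⟨0, fun x hx => absurd hx (Multiset.notMem_zero x), rfl⟩
    obtain ⟨μ₁, rfl⟩ := Multiset.exists_cons_of_mem ha
    rcases Nat.even_or_odd a with he | ho
    · obtain ⟨μ, hμ, hp⟩ := ih (Multiset.card μ₁) (by rw [← hn, Multiset.card_cons]; omega) μ₁
        (fun b hb => h1 b (Multiset.mem_cons_of_mem hb)) (by
          intro b hb
          have := h2 b hb
          rw [Multiset.count_cons_of_ne (by rintro rfl; exact Nat.not_odd_iff_even.2 he hb)] at this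
          exact this) rfl
      refine ⟨(1, a) ::ₘ μ, ?_, by rw [parts_cons, hp]; rfl⟩
      intro x hx
      rcases Multiset.mem_cons.1 hx with rfl | hx
      · exact Or.inl ⟨rfl, he, (h1 a ha).1, (h1 a ha).2⟩
      · exact hμ x hx
    · have h3 := h2 a ho
      rw [Multiset.count_cons_self] at h3
      have h4 : a ∈ μ₁ := by
        by_contra h
        rw [Multiset.count_eq_zero_of_notMem h] at h3
        exact absurd h3 (by decide)
      obtain ⟨μ₂, rfl⟩ := Multiset.exists_cons_of_mem h4
      obtain ⟨μ, hμ, hp⟩ := ih (Multiset.card μ₂) (by rw [← hn, Multiset.card_cons, Multiset.card_cons]; omega) μ₂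
        (fun b hb => h1 b (Multiset.mem_cons_of_mem (Multiset.mem_cons_of_mem hb))) (by
          intro b hb
          have := h2 b hb
          by_cases hba : b = a
          · subst hba
            rw [Multiset.count_cons_self, Multiset.count_cons_self] at this
            obtain ⟨t, ht⟩ := this
            exact ⟨t - 1, by omega⟩
          · rw [Multiset.count_cons_of_ne hba, Multiset.count_cons_of_ne hba] at this
            exact this) rfl
      refine ⟨(2, a) ::ₘ μ, ?_, by rw [parts_cons, hp, two_rep]⟩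
      intro x hx
      rcases Multiset.mem_cons.1 hx with rfl | hx
      · exact Or.inr ⟨rfl, ho, (h1 a ha).2⟩
      · exact hμ x hx

lemma exists_sub_pairs {p : ℕ} {μ : Multiset (ℕ × ℕ)} (hμ : ∀ x ∈ μ, PSymp p x.1 x.2) (ν₀ : Multiset ℕ)
    (hν : ν₀ ≤ parts μ) (h2 : ∀ a, Odd a → Even (ν₀.count a)) : ∃ ν ≤ μ, parts ν = ν₀ := by
  induction μ using Multiset.induction_on generalizing ν₀ with
  | empty =>
    rw [parts_zero] at hν
    rw [Multiset.le_zero.1 hν]
    exact ⟨0, le_rfl, rfl⟩
  | cons x μ ih =>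
    have hμ' : ∀ y ∈ μ, PSymp p y.1 y.2 := fun y hy => hμ y (Multiset.mem_cons_of_mem hy)
    obtain ⟨s, a⟩ := x
    rw [parts_cons] at hν
    rcases hμ (s, a) (Multiset.mem_cons_self _ _) with ⟨hs, ha, -⟩ | ⟨hs, ha, -⟩
    · simp only at hs ha hν
      subst hs
      rw [Multiset.replicate_one, Multiset.singleton_add] at hν
      by_cases hm : a ∈ ν₀
      · obtain ⟨ν₁, rfl⟩ := Multiset.exists_cons_of_mem hm
        obtain ⟨ν, hνμ, hp⟩ := ih hμ' ν₁ ((Multiset.cons_le_cons_iff _).1 hν) (by
          intro b hb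
          have := h2 b hb
          rw [Multiset.count_cons_of_ne (by rintro rfl; exact Nat.not_odd_iff_even.2 ha hb)] at this
          exact this)
        exact ⟨(1, a) ::ₘ ν, (Multiset.cons_le_cons_iff _).2 hνμ, by rw [parts_cons, hp]; rfl⟩
      · obtain ⟨ν, hνμ, hp⟩ := ih hμ' ν₀ ((Multiset.le_cons_of_notMem hm).1 hν) h2
        exact ⟨ν, hνμ.trans (Multiset.le_cons_self _ _), hp⟩
    · simp only at hs ha hν
      subst hs
      rw [show Multiset.replicate 2 a = a ::ₘ {a} from rfl, Multiset.cons_add, Multiset.singleton_add] at hν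
      by_cases hm : a ∈ ν₀
      · obtain ⟨ν₁, rfl⟩ := Multiset.exists_cons_of_mem hm
        have h3 := h2 a ha
        rw [Multiset.count_cons_self] at h3
        have h4 : a ∈ ν₁ := by
          by_contra h
          rw [Multiset.count_eq_zero_of_notMem h] at h3
          exact absurd h3 (by decide)
        obtain ⟨ν₂, rfl⟩ := Multiset.exists_cons_of_mem h4
        obtain ⟨ν, hνμ, hp⟩ := ih hμ' ν₂
          ((Multiset.cons_le_cons_iff _).1 ((Multiset.cons_le_cons_iff _).1 hν)) (by
          intro b hb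
          have := h2 b hb
          by_cases hba : b = a
          · subst hba
            rw [Multiset.count_cons_self, Multiset.count_cons_self] at this
            obtain ⟨t, ht⟩ := this
            exact ⟨t - 1, by omega⟩
          · rw [Multiset.count_cons_of_ne hba, Multiset.count_cons_of_ne hba] at this
            exact this)
        exact ⟨(2, a) ::ₘ ν, (Multiset.cons_le_cons_iff _).2 hνμ, by rw [parts_cons, hp, two_rep]⟩
      · obtain ⟨ν, hνμ, hp⟩ := ih hμ' ν₀ ((Multiset.le_cons_of_notMem hm).1 ((Multiset.le_cons_of_notMem hm).1 hν)) h2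
        exact ⟨ν, hνμ.trans (Multiset.le_cons_self _ _), hp⟩

end pairs

end Cfsg.Agent.H951
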