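import Cfsg.Agent.H951.SBridge
import Cfsg.Agent.H951.Step
/-!
# Nondegenerate `m`-spaces of the symplectic space: `r ≠ p`
-/

set_option autoImplicit false
set_option linter.unusedSectionVars false
set_option linter.unusedVariables false

namespace Cfsg.Agent.H951

open Module Polynomial Cfsg

variable {F : Type*} [Field F] [Fintype F] {q d r m : ℕ}

/-- All elements of order `r` modulo scalars fix a subspace with property `P`. -/
def SStat (F : Type*) [Field F] (d r : ℕ) (P : Submodule F (Fin d ⊕ Fin d → F) → Prop) : Prop :=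
  ∀ T : Module.End F (Fin d ⊕ Fin d → F), Isom (sympForm d F) T → (∃ z : F, T ^ r = z • 1) →
      (∀ z : F, T ≠ z • 1) → ∃ W : Submodule F (Fin d ⊕ Fin d → F), P W ∧ Inv T W

/-- The factor `q^{2(k+1)} - 1` of the order of `Sp`. -/
def sf (q k : ℕ) : ℕ := q ^ (2 * (k + 1)) - 1

lemma sf_pos (hq : 2 ≤ q) (k : ℕ) : 0 < sf q k := by
  unfold sf
  have : 2 ^ 1 ≤ q ^ (2 * (k + 1)) := (Nat.pow_le_pow_left hq 1).trans (Nat.pow_le_pow_right (by omega) (by omega))
  omega

lemma two_le_card (hF : Fintype.card F = q) : 2 ≤ q := by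
  have : 1 < Fintype.card F := Fintype.one_lt_card
  omega

/-- From `r ∣ N`, `N * A * |Sp_{d-k}| = |Sp_d|`. -/
theorem exists_dvd_sf_of (hq : 2 ≤ q) {k N A : ℕ} (hk : k ≤ d) (hr : r.Prime) (hrq : ¬ r ∣ q) (hN : r ∣ N)
    (h : N * (A * (q ^ ((d - k) ^ 2) * ∏ i ∈ Finset.range (d - k), (q ^ (2 * (i + 1)) - 1))) =
      q ^ (d ^ 2) * ∏ i ∈ Finset.range d, (q ^ (2 * (i + 1)) - 1)) :
    ∃ j, r ∣ sf q j ∧ d - k ≤ j ∧ j < d := by
  change N * (A * (_ * ∏ i ∈ Finset.range (d - k), sf q i)) = _ * ∏ i ∈ Finset.range d, sf q i at h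
  rw [← Finset.prod_range_mul_prod_Ico _ (Nat.sub_le d k)] at h
  have hpos : 0 < ∏ i ∈ Finset.range (d - k), sf q i := Finset.prod_pos fun i _ => sf_pos hq i
  have h2 : (N * A * q ^ ((d - k) ^ 2)) * (∏ i ∈ Finset.range (d - k), sf q i) =
      (q ^ (d ^ 2) * ∏ i ∈ Finset.Ico (d - k) d, sf q i) * (∏ i ∈ Finset.range (d - k), sf q i) := by
    calc _ = N * (A * (q ^ ((d - k) ^ 2) * ∏ i ∈ Finset.range (d - k), sf q i)) := by ring
      _ = _ := h
      _ = _ := by ring
  have h3 := Nat.eq_of_mul_eq_mul_right hpos h2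
  have h4 : r ∣ q ^ (d ^ 2) * ∏ i ∈ Finset.Ico (d - k) d, sf q i := by
    rw [← h3, mul_assoc]
    exact hN.mul_right _
  have h5 : r ∣ ∏ i ∈ Finset.Ico (d - k) d, sf q i :=
    (hr.dvd_mul.1 h4).resolve_left fun h => hrq (hr.dvd_of_dvd_pow h)
  obtain ⟨j, hj, hj2⟩ := (hr.prime.dvd_finsetProd_iff _).1 h5
  rw [Finset.mem_Ico] at hj
  exact ⟨j, hj2, hj.1, hj.2⟩

lemma not_dvd_q [Fact r.Prime] (hF : Fintype.card F = q) (hr : (r : F) ≠ 0) : ¬ r ∣ q := by
  intro h
  have h1 := ord_pos' hF hr rfl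
  rw [(ZMod.natCast_eq_zero_iff q r).2 h, orderOf_zero] at h1
  exact lt_irrefl 0 h1

/-- The multiples of `c` in `(2d - m, 2d]`. -/
theorem mod_lt_of_sf [Fact r.Prime] (hq : 0 < q) {i c j k : ℕ} (hi : i = orderOf (q : ZMod r)) (hi0 : 0 < i)
    (hc : c = if Even i then i else 2 * i) (hj : r ∣ sf q j) (h1 : d - k ≤ j) (h2 : j < d) :
    c ≤ 2 * d ∧ 2 * d % c < 2 * k := by
  rw [sf, dvd_pow_sub_iff hq hi hc] at hj
  obtain ⟨t, ht⟩ := hj
  have hc0 : 0 < c := by rw [hc]; split_ifs <;> omega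
  have h3 := Nat.div_add_mod (2 * d) c
  have ht0 : t ≠ 0 := by rintro rfl; omega
  have h4 : c * 1 ≤ c * t := Nat.mul_le_mul_left _ (Nat.pos_of_ne_zero ht0)
  refine ⟨by omega, ?_⟩
  have h5 : t ≤ 2 * d / c := (Nat.le_div_iff_mul_le hc0).2 (by rw [mul_comm]; omega)
  have h6 : c * t ≤ c * (2 * d / c) := Nat.mul_le_mul_left _ h5
  omega

/-- Removing the scalar: `r` odd. -/
lemma normalize_odd {V : Type*} [AddCommGroup V] [Module F V] {ε : F} {B : V → V → F} (hB : Frm (RingHom.id F) ε B)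
    (hV : Nd B (⊤ : Submodule F V)) (hne : ∃ v : V, v ≠ 0) {T : Module.End F V} (hT : Isom B T) (hr : Odd r) {z : F}
    (hz : T ^ r = z • 1) : z ≠ 0 ∧ Isom B (z • T) ∧ (z • T) ^ r = 1 := by
  have h1 := scalar_sq hB hV hne hT hz
  have hz0 : z ≠ 0 := by rintro rfl; rw [zero_pow two_ne_zero] at h1; exact zero_ne_one h1
  refine ⟨hz0, ?_, ?_⟩
  · intro u v
    rw [LinearMap.smul_apply, LinearMap.smul_apply, hB.smul_left, hB.smul_right, hT, RingHom.id_apply]
    linear_combination (B u v) * h1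
  · have h2 : z ^ r = z := by
      obtain ⟨k, hk⟩ := hr
      rw [hk, pow_add, pow_mul, h1, one_pow, one_mul, pow_one]
    rw [_root_.smul_pow z T r, hz, h2, smul_smul, ← pow_two, h1, one_smul]

lemma inv_smul_iff' {V : Type*} [AddCommGroup V] [Module F V] {T : Module.End F V} {w : F} (hw : w ≠ 0)
    {W : Submodule F V} : Inv (w • T) W ↔ Inv T W := by
  constructor
  · intro h v hv
    have := W.smul_mem w⁻¹ (h v hv)
    rw [LinearMap.smul_apply, smul_smul, inv_mul_cancel₀ hw, one_smul] at this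
    exact this
  · intro h v hv
    exact W.smul_mem _ (h v hv)

/-- A scalar isometry `y` with `y^r = 1`, `r` odd, is trivial. -/
lemma eq_one_of_scalar {V : Type*} [AddCommGroup V] [Module F V] {ε : F} {B : V → V → F} (hB : Frm (RingHom.id F) ε B)
    (hV : Nd B (⊤ : Submodule F V)) (hne : ∃ v : V, v ≠ 0) {y : Module.End F V} (hy : Isom B y) (hr : Odd r) {z : F}
    (hyr : y ^ r = 1) (hz : y = z • 1) : y = 1 := by
  have h1 : z ^ 2 = 1 := scalar_sq hB hV hne (r := 1) hy (by rw [pow_one, hz])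
  obtain ⟨v, hv⟩ := hne
  have h2 : z ^ r = 1 := by
    have h3 : (y ^ r) v = z ^ r • v := by rw [hz, _root_.smul_pow z _ r, one_pow]; rfl
    rw [hyr] at h3
    change v = z ^ r • v at h3
    have h4 : (z ^ r - 1) • v = 0 := by rw [sub_smul, ← h3, one_smul, sub_self]
    rcases smul_eq_zero.1 h4 with h | h
    · linear_combination h
    · exact absurd h hv
  have h3 : z = 1 := by
    obtain ⟨k, hk⟩ := hr
    rw [hk, pow_add, pow_mul, h1, one_pow, one_mul, pow_one] at h2
    exact h2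
  rw [hz, h3, one_smul]

theorem snd_odd {p : ℕ} [Fact p.Prime] [CharP F p] (hF : Fintype.card F = q) (hd : 2 ≤ d) (hm : 2 ≤ m) (hme : Even m)
    (hmd : m < d) [Fact r.Prime] (hr2 : r ≠ 2) (hr : (r : F) ≠ 0)
    (hΩ : r ∣ Nat.card {W : Submodule F (Fin d ⊕ Fin d → F) // finrank F ↥W = m ∧ Nd (sympForm d F) W}) {i c : ℕ}
    (hi : i = orderOf (q : ZMod r)) (hc : c = if Even i then i else 2 * i) :
    SStat F d r (fun W => finrank F ↥W = m ∧ Nd (sympForm d F) W) ↔ (c ≤ m ∧ m % c ≤ 2 * d % c) := by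
  have hrP : r.Prime := Fact.out
  have hq := two_le_card hF
  have hi0 := ord_pos' hF hr hi
  have hc0 : 0 < c := by rw [hc]; split_ifs <;> omega
  have hB := frm_symp (F := F) d
  have hK := kind_symp (F := F) d
  have hV := nd_symp (F := F) d
  have hfr : finrank F (Fin d ⊕ Fin d → F) = 2 * d := by simp [two_mul]
  have hodd := hrP.odd_of_ne_two hr2
  have hdiv : ∀ y : Module.End F (Fin d ⊕ Fin d → F), y ^ r = 1 → ∀ W' : Submodule F (Fin d ⊕ Fin d → F),
      Inv y W' → Nd (sympForm d F) W' → W' ≤ cm y → c ∣ finrank F W' := fun y hyr W' h1 h2 h3 =>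
    dvd_finrank_symp hr hF hB hK hi hc hyr W' h1 h2 h3
  obtain ⟨k, hk⟩ := hme
  have hk' : m = 2 * k := by omega
  obtain ⟨hcn, hmod⟩ : c ≤ 2 * d ∧ 2 * d % c < m := by
    have h1 := card_nd_symp (F := F) (d := d) (k := k) (by omega)
    rw [Cfsg.Agent.S0245.result hF d, Cfsg.Agent.S0245.result hF (d - k)] at h1
    subst hk'
    obtain ⟨j, h2, h3, h4⟩ := exists_dvd_sf_of hq (by omega : k ≤ d) hrP (not_dvd_q hF hr) hΩ h1
    exact mod_lt_of_sf (by omega) hi hi0 hc h2 h3 h4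
  constructor
  · intro h
    obtain ⟨y, hy, hyr, hyd⟩ := exists_elt_symp hr hF hB hK hV hi hi0 hc (M := 2 * d / c)
      (by rw [hfr]; exact Nat.mul_div_le _ c)
    obtain ⟨W, ⟨hWm, hW⟩, hWi⟩ := h y hy ⟨1, by rw [hyr, one_smul]⟩ (by
      intro z hz
      have h1 := eq_one_of_scalar hB hV (exists_ne_zero' (by omega)) hy hodd hyr hz
      have h4 : cm y = ⊥ := by
        rw [eq_bot_iff]
        intro v hv
        obtain ⟨w, rfl⟩ := mem_cm.1 hv
        rw [h1]
        simp
      rw [h4, finrank_bot] at hyd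
      have h5 : 1 ≤ 2 * d / c := (Nat.one_le_div_iff hc0).2 hcn
      have : c * 1 ≤ c * (2 * d / c) := Nat.mul_le_mul_left _ h5
      omega)
    have := le_of_inv_nd hB hV hc0 hr hy hyr (hdiv y hyr) (by rw [hfr]; exact hyd) (by rw [hfr]; exact hmod)
      hWi hW hWm
    rwa [hfr] at this
  · rintro ⟨hcm, hmc⟩ T hT ⟨z, hz⟩ hns
    obtain ⟨hz0, hy, hyr⟩ := normalize_odd hB hV (exists_ne_zero' (by omega)) hT hodd hz
    obtain ⟨W, hWi, hW, hWm⟩ := exists_inv_nd hr hr2 hB hK hV hy hyr (hdiv _ hyr)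
      (blockNum_symp hr2 (p := p) hF hi hi0 hc) (m := m)
      (by rw [hfr]; omega) (fun _ => ⟨⟨k, hk⟩, even_cs hc⟩) (by rw [hfr]; exact hmc)
    exact ⟨W, ⟨hWm, hW⟩, (inv_smul_iff' hz0).1 hWi⟩

/-- `T² = -1`: nondegenerate invariant planes. -/
lemma step_of_sq_neg_one {V : Type*} [AddCommGroup V] [Module F V] [FiniteDimensional F V] {B : V → V → F}
    (h2 : (2 : F) ≠ 0) (hB : Frm (RingHom.id F) (-1) B) (hK : Kind (RingHom.id F) (-1) B) {T : Module.End F V}
    (hT : Isom B T) (hT2 : T ^ 2 = (-1 : F) • 1) (W : Submodule F V) (hW : Inv T W) (hWn : Nd B W) (h0 : W ≠ ⊥) :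
    ∃ W' ≤ W, Inv T W' ∧ Nd B W' ∧ finrank F W' = 2 := by
  have hTT : ∀ v, T (T v) = -v := by
    intro v
    rw [← Module.End.mul_apply, ← pow_two, hT2]
    simp
  have ha : ∀ v, B v v = 0 := by
    rcases hK with ⟨h, -⟩ | ⟨-, -, h⟩
    · exact absurd rfl h
    · exact h
  have hsw : ∀ u v, B v u = - B u v := by
    intro u v; rw [hB.herm u v]; simp
  have h1 : ∃ u ∈ W, B u (T u) ≠ 0 := by
    by_contra hno
    push Not at hno
    obtain ⟨u, hu, hu0⟩ := (Submodule.ne_bot_iff _).1 h0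
    obtain ⟨v, hv, huv⟩ := hWn u hu hu0
    -- B(u, T v) + B(v, T u) = 0 and B(v, T u) = B(u, T v)
    have key : ∀ a ∈ W, ∀ b ∈ W, B a (T b) = 0 := by
      intro a ha' b hb
      have e1 := hno (a + b) (W.add_mem ha' hb)
      rw [map_add, hB.add_left, hB.add_right, hB.add_right, hno a ha', hno b hb, zero_add, add_zero] at e1
      have e2 : B b (T a) = B a (T b) := by
        have := hT b (T a)
        rw [hTT, hB.neg_right] at this
        rw [← this, hsw a (T b)]
        ring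
      rw [e2] at e1
      have e3 : 2 * B a (T b) = 0 := by linear_combination e1
      exact (mul_eq_zero.1 e3).resolve_left h2
    have e4 := key u hu (T v) (hW v hv)
    rw [hTT, hB.neg_right] at e4
    exact huv (by linear_combination -e4)
  obtain ⟨u, hu, huu⟩ := h1
  have hu0 : u ≠ 0 := by rintro rfl; exact huu (hB.zero_left _)
  have hTu0 : T u ≠ 0 := by intro h; rw [h, hB.zero_right] at huu; exact huu rfl
  refine ⟨F ∙ u ⊔ F ∙ T u, sup_le ((Submodule.span_singleton_le_iff_mem _ _).2 hu)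
      ((Submodule.span_singleton_le_iff_mem _ _).2 (hW u hu)), ?_, ?_, ?_⟩
  · intro w hw
    obtain ⟨w₁, hw₁, w₂, hw₂, rfl⟩ := Submodule.mem_sup.1 hw
    obtain ⟨s, rfl⟩ := Submodule.mem_span_singleton.1 hw₁
    obtain ⟨t, rfl⟩ := Submodule.mem_span_singleton.1 hw₂
    rw [map_add, map_smul, map_smul, hTT, add_comm]
    refine Submodule.add_mem_sup ?_ ?_
    · rw [smul_neg]; exact Submodule.neg_mem _ (Submodule.smul_mem _ t (Submodule.mem_span_singleton_self u))
    · exact Submodule.smul_mem _ s (Submodule.mem_span_singleton_self _)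
  · intro w hw hw0
    obtain ⟨w₁, hw₁, w₂, hw₂, rfl⟩ := Submodule.mem_sup.1 hw
    obtain ⟨s, rfl⟩ := Submodule.mem_span_singleton.1 hw₁
    obtain ⟨t, rfl⟩ := Submodule.mem_span_singleton.1 hw₂
    by_cases hs : s = 0
    · refine ⟨u, Submodule.mem_sup_left (Submodule.mem_span_singleton_self u), ?_⟩
      subst hs
      have ht : t ≠ 0 := by rintro rfl; apply hw0; simp
      rw [zero_smul, zero_add, hB.smul_left, hsw u (T u)]
      exact mul_ne_zero ht (neg_ne_zero.2 huu)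
    · refine ⟨T u, Submodule.mem_sup_right (Submodule.mem_span_singleton_self _), ?_⟩
      rw [hB.add_left, hB.smul_left, hB.smul_left, ha (T u), mul_zero, add_zero]
      exact mul_ne_zero hs huu
  · have hd : F ∙ u ⊓ F ∙ T u = ⊥ := by
      rw [eq_bot_iff]
      intro w hw
      obtain ⟨s, rfl⟩ := Submodule.mem_span_singleton.1 hw.1
      obtain ⟨t, ht⟩ := Submodule.mem_span_singleton.1 hw.2
      have h6 : B u (t • T u) = 0 := by
        rw [ht, hB.smul_right, ha u, mul_zero]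
      rw [hB.smul_right, RingHom.id_apply] at h6
      have ht0 : t = 0 := (mul_eq_zero.1 h6).resolve_right huu
      rw [← ht, ht0, zero_smul]
      exact Submodule.zero_mem _
    rw [finrank_sup_of_disj hd, finrank_span_singleton hu0, finrank_span_singleton hTu0]

theorem snd_two (hd : 2 ≤ d) (h2 : (2 : F) ≠ 0) (hme : Even m) (hmd : m < d) :
    SStat F d 2 (fun W => finrank F ↥W = m ∧ Nd (sympForm d F) W) := by
  rintro T hT ⟨z, hz⟩ hns
  have hB := frm_symp (F := F) d
  have hK := kind_symp (F := F) d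
  have hV := nd_symp (F := F) d
  have hfr : finrank F (Fin d ⊕ Fin d → F) = 2 * d := by simp [two_mul]
  have h1 := scalar_sq hB hV (exists_ne_zero' (by omega)) hT hz
  have h3 : (z - 1) * (z + 1) = 0 := by linear_combination h1
  rcases mul_eq_zero.1 h3 with h | h
  · have hz1 : z = 1 := by linear_combination h
    rw [hz1, one_smul] at hz
    obtain ⟨W, hWi, hW, hWm⟩ := exists_nd_of_invol h2 hz hT hB hK hV (m := m) (fun _ => hme) (by rw [hfr]; omega)
    exact ⟨W, ⟨hWm, hW⟩, hWi⟩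
  · have hz1 : z = -1 := by linear_combination h
    rw [hz1] at hz
    have hinj : Function.Injective T := by
      intro u v huv
      have hTT : ∀ v, T (T v) = -v := by
        intro v
        rw [← Module.End.mul_apply, ← pow_two, hz]
        simp
      have := hTT u
      rw [huv, hTT] at this
      exact (neg_injective this).symm
    obtain ⟨k, hk⟩ := hme
    obtain ⟨W, -, hWi, hW, hWm⟩ := exists_nd_of_step (x := T) hB (fun W hW => hT.inv_perp hB hinj hW) two_pos
      (step_of_sq_neg_one h2 hB hK hT hz) (W := ⊤) (fun _ _ => trivial) hV (j := k) (by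
        rw [finrank_top, hfr]; omega)
    exact ⟨W, ⟨by rw [hWm]; omega, hW⟩, hWi⟩

end Cfsg.Agent.H951
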