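import Cfsg.Agent.H951.Types
import Cfsg.Agent.H951.Mono
import Cfsg.Agent.S0775
import Cfsg.Agent.S0749
/-!
# Totally isotropic `m`-spaces of the symplectic space
-/

set_option autoImplicit false
set_option linter.unusedSectionVars false
set_option linter.unusedVariables false

namespace Cfsg.Agent.H951

open Module Polynomial Cfsg

variable {F : Type*} [Field F] [Fintype F] {q d r m : ℕ}

/-- The number of totally isotropic `m`-spaces. -/
theorem card_ti_symp (hF : Fintype.card F = q) (hm : m ≤ d) :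
    Nat.card {W : Submodule F (Fin d ⊕ Fin d → F) // finrank F ↥W = m ∧ TI (sympForm d F) W} *
      (q ^ (m * (m + 1) / 2 + 2 * m * (d - m)) * (q ^ ((d - m) ^ 2) * ∏ i ∈ Finset.range (d - m), (q ^ (2 * (i + 1)) - 1)) *
        ∏ i : Fin m, (q ^ m - q ^ (i : ℕ))) =
      q ^ (d ^ 2) * ∏ i ∈ Finset.range d, (q ^ (2 * (i + 1)) - 1) := by
  have hB := frm_symp (F := F) d
  have hK := kind_symp (F := F) d
  have hV := nd_symp (F := F) d
  have hfr : finrank F (Fin d ⊕ Fin d → F) = 2 * d := by simp [two_mul]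
  obtain ⟨W₀, -, hW₀, hW₀m⟩ := exists_ti_sub hB hK hV (k := m) (by rw [finrank_top, hfr]; omega)
  have h3 := Cfsg.Agent.S0775.result hF d m hm W₀ hW₀m hW₀
  rw [← h3, ← Cfsg.Agent.S0245.result hF d]
  refine card_orbit_Sp W₀ Subtype.val Subtype.val_injective ?_ ?_
  · intro g
    refine ⟨⟨W₀.map (Matrix.toLin' (g : Matrix (Fin d ⊕ Fin d) (Fin d ⊕ Fin d) F)), ?_, ?_⟩, rfl⟩
    · rw [← hW₀m]
      exact (Submodule.equivMapOfInjective _ (toLin'_inj_Sp g) W₀).finrank_eq.symm
    · rintro _ ⟨u, hu, rfl⟩ _ ⟨v, hv, rfl⟩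
      rw [isom_Sp g]
      exact hW₀ u hu v hv
  · rintro ⟨W, hWm, hW⟩
    obtain ⟨φ⟩ : Nonempty (W₀ ≃ₗ[F] W) := FiniteDimensional.nonempty_linearEquiv_of_finrank_eq (by rw [hW₀m, hWm])
    obtain ⟨T, hT, hTφ⟩ := Cfsg.Agent.S0749.result (ClassicalGeometry.SympBasic.sympBilin d F)
      ClassicalGeometry.SympBasic.sympBilin_nondegenerate ClassicalGeometry.SympBasic.sympBilin_isAlt W₀ W φ
      (fun x x' => by
        rw [ClassicalGeometry.SympBasic.sympBilin_apply, ClassicalGeometry.SympBasic.sympBilin_apply,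
          hW _ (φ x).2 _ (φ x').2, hW₀ _ x.2 _ x'.2])
    obtain ⟨g, hg⟩ := exists_Sp_of_equiv T hT
    refine ⟨g, ?_⟩
    rw [hg]
    apply le_antisymm
    · rintro _ ⟨u, hu, rfl⟩
      have : (T : (Fin d ⊕ Fin d → F) →ₗ[F] (Fin d ⊕ Fin d → F)) u = φ ⟨u, hu⟩ := hTφ ⟨u, hu⟩
      rw [this]
      exact (φ _).2
    · intro w hw
      refine ⟨φ.symm ⟨w, hw⟩, (φ.symm ⟨w, hw⟩).2, ?_⟩
      have : (T : (Fin d ⊕ Fin d → F) →ₗ[F] (Fin d ⊕ Fin d → F)) (φ.symm ⟨w, hw⟩ : W₀) = φ (φ.symm ⟨w, hw⟩) := hTφ _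
      rw [this, φ.apply_symm_apply]

/-- The number of totally isotropic `m`-spaces is prime to `p`. -/
theorem not_dvd_card_ti {p : ℕ} [Fact p.Prime] [CharP F p] (hF : Fintype.card F = q) (hm : m ≤ d) :
    ¬ p ∣ Nat.card {W : Submodule F (Fin d ⊕ Fin d → F) // finrank F ↥W = m ∧ TI (sympForm d F) W} := by
  have hpP : p.Prime := Fact.out
  have hq := two_le_card hF
  intro hp
  have h1 := card_ti_symp hF hm
  set Nn := Nat.card {W : Submodule F (Fin d ⊕ Fin d → F) // finrank F ↥W = m ∧ TI (sympForm d F) W} with hN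
  have hpq : p ∣ q := by
    obtain ⟨k, -, hk⟩ := FiniteField.card F p
    rw [hF] at hk
    rw [hk]
    exact dvd_pow_self p k.2.ne'
  have h2 : ∏ i : Fin m, (q ^ m - q ^ (i : ℕ)) = q ^ (m * (m - 1) / 2) * ∏ i : Fin m, (q ^ (m - (i : ℕ)) - 1) := by
    have h3 : ∀ i : Fin m, q ^ m - q ^ (i : ℕ) = q ^ (i : ℕ) * (q ^ (m - (i : ℕ)) - 1) := by
      intro i
      rw [Nat.mul_sub, mul_one, ← pow_add, Nat.add_sub_cancel' i.2.le]
    rw [Finset.prod_congr rfl fun i _ => h3 i, Finset.prod_mul_distrib]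
    congr 1
    rw [Finset.prod_pow_eq_pow_sum, Fin.sum_univ_eq_sum_range (fun i => i), Finset.sum_range_id]
  rw [h2] at h1
  have hexp : m * (m + 1) / 2 + 2 * m * (d - m) + (d - m) ^ 2 + m * (m - 1) / 2 = d ^ 2 := by
    obtain ⟨e, rfl⟩ := Nat.exists_eq_add_of_le hm
    rw [Nat.add_sub_cancel_left]
    have e1 : m * (m + 1) / 2 + m * (m - 1) / 2 = m ^ 2 := by
      rcases Nat.eq_zero_or_pos m with rfl | hm0
      · rfl
      obtain ⟨s, rfl⟩ : ∃ s, m = s + 1 := ⟨m - 1, by omega⟩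
      rw [Nat.add_sub_cancel]
      have e2 : (s + 1) * (s + 1 + 1) = 2 * (s + 1) + (s + 1) * s := by ring
      rw [e2, Nat.mul_add_div two_pos]
      have e3 : (s + 1) * s % 2 = 0 := by
        have := Nat.even_mul_succ_self s
        rw [mul_comm]
        exact Nat.even_iff.1 this
      have e4 : (s + 1) ^ 2 = (s + 1) + (s + 1) * s := by ring
      omega
    have e5 : (m + e) ^ 2 = m ^ 2 + 2 * m * e + e ^ 2 := by ring
    omega
  have h4 : (Nn * ((∏ i ∈ Finset.range (d - m), (q ^ (2 * (i + 1)) - 1)) * ∏ i : Fin m, (q ^ (m - (i : ℕ)) - 1))) *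
      q ^ (d ^ 2) = (∏ i ∈ Finset.range d, (q ^ (2 * (i + 1)) - 1)) * q ^ (d ^ 2) := by
    rw [mul_comm (∏ i ∈ Finset.range d, (q ^ (2 * (i + 1)) - 1)), ← h1, ← hexp, pow_add, pow_add, pow_add]
    ring
  have h5 := Nat.eq_of_mul_eq_mul_right (pow_pos (by omega) _) h4
  have h6 : p ∣ ∏ i ∈ Finset.range d, (q ^ (2 * (i + 1)) - 1) := by
    rw [← h5]; exact hp.mul_right _
  obtain ⟨j, hj, hj2⟩ := (hpP.prime.dvd_finsetProd_iff _).1 h6
  have h7 : p ∣ q ^ (2 * (j + 1)) := dvd_pow hpq (by omega)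
  have h8 : 1 ≤ q ^ (2 * (j + 1)) := Nat.one_le_pow _ _ (by omega)
  have h9 := Nat.dvd_sub h7 hj2
  rw [Nat.sub_sub_self h8] at h9
  exact hpP.one_lt.ne' (Nat.dvd_one.1 h9)

/-- If `r ≠ p` divides the number: a multiple of `c` in `(2d - 2m, 2d]`. -/
theorem exists_dvd_sf_ti (hF : Fintype.card F = q) (hm : m ≤ d) (hr : r.Prime) (hrq : ¬ r ∣ q)
    (hΩ : r ∣ Nat.card {W : Submodule F (Fin d ⊕ Fin d → F) // finrank F ↥W = m ∧ TI (sympForm d F) W}) :
    ∃ j, r ∣ sf q j ∧ d - m ≤ j ∧ j < d := by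
  have h1 := card_ti_symp hF hm
  refine exists_dvd_sf_of (A := q ^ (m * (m + 1) / 2 + 2 * m * (d - m)) * ∏ i : Fin m, (q ^ m - q ^ (i : ℕ)))
    (two_le_card hF) hm hr hrq hΩ ?_
  rw [← h1]
  ring

/-! ### involutions -/

section invol

variable {V : Type*} [AddCommGroup V] [Module F V] [FiniteDimensional F V] {B : V → V → F} {σ : F →+* F} {ε : F}

lemma sup_ti_invariant {x : Module.End F V} (hB : Frm σ ε B) (hx : Isom B x) {W₁ W₂ : Submodule F V}
    (h1 : W₁ ≤ cm x) (h2 : W₂ ≤ fx x) (hi : Inv x W₁) (ht1 : TI B W₁) (ht2 : TI B W₂) (hr : (r : F) ≠ 0)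
    (hxr : x ^ r = 1) :
    Inv x (W₁ ⊔ W₂) ∧ TI B (W₁ ⊔ W₂) ∧ finrank F ↥(W₁ ⊔ W₂) = finrank F W₁ + finrank F W₂ := by
  refine ⟨hi.sup (inv_of_le_fx h2), ti_sup hB ht1 ht2 ?_, ?_⟩
  · rw [hB.le_perp_iff]
    exact fun v hv w hw => hx.fx_cm hB (h2 hv) (h1 hw)
  · apply finrank_sup_of_disj
    rw [eq_bot_iff, ← (isCompl_fx_cm hr hxr).inf_eq_bot]
    exact fun v hv => ⟨h2 hv.2, h1 hv.1⟩

/-- `x² = 1`. -/
theorem exists_ti_of_invol {x : Module.End F V} (h2 : (2 : F) ≠ 0) (hB : Frm (RingHom.id F) (-1) B)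
    (hK : Kind (RingHom.id F) (-1) B) (hV : Nd B (⊤ : Submodule F V)) (hx : Isom B x) (hx2 : x ^ 2 = 1) {m : ℕ}
    (hm : 2 * m ≤ finrank F V) : ∃ W : Submodule F V, Inv x W ∧ TI B W ∧ finrank F W = m := by
  have hr := two_ne_zero_cast h2
  have hc := hx.nd_cm hB hr hx2 hV
  have hf := hx.nd_fx hB hr hx2 hV
  have hd := finrank_fx_cm hr hx2
  obtain ⟨a, ha⟩ := even_of_kind hB hK hc rfl
  obtain ⟨b, hb⟩ := even_of_kind hB hK hf rfl
  obtain ⟨W₁, hW₁, ht₁, hd₁⟩ := exists_ti_sub hB hK hc (k := min m a) (by omega)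
  obtain ⟨W₂, hW₂, ht₂, hd₂⟩ := exists_ti_sub hB hK hf (k := m - min m a) (by omega)
  have hi₁ : Inv x W₁ := by
    intro v hv
    rw [apply_cm_of_sq hx2 (hW₁ hv)]
    exact W₁.neg_mem hv
  obtain ⟨g1, g2, g3⟩ := sup_ti_invariant hB hx hW₁ hW₂ hi₁ ht₁ ht₂ hr hx2
  exact ⟨_, g1, g2, by rw [g3, hd₁, hd₂]; omega⟩

end invol

theorem sti_two (hF : Fintype.card F = q) (hd : 2 ≤ d) (h2 : (2 : F) ≠ 0) (hmd : m ≤ d) (hqo : q % 2 = 1) :
    SStat F d 2 (fun W => finrank F ↥W = m ∧ TI (sympForm d F) W) ↔ (Even m ∨ q % 4 = 1) := by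
  have hB := frm_symp (F := F) d
  have hK := kind_symp (F := F) d
  have hV := nd_symp (F := F) d
  have hfr : finrank F (Fin d ⊕ Fin d → F) = 2 * d := by simp [two_mul]
  have hm1 : (-1 : F) ≠ 1 := by
    intro h; apply h2; linear_combination -h
  have hsq : (∃ b : F, b ^ 2 = -1) ↔ q % 4 ≠ 3 := by
    have := FiniteField.isSquare_neg_one_iff (F := F)
    rw [hF] at this
    rw [← this]
    constructor
    · rintro ⟨b, hb⟩; exact ⟨b, by rw [← hb, pow_two]⟩
    · rintro ⟨b, hb⟩; exact ⟨b, by rw [hb, pow_two]⟩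
  constructor
  · intro h
    by_contra hno
    push Not at hno
    obtain ⟨hmo, hq1⟩ := hno
    have hq3 : q % 4 = 3 := by omega
    have hnsq : ∀ b : F, b ^ 2 ≠ -1 := fun b hb => (hsq.1 ⟨b, hb⟩) hq3
    let J : ↥(Matrix.symplecticGroup (Fin d) F) := ⟨Matrix.J (Fin d) F, SymplecticGroup.J_mem _ _⟩
    set T := Matrix.toLin' (Matrix.J (Fin d) F) with hT
    have hTi : Isom (sympForm d F) T := isom_Sp J
    have hT2 : T ^ 2 = (-1 : F) • 1 := by
      rw [hT, pow_toLin'', pow_two, Matrix.J_squared, ← toLin'_smul_one']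
      congr 1
      simp
    obtain ⟨W, ⟨hWm, hW⟩, hWi⟩ := h T hTi ⟨-1, hT2⟩ (by
      intro z hz
      apply hnsq z
      obtain ⟨v, hv⟩ := exists_ne_zero' (F := F) (d := d) (by omega)
      have h3 : (T ^ 2) v = z ^ 2 • v := by rw [hz, _root_.smul_pow z _ 2, one_pow]; rfl
      rw [hT2] at h3
      change (-1 : F) • v = z ^ 2 • v at h3
      have h4 : (z ^ 2 - -1) • v = 0 := by rw [sub_smul, ← h3, sub_self]
      rcases smul_eq_zero.1 h4 with h | h
      · linear_combination h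
      · exact absurd h hv)
    have := dvd_finrank_of_pow_eq Nat.prime_two hnsq hT2 hWi
    rw [hWm] at this
    exact hmo (even_iff_two_dvd.2 this)
  · rintro h T hT ⟨z, hz⟩ hns
    have h1 := scalar_sq hB hV (exists_ne_zero' (by omega)) hT hz
    have h3 : (z - 1) * (z + 1) = 0 := by linear_combination h1
    rcases mul_eq_zero.1 h3 with h4 | h4
    · have hz1 : z = 1 := by linear_combination h4
      rw [hz1, one_smul] at hz
      obtain ⟨W, hWi, hW, hWm⟩ := exists_ti_of_invol h2 hB hK hV hT hz (m := m) (by rw [hfr]; omega)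
      exact ⟨W, ⟨hWm, hW⟩, hWi⟩
    · have hz1 : z = -1 := by linear_combination h4
      rw [hz1] at hz
      by_cases hq3 : q % 4 = 3
      · -- X^2 + 1 irreducible, m even
        have hme : Even m := h.resolve_right (by omega)
        have hnsq : ∀ b : F, b ^ 2 ≠ -1 := fun b hb => (hsq.1 ⟨b, hb⟩) hq3
        have hirr : Irreducible (X ^ 2 - C (-1) : F[X]) := X_pow_sub_C_irreducible_of_prime Nat.prime_two hnsq
        have haev : aeval T (X ^ 2 - C (-1) : F[X]) = 0 := by
          rw [map_sub, map_pow, aeval_X, aeval_C, hz, sub_eq_zero]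
          rfl
        have hss : T.IsSemisimple := Module.End.isSemisimple_of_squarefree_aeval_eq_zero hirr.squarefree haev
        have hTT : ∀ v, T (T v) = -v := by
          intro v
          rw [← Module.End.mul_apply, ← pow_two, hz]
          simp
        have hinj : Function.Injective T := by
          intro u v huv
          have := hTT u
          rw [huv, hTT] at this
          exact (neg_injective this).symm
        have ha : ∀ v, sympForm d F v v = 0 := fun v => ClassicalGeometry.SympBasic.sympForm_self v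
        obtain ⟨W, -, hWi, hWt, hWd⟩ := exists_ti_of_step hB hss (fun W hW => hT.inv_perp hB hinj hW) (D := 2)
          (T := ⊤) (fun U _ hU hUn hUd => by
            obtain ⟨v, hv, hv0, hk⟩ := exists_common_isotropic hB (U := U) (n := 1) (by omega) (fun _ => T)
            refine exists_ti_cyc hB hT hU hv hv0 ?_
            intro k
            have hodd : sympForm d F v (T v) = 0 := hk 0
            have h5 : ∀ j : ℕ, (T ^ (2 * j)) v = (-1 : F) ^ j • v := by
              intro j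
              rw [pow_mul, hz, _root_.smul_pow, one_pow]; rfl
            rcases Nat.even_or_odd' k with ⟨j, rfl | rfl⟩
            · rw [h5, hB.smul_right, ha, mul_zero]
            · rw [pow_succ', Module.End.mul_apply, h5, map_smul, hB.smul_right, hodd, mul_zero]) le_top
          (U := ⊤) (fun _ _ => trivial) hV
        rw [finrank_top, hfr] at hWd
        have hWe := dvd_finrank_of_pow_eq Nat.prime_two hnsq hz hWi
        have hmW : m ≤ finrank F W := by
          obtain ⟨a, ha⟩ := hme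
          omega
        -- invariant subspaces of W of every even dimension
        have hsub : ∀ j : ℕ, 2 * j ≤ finrank F W → ∃ U ≤ W, Inv T U ∧ finrank F U = 2 * j := by
          intro j
          induction j with
          | zero => intro _; exact ⟨⊥, bot_le, inv_bot, by simp⟩
          | succ j ih =>
            intro hj
            obtain ⟨U, hUW, hU, hUd⟩ := ih (by omega)
            obtain ⟨C, hC, hCW, h6, h7⟩ := exists_rel_compl hss hU hWi hUW
            have hC0 : C ≠ ⊥ := by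
              rintro rfl
              rw [sup_bot_eq] at h7
              rw [← h7] at hj
              omega
            obtain ⟨S, hSC, hS⟩ := exists_irr hC hC0
            refine ⟨U ⊔ S, sup_le hUW (hSC.trans hCW), hU.sup hS.2.1, ?_⟩
            have h8 : U ⊓ S = ⊥ := by
              rw [eq_bot_iff, ← h6]; exact inf_le_inf_left _ hSC
            rw [finrank_sup_of_disj h8, hUd, hS.finrank_eq_natDegree hirr (fun v _ => by rw [haev]; rfl),
              natDegree_X_pow_sub_C]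
            ring
        obtain ⟨a, ha'⟩ := hme
        obtain ⟨U, hUW, hU, hUd⟩ := hsub a (by omega)
        exact ⟨U, ⟨by omega, hWt.mono hUW⟩, hU⟩
      · obtain ⟨b, hb⟩ := hsq.2 hq3
        have hb0 : b ≠ 0 := by
          rintro rfl
          rw [zero_pow two_ne_zero] at hb
          have : (1 : F) = 0 := by linear_combination hb
          exact one_ne_zero this
        have hbi : b⁻¹ * b⁻¹ = -1 := by
          have h5 : b * b = -1 := by rw [← hb, pow_two]
          have h6 : b⁻¹ * b⁻¹ * (b * b) = 1 := by field_simp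
          rw [h5] at h6
          linear_combination -h6
        have hy2 : (b⁻¹ • T) ^ 2 = 1 := by
          rw [_root_.smul_pow b⁻¹ T 2, hz, smul_smul, pow_two, hbi]
          norm_num
        have hy : ∀ u v, sympForm d F ((b⁻¹ • T) u) ((b⁻¹ • T) v) = -1 * sympForm d F u v := by
          intro u v
          rw [LinearMap.smul_apply, LinearMap.smul_apply, hB.smul_left, hB.smul_right, RingHom.id_apply, hT]
          linear_combination (sympForm d F u v) * hbi
        have h7 := (finrank_of_anti h2 hy2 hy hB (W := ⊤) (fun _ _ => trivial) hV).1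
        rw [top_inf_eq, finrank_top, hfr] at h7
        obtain ⟨W₁, W₂, hd1, -, -, hsup⟩ := exists_split (fx (b⁻¹ • T)) (a := m) (b := d - m) (by omega)
        have hW₁ : W₁ ≤ fx (b⁻¹ • T) := by rw [← hsup]; exact le_sup_left
        exact ⟨W₁, ⟨hd1, (ti_fx_of_anti h2 hy hB).mono hW₁⟩, (inv_smul_iff' (inv_ne_zero hb0)).1 (inv_of_le_fx hW₁)⟩

end Cfsg.Agent.H951
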