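import Cfsg.Agent.H951.TCLift
import Cfsg.Agent.TitsThree.KExcBase
import Cfsg.Agent.S1027

/-!
# The Heisenberg bound for groups generated by root elements (helper951)
-/

set_option autoImplicit false

namespace Cfsg.Agent.H951.TCChev

open Subgroup Cfsg.Lie Cfsg.Agent.H51.Mult Cfsg.Agent.H253.TC Cfsg.Agent.H951.TCLift
open Cfsg.Agent.ChevalleyStructure.Elts Cfsg.Agent.TitsThree.KExcBase
open scoped commutatorElement

universe u v w

/-- the root groups commute -/
def nilB (D : ChevalleyDatum) (r s : ℕ) : Bool :=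
  decide (r < D.nroots) && decide (s < D.nroots) && (decide (s = r) || (decide (s ≠ D.neg r) && (D.commTerms r s).isEmpty))

/-- the commutator is the root `z` -/
def oneB (D : ChevalleyDatum) (r s z : ℕ) (c : ℤ) : Bool :=
  decide (r < D.nroots) && decide (s < D.nroots) && decide (s ≠ r) && decide (s ≠ D.neg r) &&
    decide (D.commTerms r s = [(z, c, 1, 1)])

/-- a Heisenberg configuration of roots -/
def hB (D : ChevalleyDatum) (k : ℕ) (z : ℕ) (b g : Fin k → ℕ) (c : Fin k → ℤ) : Bool :=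
  decide (∀ i, nilB D z (b i) = true ∧ nilB D (g i) z = true ∧ nilB D (b i) z = true ∧ oneB D (b i) (g i) z (c i) = true ∧
    ∀ j, i ≠ j → nilB D (b i) (b j) = true ∧ nilB D (g i) (b j) = true)

section

variable {D : ChevalleyDatum} (hD : InList D) {K : Type u} [Field K]

theorem comm_of_nilB {r s : ℕ} (h : nilB D r s = true) (t u : K) :
    xG hD r t * xG hD s u = xG hD s u * xG hD r t := by
  simp only [nilB, Bool.and_eq_true, Bool.or_eq_true, decide_eq_true_eq] at h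
  obtain ⟨⟨h1, h2⟩, h3⟩ := h
  rcases h3 with rfl | ⟨h3, h4⟩
  · exact comm_self hD _ _ _
  · by_cases h5 : s = r
    · subst h5; exact comm_self hD _ _ _
    · exact comm_nil hD h1 h2 h5 h3 (List.isEmpty_iff.1 h4) t u

theorem comm_of_oneB {r s z : ℕ} {c : ℤ} (h : oneB D r s z c = true) (h1 : nilB D r z = true) (h2 : nilB D s z = true)
    (t u : K) : xG hD r t * xG hD s u = xG hD s u * (xG hD r t * xG hD z ((c : K) * u * t)) := by
  simp only [oneB, Bool.and_eq_true, decide_eq_true_eq] at h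
  obtain ⟨⟨⟨⟨h3, h4⟩, h5⟩, h6⟩, h7⟩ := h
  have h8 := comm_one hD h3 h4 h5 h6 h7 (comm_of_nilB hD h1) (comm_of_nilB hD h2) t u
  rw [commutatorElement_def] at h8
  have h9 : xG hD r t * xG hD s u = xG hD z ((c : K) * t * u) * (xG hD s u * xG hD r t) := by
    rw [← h8]; group
  rw [h9, ← mul_assoc, ← comm_of_nilB hD h2, mul_assoc, ← comm_of_nilB hD h1]
  congr 3
  ring

/-- **The Heisenberg bound.** -/
theorem PD_roots {F : Type w} [Field F] [Finite F] (ι : F →+* K) {H : Subgroup (GL D.Idx K)} [IsSimpleGroup ↥H]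
    {k z : ℕ} {b g : Fin k → ℕ} {c : Fin k → ℤ} (h : hB D k z b g c = true)
    (hc : ∀ i, (c i : F) ≠ 0)
    (mz : ∀ t : F, xG hD z (ι t) ∈ H) (mb : ∀ i (t : F), xG hD (b i) (ι t) ∈ H) (mg : ∀ i (t : F), xG hD (g i) (ι t) ∈ H)
    {U : Subgroup ↥H} (hU : Lifts U) (uz : ∀ t : F, (⟨_, mz t⟩ : ↥H) ∈ U) (ub : ∀ i (t : F), (⟨_, mb i t⟩ : ↥H) ∈ U)
    (ug : ∀ i (t : F), (⟨_, mg i t⟩ : ↥H) ∈ U) (hz : z < D.nroots) : PD ↥H (Nat.card F ^ k) := by
  simp only [hB, decide_eq_true_eq] at h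
  refine PD_of_heis hU k (fun t => ⟨_, mz t⟩) (fun i t => ⟨_, mb i t⟩) (fun i t => ⟨_, mg i t⟩) (fun i => (c i : F))
    uz ub ug hc ?_ ?_ ?_ ?_ ?_ ?_ ?_ ?_
  · intro s t
    apply Subtype.ext
    show xG hD z (ι (s + t)) = xG hD z (ι s) * xG hD z (ι t)
    rw [map_add, xG_add]
  · intro i s t
    apply Subtype.ext
    show xG hD (b i) (ι (s + t)) = xG hD (b i) (ι s) * xG hD (b i) (ι t)
    rw [map_add, xG_add]
  · intro i s t
    exact Subtype.ext (comm_of_nilB hD (h i).1 _ _)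
  · intro i j hij s t
    exact Subtype.ext (comm_of_nilB hD ((h i).2.2.2.2 j hij).1 _ _)
  · intro i s t
    exact Subtype.ext (comm_of_nilB hD (h i).2.1 _ _)
  · intro i j hij s t
    exact Subtype.ext (comm_of_nilB hD ((h i).2.2.2.2 j hij).2 _ _)
  · intro i s t
    apply Subtype.ext
    show xG hD (b i) (ι t) * xG hD (g i) (ι s) = xG hD (g i) (ι s) * (xG hD (b i) (ι t) * xG hD z (ι ((c i : F) * s * t)))
    rw [comm_of_oneB hD (h i).2.2.2.1 (h i).2.2.1 (h i).2.1, map_mul, map_mul, map_intCast]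
  · refine ⟨1, fun h1 => ?_⟩
    have h2 : xG hD z (ι (1 : F)) = 1 := congrArg Subtype.val h1
    rw [xG_eq_one_iff hD hz, map_one] at h2
    exact one_ne_zero h2

/-- the positive unipotent subgroup of `D.group K` -/
def UU (D : ChevalleyDatum) (K : Type u) [Field K] : Subgroup ↥(D.group K) := (D.posUnipotent K).subgroupOf (D.group K)

theorem isPGroup_UU (hD : InList D) [Fintype K] (p : ℕ) [Fact p.Prime] [CharP K p] : IsPGroup p ↥(UU D K) := by
  obtain ⟨n, -, hn⟩ := FiniteField.card K p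
  have h1 : IsPGroup p ↥(D.posUnipotent K) :=
    IsPGroup.of_card (n := n * (D.nroots / 2)) (by rw [Cfsg.Agent.S1027.result D hD, hn, pow_mul])
  exact h1.comap_subtype

/-- **The Heisenberg bound for the Chevalley groups.** -/
theorem PD_group (hD : InList D) [Fintype K] (p : ℕ) [Fact p.Prime] [CharP K p] [IsSimpleGroup ↥(D.group K)]
    (hmul : ∀ (L : Type) [Group L] [Finite L] (π : L →* ↥(D.group K)), PCE π → ¬ p ∣ Nat.card π.ker)
    {k z : ℕ} {b g : Fin k → ℕ} {c : Fin k → ℤ} (h : hB D k z b g c = true) (hc : ∀ i, (c i : K) ≠ 0)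
    (hz : D.IsPosRoot z) (hb : ∀ i, D.IsPosRoot (b i)) (hg : ∀ i, D.IsPosRoot (g i)) :
    PD ↥(D.group K) (Nat.card K ^ k) := by
  have hm : ∀ {r : ℕ}, D.IsPosRoot r → ∀ t : K, (⟨xG hD r t, xG_mem_group hD r t⟩ : ↥(D.group K)) ∈ UU D K :=
    fun {r} hr t => Subgroup.subset_closure ⟨r, t, hr, coe_xG hD r t⟩
  exact PD_roots hD (RingHom.id K) h hc (fun t => xG_mem_group hD z t) (fun i t => xG_mem_group hD (b i) t)
    (fun i t => xG_mem_group hD (g i) t) (lifts_of_isPGroup (Fact.out : p.Prime) (isPGroup_UU hD p) hmul)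
    (fun t => hm hz t) (fun i t => hm (hb i) t) (fun i t => hm (hg i) t) hz.1

end

end Cfsg.Agent.H951.TCChev
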