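import Cfsg.Agent.H951.TCLift
import Cfsg.Agent.H253.TwoComm.Crit
import Cfsg.Agent.H253.TwoComm.Deg
import Cfsg.Agent.H324.Hall.Reps

/-!
# The numerical criterion for products of two commutators: the data of a row (helper951)

* `Data K` : an element with a small centralizer, a bound for the kernels of the perfect central extensions and a bound
  for the degrees of their representations with `mu * c ≤ D ^ 2`.
-/

set_option autoImplicit false

namespace Cfsg.Agent.H951.TCData

open Subgroup Cfsg.Agent.H51.Mult Cfsg.Agent.H253.TC Cfsg.Agent.H951.TCLift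

universe u v w

/-- **The criterion with a prime**: `r ∣ |K|` and the elements of order `r` have centralizers of order at most `c`. -/
theorem row_of_prime {K : Type v} [Group K] [Finite K] {r c mu D : ℕ} (hr : r.Prime) (hrK : r ∣ Nat.card K)
    (hc : ∀ x : K, orderOf x = r → Nat.card ↥(centralizer ({x} : Set K)) ≤ c)
    (hmu : ∀ (L : Type) [Group L] [Finite L] (π : L →* K), PCE π → Nat.card π.ker ≤ mu) (hD : PD K D) (hD0 : 0 < D)
    (h : mu * c ≤ D ^ 2) : Row K := by
  have : Fact r.Prime := ⟨hr⟩
  obtain ⟨x, hx⟩ := exists_prime_orderOf_dvd_card' r hrK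
  exact Row.of_bound x (hc x hx) hmu hD hD0 h

/-- a group of order divisible by `r` whose elements of order `r` have centralizers of order at most `c` -/
theorem exists_of_dvd {K : Type v} [Group K] [Finite K] {r c : ℕ} (hr : r.Prime) (hrK : r ∣ Nat.card K)
    (h : ∀ x : K, orderOf x = r → Nat.card ↥(centralizer ({x} : Set K)) ≤ c) :
    ∃ m : K, Nat.card ↥(centralizer ({m} : Set K)) ≤ c := by
  have : Fact r.Prime := ⟨hr⟩
  obtain ⟨x, hx⟩ := exists_prime_orderOf_dvd_card' r hrK
  exact ⟨x, h x hx⟩

/-- centralizers in subgroups -/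
theorem card_centralizer_le_of_injective {K : Type v} {K' : Type w} [Group K] [Group K'] [Finite K'] (f : K →* K')
    (hf : Function.Injective f) (m : K) :
    Nat.card ↥(centralizer ({m} : Set K)) ≤ Nat.card ↥(centralizer ({f m} : Set K')) := by
  refine Nat.card_le_card_of_injective (fun x => ⟨f x, ?_⟩) ?_
  · rw [mem_centralizer_singleton_iff, ← map_mul, ← map_mul]
    exact congrArg f (mem_centralizer_singleton_iff.1 x.2)
  · intro a b hab
    exact Subtype.ext (hf (congrArg Subtype.val hab))

/-- **Groups with trivial multiplier**: a bound for the irreducible representations of degree at least two. -/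
theorem PD_of_irr {K : Type v} [Group K] [Finite K]
    (hmul : ∀ (L : Type) [Group L] [Finite L] (π : L →* K), PCE π → Nat.card π.ker = 1) {D : ℕ}
    (h : ∀ (k : ℕ) (ρ : Representation ℂ K (Fin k → ℂ)), ρ.IsIrreducible → 2 ≤ k → D ≤ k) : PD K D := by
  intro L _ _ π hπ n ρ hρ
  have hi : Function.Injective π := by
    rw [← MonoidHom.ker_eq_bot_iff]
    exact Subgroup.card_eq_one.1 (hmul L π hπ)
  let e : L ≃* K := MulEquiv.ofBijective π ⟨hi, hπ.surj⟩
  have hperf : commutator K = ⊤ := hπ.perf_base
  let σ : Representation ℂ K (Fin n → ℂ) := (ρ : L →* _).comp e.symm.toMonoidHom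
  have hσ : σ ≠ 1 := by
    intro h1
    obtain ⟨g, hg⟩ := hρ
    apply hg
    have h2 : σ (e g) = 1 := by rw [h1]; rfl
    rw [← h2]
    show ρ g = ρ (e.symm (e g))
    rw [e.symm_apply_apply]
  obtain ⟨k, τ, hτ, hτ1, hk⟩ := Cfsg.Agent.H324.Hall.exists_irr σ hσ
  have hkm : k ≤ n := by simpa using hk
  have hk2 : 2 ≤ k := by
    by_contra hcon
    exact hτ1 (Cfsg.Agent.H324.Hall.eq_one_of_finrank_le hperf τ (by rw [Module.finrank_fin_fun]; omega))
  exact (h k τ hτ hk2).trans hkm

end Cfsg.Agent.H951.TCData
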