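import Cfsg.Agent.H253.TwoComm.Base
import Cfsg.Agent.H951.TCHeis

/-!
# Lifting `p`-subgroups to perfect central extensions, and the Heisenberg bound for the covers (helper951)
-/

set_option autoImplicit false

namespace Cfsg.Agent.H951.TCLift

open Subgroup Cfsg.Agent.H51.Mult Cfsg.Agent.H253.TC
open scoped commutatorElement

universe u v w

/-- A `p`-subgroup lifts to a perfect central extension with kernel of order prime to `p`. -/
theorem exists_lift {L : Type u} {K : Type v} [Group L] [Finite L] [Group K] {π : L →* K} (hπ : PCE π) {p : ℕ}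
    (hp : p.Prime) {P : Subgroup K} (hP : IsPGroup p ↥P) (h : ¬ p ∣ Nat.card π.ker) :
    ∃ s : ↥P →* L, ∀ x : ↥P, π (s x) = x := by
  have : Fact p.Prime := ⟨hp⟩
  have hK : Finite K := Finite.of_surjective π hπ.surj
  -- the preimage
  let f : ↥(P.comap π) →* ↥P := π.subgroupComap P
  have hf : Function.Surjective f := by
    rintro ⟨x, hx⟩
    obtain ⟨y, rfl⟩ := hπ.surj x
    exact ⟨⟨y, hx⟩, rfl⟩
  have hker : Nat.card f.ker ∣ Nat.card π.ker := by
    let j : ↥f.ker →* ↥π.ker :=
      { toFun := fun x => ⟨((x : ↥(P.comap π)) : L), by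
          have h1 : f x = 1 := x.2
          exact congrArg Subtype.val h1⟩
        map_one' := rfl
        map_mul' := fun _ _ => rfl }
    refine Subgroup.card_dvd_of_injective j ?_
    intro a b hab
    have h1 : ((a : ↥(P.comap π)) : L) = ((b : ↥(P.comap π)) : L) := congrArg (fun x : ↥π.ker => (x : L)) hab
    exact Subtype.ext (Subtype.ext h1)
  have hcard : Nat.card f.ker * Nat.card ↥P = Nat.card ↥(P.comap π) := by
    have h1 := Subgroup.card_mul_index f.ker
    rw [Subgroup.index_ker, MonoidHom.range_eq_top.2 hf, Nat.card_congr (Subgroup.topEquiv (G := ↥P)).toEquiv] at h1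
    exact h1
  obtain ⟨n, hn⟩ := IsPGroup.iff_card.1 hP
  have hcop : Nat.Coprime (Nat.card f.ker) f.ker.index := by
    rw [Subgroup.index_ker, MonoidHom.range_eq_top.2 hf, Nat.card_congr (Subgroup.topEquiv (G := ↥P)).toEquiv, hn]
    refine Nat.Coprime.pow_right n ((Nat.Prime.coprime_iff_not_dvd hp).2 fun h1 => h (h1.trans hker)).symm
  obtain ⟨H, hH⟩ := Subgroup.exists_right_complement'_of_coprime hcop
  -- `H → P` is bijective
  let φ : ↥H →* ↥P := f.comp H.subtype
  have hφi : Function.Injective φ := by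
    rw [injective_iff_map_eq_one]
    intro x hx
    have h1 : (x : ↥(P.comap π)) ∈ f.ker := hx
    have h2 : (x : ↥(P.comap π)) ∈ f.ker ⊓ H := ⟨h1, x.2⟩
    rw [hH.disjoint.eq_bot] at h2
    exact Subtype.ext (Subgroup.mem_bot.1 h2)
  have hφs : Function.Surjective φ := by
    intro y
    obtain ⟨x, rfl⟩ := hf y
    obtain ⟨⟨a, b⟩, hab⟩ := hH.2 x
    refine ⟨b, ?_⟩
    rw [← hab]
    show f b = f (a * b)
    rw [map_mul, show f a = 1 from a.2, one_mul]
  let e : ↥H ≃* ↥P := MulEquiv.ofBijective φ ⟨hφi, hφs⟩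
  refine ⟨(P.comap π).subtype.comp (H.subtype.comp e.symm.toMonoidHom), fun x => ?_⟩
  have h1 : φ (e.symm x) = x := e.apply_symm_apply x
  exact congrArg Subtype.val h1

/-- In a nontrivial representation of a perfect central extension of a simple group the kernel is central. -/
theorem rep_ne_one {L : Type u} {K : Type v} [Group L] [Group K] [IsSimpleGroup K] {π : L →* K} (hπ : PCE π)
    {V : Type w} [AddCommGroup V] [Module ℂ V] (ρ : Representation ℂ L V) (hρ : ∃ g, ρ g ≠ 1) {y : L}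
    (hy : π y ≠ 1) : ρ y ≠ 1 := by
  intro h1
  obtain ⟨g, hg⟩ := hρ
  apply hg
  have hN : (MonoidHom.ker ρ).Normal := inferInstance
  have hmap : ((MonoidHom.ker ρ).map π).Normal := hN.map π hπ.surj
  have htop : (MonoidHom.ker ρ).map π = ⊤ := by
    refine (IsSimpleGroup.eq_bot_or_eq_top_of_normal _ hmap).resolve_left fun h => hy ?_
    have : π y ∈ (MonoidHom.ker ρ).map π := ⟨y, h1, rfl⟩
    rw [h] at this
    exact Subgroup.mem_bot.1 this
  have hcom : commutator L ≤ MonoidHom.ker ρ := by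
    rw [commutator_def, Subgroup.commutator_le]
    have key : ∀ a : L, ∃ n ∈ MonoidHom.ker ρ, ∃ c ∈ Subgroup.center L, a = n * c := by
      intro a
      have : π a ∈ (MonoidHom.ker ρ).map π := by rw [htop]; exact mem_top _
      obtain ⟨n, hn, hna⟩ := this
      refine ⟨n, hn, n⁻¹ * a, hπ.cen ?_, by group⟩
      rw [MonoidHom.mem_ker, map_mul, map_inv, hna, inv_mul_cancel]
    intro a _ b _
    obtain ⟨n, hn, c, hc, rfl⟩ := key a
    obtain ⟨n', hn', c', hc', rfl⟩ := key b
    have hcc : ∀ x, c * x = x * c := fun x => (Subgroup.mem_center_iff.1 hc x).symm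
    have hcc' : ∀ x, c' * x = x * c' := fun x => (Subgroup.mem_center_iff.1 hc' x).symm
    have e : ⁅n * c, n' * c'⁆ = ⁅n, n'⁆ := by
      rw [commutatorElement_def, commutatorElement_def, mul_inv_rev, mul_inv_rev]
      have hci : ∀ x, c⁻¹ * x = x * c⁻¹ := fun x => by
        rw [inv_mul_eq_iff_eq_mul, ← mul_assoc, hcc, mul_inv_cancel_right]
      have hci' : ∀ x, c'⁻¹ * x = x * c'⁻¹ := fun x => by
        rw [inv_mul_eq_iff_eq_mul, ← mul_assoc, hcc', mul_inv_cancel_right]
      calc n * c * (n' * c') * (c⁻¹ * n⁻¹) * (c'⁻¹ * n'⁻¹) =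
          n * (c * (n' * (c' * (c⁻¹ * (n⁻¹ * (c'⁻¹ * n'⁻¹)))))) := by group
        _ = n * ((n' * (c' * (c⁻¹ * (n⁻¹ * (c'⁻¹ * n'⁻¹))))) * c) := by rw [hcc]
        _ = n * (n' * ((c' * ((c⁻¹ * (n⁻¹ * (c'⁻¹ * n'⁻¹))) * c)))) := by group
        _ = n * (n' * ((((c⁻¹ * (n⁻¹ * (c'⁻¹ * n'⁻¹))) * c)) * c')) := by rw [hcc']
        _ = n * (n' * (((((n⁻¹ * (c'⁻¹ * n'⁻¹)) * c⁻¹) * c)) * c')) := by rw [hci]
        _ = n * n' * n⁻¹ * ((c'⁻¹ * n'⁻¹) * c') := by group
        _ = n * n' * n⁻¹ * n'⁻¹ := by rw [hci']; group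
    rw [e, commutatorElement_def]
    exact mul_mem (mul_mem (mul_mem hn hn') (inv_mem hn)) (inv_mem hn')
  have : g ∈ MonoidHom.ker ρ := hcom (by rw [hπ.perf]; exact mem_top _)
  exact this

/-- `U` lifts to all perfect central extensions of `K` -/
def Lifts {K : Type v} [Group K] (U : Subgroup K) : Prop :=
  ∀ (L : Type) [Group L] [Finite L] (π : L →* K), PCE π → ∃ s : ↥U →* L, ∀ x : ↥U, π (s x) = x

theorem lifts_of_isPGroup {K : Type v} [Group K] {p : ℕ} (hp : p.Prime) {U : Subgroup K} (hU : IsPGroup p ↥U)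
    (hmul : ∀ (L : Type) [Group L] [Finite L] (π : L →* K), PCE π → ¬ p ∣ Nat.card π.ker) : Lifts U :=
  fun L _ _ π hπ => exists_lift hπ hp hU (hmul L π hπ)

theorem lifts_of_trivial {K : Type v} [Group K] (U : Subgroup K)
    (hmul : ∀ (L : Type) [Group L] [Finite L] (π : L →* K), PCE π → Nat.card π.ker = 1) : Lifts U := by
  intro L _ _ π hπ
  have h1 := hmul L π hπ
  have hi : Function.Injective π := by
    rw [← MonoidHom.ker_eq_bot_iff]
    exact Subgroup.card_eq_one.1 h1
  let e : L ≃* K := MulEquiv.ofBijective π ⟨hi, hπ.surj⟩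
  exact ⟨e.symm.toMonoidHom.comp U.subtype, fun x => e.apply_symm_apply x⟩

/-- **The Heisenberg bound for the perfect central extensions.** -/
theorem PD_of_heis {K : Type v} [Group K] [IsSimpleGroup K] {U : Subgroup K} (hU : Lifts U)
    {F : Type w} [Field F] [Finite F] (k : ℕ) (z : F → K) (b g : Fin k → F → K) (ε : Fin k → F)
    (hzU : ∀ t, z t ∈ U) (hbU : ∀ i t, b i t ∈ U) (hgU : ∀ i t, g i t ∈ U) (hε : ∀ i, ε i ≠ 0)
    (hz : ∀ s t, z (s + t) = z s * z t) (hb : ∀ i s t, b i (s + t) = b i s * b i t)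
    (hzb : ∀ i s t, z s * b i t = b i t * z s) (hbb : ∀ i j, i ≠ j → ∀ s t, b i s * b j t = b j t * b i s)
    (hgz : ∀ i s t, g i s * z t = z t * g i s) (hgb : ∀ i j, i ≠ j → ∀ s t, g i s * b j t = b j t * g i s)
    (hg : ∀ i s t, b i t * g i s = g i s * (b i t * z (ε i * s * t))) (hz1 : ∃ t, z t ≠ 1) :
    PD K (Nat.card F ^ k) := by
  intro L _ _ π hπ n ρ hρ
  obtain ⟨s, hs⟩ := hU L π hπ
  have key := Cfsg.Agent.H951.TCHeis.heis (V := Fin n → ℂ) (P := ↥U) k (fun t => ⟨z t, hzU t⟩)
    (fun i t => ⟨b i t, hbU i t⟩) (fun i t => ⟨g i t, hgU i t⟩) ε hε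
    (fun s t => Subtype.ext (hz s t)) (fun i s t => Subtype.ext (hb i s t)) (fun i s t => Subtype.ext (hzb i s t))
    (fun i j h s t => Subtype.ext (hbb i j h s t)) (fun i s t => Subtype.ext (hgz i s t))
    (fun i j h s t => Subtype.ext (hgb i j h s t)) (fun i s t => Subtype.ext (hg i s t)) (ρ.comp s) (by
      obtain ⟨t, ht⟩ := hz1
      refine ⟨t, ?_⟩
      show ρ (s ⟨z t, hzU t⟩) ≠ 1
      refine rep_ne_one hπ ρ hρ ?_
      rw [hs]
      exact ht)
  rwa [Module.finrank_fin_fun] at key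

/-- The order of the kernel of a perfect central extension divides the order of the multiplier. -/
theorem card_ker_dvd' {Q : Type v} [Group Q] {A : Type w} [CommGroup A] (h : Cfsg.HasSchurMultiplier Q A)
    {K : Type u} [Group K] [Finite K] (hK : _root_.commutator K = ⊤) (f : K →* Q) (hf : Function.Surjective f)
    (hc : f.ker ≤ center K) : Nat.card f.ker ∣ Nat.card A := by
  have : Small.{v} K := Countable.toSmall K
  let e : Shrink.{v} K ≃* K := Shrink.mulEquiv
  have : Finite (Shrink.{v} K) := Finite.of_equiv K e.symm.toEquiv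
  let σ : Shrink.{v} K →* Q := f.comp e.toMonoidHom
  have hs : Cfsg.IsStemExtension σ := by
    refine ⟨hf.comp e.surjective, ?_, ?_⟩
    · intro x hx
      rw [mem_center_iff]
      intro y
      have h1 : e x ∈ f.ker := hx
      have h2 := mem_center_iff.1 (hc h1) (e y)
      exact e.injective (by rw [map_mul, map_mul]; exact h2)
    · intro x hx
      have h1 : (_root_.commutator (Shrink.{v} K)).map e.toMonoidHom = ⊤ := by
        rw [_root_.commutator_def, map_commutator, Subgroup.map_top_of_surjective _ e.surjective, ← _root_.commutator_def, hK]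
      have h2 : e x ∈ (_root_.commutator (Shrink.{v} K)).map e.toMonoidHom := by rw [h1]; exact mem_top _
      obtain ⟨y, hy, hyx⟩ := h2
      rwa [← e.injective hyx]
  obtain ⟨π, hπ⟩ := h.2 (Shrink.{v} K) σ hs
  have h1 : Nat.card σ.ker = Nat.card f.ker := by
    refine Nat.card_congr (Equiv.subtypeEquiv e.toEquiv fun x => ?_)
    rfl
  rw [← h1]
  exact Subgroup.card_dvd_of_surjective π hπ

/-- the kernels of the perfect central extensions of a group with Schur multiplier `n` -/
theorem card_ker_dvd {K : Type v} [Group K] {n : ℕ} (h : Cfsg.HasCyclicSchurMultiplier K n) {L : Type u} [Group L]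
    [Finite L] {π : L →* K} (hπ : PCE π) : Nat.card π.ker ∣ n := by
  have h1 := card_ker_dvd' h hπ.perf π hπ.surj hπ.cen
  rwa [Nat.card_congr (Multiplicative.toAdd (α := ZMod n)), Nat.card_zmod] at h1

end Cfsg.Agent.H951.TCLift
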