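import Cfsg.Agent.H951.TCData
import Cfsg.Agent.H253.TwoComm.Feit
import Cfsg.Agent.H228.RegCent
import Cfsg.Agent.OddCyclic.ClaimC.SzIso
import Cfsg.Agent.SmallSimple.PSLTwoPart
import Cfsg.Agent.S0333
import Cfsg.Agent.S1073
import Cfsg.Agent.S1162
import Cfsg.Agent.S1163
import Cfsg.Agent.S2111
import Cfsg.Agent.S2112
import Cfsg.Agent.S2113
import Cfsg.Agent.S2337
import Cfsg.Agent.S2343

/-!
# Products of two commutators: the Suzuki and small Ree groups (helper951)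
-/

set_option autoImplicit false

namespace Cfsg.Agent.H951.TCRankOne

open Subgroup Cfsg.Lie Cfsg.Agent.H51.Mult Cfsg.Agent.H253.TC Cfsg.Agent.H951.TCLift Cfsg.Agent.H951.TCData

universe u v

/-- a group is not `PSL(2, p)` by its order -/
theorem not_psl {K : Type v} [Group K] {p : ℕ} (hp : p.Prime) (hp2 : p ≠ 2)
    (h : 2 * Nat.card K ≠ p * (p ^ 2 - 1)) : ¬ Nonempty (K ≃* Matrix.ProjectiveSpecialLinearGroup (Fin 2) (ZMod p)) := by
  rintro ⟨e⟩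
  have : Fact p.Prime := ⟨hp⟩
  have h1 := Cfsg.Agent.SmallSimple.PSLTwoPart.card_psl_two_odd (F := ZMod p)
    (by rw [ZMod.card]; exact hp.odd_of_ne_two hp2)
  rw [ZMod.card, ← Nat.card_congr e.toEquiv] at h1
  exact h h1

theorem not_comm {K : Type v} [Group K] [IsSimpleGroup K] (h : ¬ (Nat.card K).Prime) : ¬ ∀ a b : K, a * b = b * a := by
  intro hab
  let _ : CommGroup K := { (inferInstance : Group K) with mul_comm := hab }
  exact h IsSimpleGroup.prime_card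

/-- **The small Ree groups.** -/
theorem row_ree {K : Type u} [Field K] [Fintype K] {m : ℕ} (hm : 1 ≤ m) (hK : Fintype.card K = 3 ^ (2 * m + 1)) :
    Row ↥(twistedG2 K (3 ^ m)) := by
  have hmul : ∀ (L : Type) [Group L] [Finite L] (π : L →* ↥(twistedG2 K (3 ^ m))), PCE π → Nat.card π.ker = 1 :=
    fun L _ _ π hπ => Nat.dvd_one.1 (card_ker_dvd (Cfsg.Agent.S2113.result hm hK) hπ)
  obtain ⟨x, hx⟩ := Cfsg.Agent.H228.RegUnip.exists_cent_G2 (K := K) hK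
  have h27 : 3 ≤ 3 ^ (2 * m + 1) := by
    calc 3 = 3 ^ 1 := by norm_num
      _ ≤ 3 ^ (2 * m + 1) := Nat.pow_le_pow_right (by norm_num) (by omega)
  refine Row.of_bound (μ := 1) (D := (3 ^ (2 * m + 1)) ^ 2 - 3 ^ (2 * m + 1) + 1) x hx
    (fun L _ _ π hπ => (hmul L π hπ).le) (PD_of_irr hmul (Cfsg.Agent.S2343.result m hm hK)) (Nat.succ_pos _) ?_
  generalize 3 ^ (2 * m + 1) = q at h27
  rw [one_mul]
  have h2 : q ≤ q ^ 2 := by nlinarith
  zify [h2]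
  have h3 : (3 : ℤ) ≤ q := by exact_mod_cast h27
  nlinarith [mul_nonneg (sub_nonneg.2 h3) (sub_nonneg.2 h3), pow_pos (by linarith : (0 : ℤ) < q) 3,
    mul_nonneg (pow_nonneg (by linarith : (0 : ℤ) ≤ q) 3) (sub_nonneg.2 h3)]

/-- an element of `Sz(q)` with centralizer of order `q - r + 1` -/
theorem exists_cent_sz {F : Type u} [Field F] [Fintype F] {m : ℕ} (hm : 1 ≤ m) (hF : Fintype.card F = 2 ^ (2 * m + 1)) :
    ∃ x : ↥(Cfsg.Lie.Sz F (2 ^ (m + 1))), Nat.card ↥(centralizer ({x} : Set ↥(Cfsg.Lie.Sz F (2 ^ (m + 1))))) ≤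
      2 ^ (2 * m + 1) - 2 ^ (m + 1) + 1 := by
  obtain ⟨U, -, hU, hc, -⟩ := Cfsg.Agent.S0333.result hm hF (2 ^ (2 * m + 1) - 2 ^ (m + 1) + 1) (by simp)
  obtain ⟨e⟩ := Cfsg.Agent.OddCyclic.ClaimC.SzIso.iso (F := F) hm hF
  have h1 : 2 * 2 ^ (m + 1) ≤ 2 ^ (2 * m + 1) := by
    calc 2 * 2 ^ (m + 1) = 2 ^ (m + 2) := by ring
      _ ≤ 2 ^ (2 * m + 1) := Nat.pow_le_pow_right (by norm_num) (by omega)
  have h2 : 1 ≤ 2 ^ (m + 1) := Nat.one_le_two_pow
  have hnt : Nontrivial ↥U := by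
    rw [← Finite.one_lt_card_iff_nontrivial, hU]
    omega
  obtain ⟨⟨x, hx⟩, hx1⟩ := exists_ne (1 : ↥U)
  have hx1' : x ≠ 1 := fun h => hx1 (Subtype.ext h)
  refine ⟨e x, le_trans (card_centralizer_le_of_injective e.symm.toMonoidHom e.symm.injective (e x)) ?_⟩
  have h3 : e.symm.toMonoidHom (e x) = x := e.symm_apply_apply x
  rw [h3, hc x hx hx1', hU]

/-- **The Suzuki groups.** -/
theorem row_sz {F : Type u} [Field F] [Fintype F] {m : ℕ} (hm : 1 ≤ m) (hF : Fintype.card F = 2 ^ (2 * m + 1)) :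
    Row ↥(Cfsg.Lie.Sz F (2 ^ (m + 1))) := by
  obtain ⟨x, hx⟩ := exists_cent_sz hm hF
  rcases Nat.eq_or_lt_of_le hm with h1 | h1
  · subst h1
    have hs : IsSimpleGroup ↥(Cfsg.Lie.Sz F (2 ^ (1 + 1))) := Cfsg.Agent.S1162.result le_rfl hF
    have hcard : Nat.card ↥(Cfsg.Lie.Sz F (2 ^ (1 + 1))) = 29120 := by
      rw [(Cfsg.Agent.S1163.result le_rfl hF).1]; norm_num
    have hA : Cfsg.HasSchurMultiplier ↥(Cfsg.Lie.Sz F (2 ^ (1 + 1))) (Multiplicative (ZMod 2 × ZMod 2)) :=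
      Cfsg.Agent.S2112.result (by rw [hF]; norm_num)
    have hAc : Nat.card (Multiplicative (ZMod 2 × ZMod 2)) = 4 := by
      simp [Nat.card_eq_fintype_card]
    have hker : ∀ (L : Type) [Group L] [Finite L] (π : L →* ↥(Cfsg.Lie.Sz F (2 ^ (1 + 1)))), PCE π →
        Nat.card π.ker ∣ 4 := fun L _ _ π hπ => by
      have h1 := card_ker_dvd' hA hπ.perf π hπ.surj hπ.cen
      rwa [hAc] at h1
    have hPD : PD ↥(Cfsg.Lie.Sz F (2 ^ (1 + 1))) 7 := by
      refine PD.of_prime (not_comm (by rw [hcard]; norm_num)) (by norm_num : Nat.Prime 13) (fun L _ _ π hπ h => ?_) ?_ ?_ (not_psl (by norm_num) (by norm_num) ?_)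
        (by norm_num)
      · have := h.trans (hker L π hπ)
        revert this; norm_num
      · rw [hcard]; norm_num
      · rw [hcard]; norm_num
      · rw [hcard]; norm_num
    exact Row.of_bound (μ := 4) x hx (fun L _ _ π hπ => Nat.le_of_dvd (by norm_num) (hker L π hπ)) hPD (by norm_num)
      (by norm_num)
  · have hmul : ∀ (L : Type) [Group L] [Finite L] (π : L →* ↥(Cfsg.Lie.Sz F (2 ^ (m + 1)))), PCE π → Nat.card π.ker = 1 :=
      fun L _ _ π hπ => Nat.dvd_one.1 (card_ker_dvd (Cfsg.Agent.S2111.result h1 hF) hπ)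
    have hq : 2 ≤ 2 ^ (2 * m + 1) := by
      calc 2 = 2 ^ 1 := by norm_num
        _ ≤ 2 ^ (2 * m + 1) := Nat.pow_le_pow_right (by norm_num) (by omega)
    have h2m : 2 ≤ 2 ^ m := by
      calc 2 = 2 ^ 1 := by norm_num
        _ ≤ 2 ^ m := Nat.pow_le_pow_right (by norm_num) (by omega)
    have h3 : 2 ^ (2 * m + 1) ≤ 2 ^ m * (2 ^ (2 * m + 1) - 1) := by
      calc 2 ^ (2 * m + 1) ≤ 2 * (2 ^ (2 * m + 1) - 1) := by omega
        _ ≤ 2 ^ m * (2 ^ (2 * m + 1) - 1) := Nat.mul_le_mul_right _ h2m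
    refine Row.of_bound (μ := 1) (D := 2 ^ m * (2 ^ (2 * m + 1) - 1)) x hx (fun L _ _ π hπ => (hmul L π hπ).le)
      (PD_of_irr hmul (Cfsg.Agent.S2337.result m hm hF)) (by omega) ?_
    have h4 : 1 ≤ 2 ^ (m + 1) := Nat.one_le_two_pow
    have h5 : 2 ^ (m + 1) ≤ 2 ^ (2 * m + 1) := Nat.pow_le_pow_right (by norm_num) (by omega)
    have h6 : 2 ^ m * (2 ^ (2 * m + 1) - 1) ≤ (2 ^ m * (2 ^ (2 * m + 1) - 1)) ^ 2 := Nat.le_self_pow (by norm_num) _
    omega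

end Cfsg.Agent.H951.TCRankOne
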