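import Cfsg.Agent.H951.TCChev
import Cfsg.Agent.H951.TCRankOne
import Cfsg.Agent.H129.CycRow
import Cfsg.Agent.S1054
import Cfsg.Agent.S1055
import Cfsg.Agent.S1059
import Cfsg.Agent.S1062
import Cfsg.Agent.S2100
import Cfsg.Agent.S2101
import Cfsg.Agent.S2102
import Cfsg.Agent.S2103
import Cfsg.Agent.S2104
import Cfsg.Agent.S2105
import Cfsg.Agent.S2106
import Cfsg.Agent.S2107
import Cfsg.Agent.S2371
import Cfsg.Agent.S2374

/-!
# Products of two commutators: `G₂`, `F₄`, `E₆`, `E₇`, `E₈` (helper951)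
-/

set_option autoImplicit false

namespace Cfsg.Agent.H951.TCRows

open Subgroup Cfsg.Lie Cfsg.Agent.H51.Mult Cfsg.Agent.H253.TC Cfsg.Agent.H951.TCLift Cfsg.Agent.H951.TCData
  Cfsg.Agent.H951.TCChev Cfsg.Agent.H951.TCRankOne
open Cfsg.Agent.ChevalleyStructure.Elts Cfsg.Agent.H129.CycT

universe u v

/-- an element with centralizer of order `m` -/
theorem exists_of_exact {G : Type v} [Group G] {m : ℕ} (hm : 1 < m) (h : CycExact G m) :
    ∃ x : G, Nat.card ↥(centralizer ({x} : Set G)) ≤ m := by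
  obtain ⟨T, -, hT, hc⟩ := h
  have : Finite ↥T := Nat.finite_of_card_ne_zero (by omega)
  have hnt : Nontrivial ↥T := by rw [← Finite.one_lt_card_iff_nontrivial, hT]; exact hm
  obtain ⟨⟨x, hx⟩, hx1⟩ := exists_ne (1 : ↥T)
  exact ⟨x, by rw [hc x hx fun h => hx1 (Subtype.ext h), hT]⟩

/-- an element with centralizer of order `m` -/
theorem exists_of_cyclic {G : Type v} [Group G] {m : ℕ} (h0 : 0 < m)
    (h : ∃ H : Subgroup G, IsCyclic ↥H ∧ Nat.card ↥H = m ∧ Subgroup.centralizer (H : Set G) = H) :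
    ∃ x : G, Nat.card ↥(centralizer ({x} : Set G)) ≤ m := by
  obtain ⟨H, hc, hm, hH⟩ := h
  obtain ⟨⟨x, hx⟩, hgen⟩ := hc.exists_generator
  refine ⟨x, ?_⟩
  have h1 : centralizer ({x} : Set G) ≤ H := by
    rw [← hH]
    intro y hy
    rw [mem_centralizer_singleton_iff] at hy
    rw [mem_centralizer_iff]
    intro z hz
    obtain ⟨n, hn⟩ := Subgroup.mem_zpowers_iff.1 (hgen ⟨z, hz⟩)
    have h2 : x ^ n = z := by
      have := congrArg Subtype.val hn
      simpa using this
    rw [← h2]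
    exact ((show Commute x y from hy.symm).zpow_left n).eq
  have : Finite ↥H := Nat.finite_of_card_ne_zero (by omega)
  rw [← hm]
  exact Nat.card_le_card_of_injective _ (Subgroup.inclusion_injective h1)

variable {F : Type u} [Field F] [Fintype F]

theorem char_of (F : Type u) [Field F] [Fintype F] : ∃ p : ℕ, p.Prime ∧ CharP F p ∧ ∃ n : ℕ, 0 < n ∧ Fintype.card F = p ^ n := by
  obtain ⟨p, hch⟩ := CharP.exists F
  obtain ⟨n, hp, hn⟩ := FiniteField.card F p
  exact ⟨p, hp, hch, n, n.2, hn⟩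

/-- the characteristic does not divide the kernels, if they divide `gcd(d, q - 1)` -/
theorem not_dvd_gcd {p n q d a : ℕ} (hp : p.Prime) (hn : 0 < n) (hq : q = p ^ n) (ha : a ∣ Nat.gcd d (q - 1)) : ¬ p ∣ a := by
  intro h
  have h1 : p ∣ q - 1 := (h.trans ha).trans (Nat.gcd_dvd_right _ _)
  have h2 : p ∣ q := hq ▸ dvd_pow_self p hn.ne'
  have h3 : 1 ≤ q := by rw [hq]; exact Nat.one_le_pow _ _ hp.pos
  have h4 := Nat.dvd_sub h2 h1
  rw [Nat.sub_sub_self h3] at h4
  exact hp.one_lt.ne' (Nat.dvd_one.1 h4)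

/-- the prime of the field does not divide the kernels -/
theorem hmul_gcd {K : Type v} [Group K] {p n q d : ℕ} (hp : p.Prime) (hn : 0 < n) (hq : q = p ^ n)
    (h : Cfsg.HasCyclicSchurMultiplier K (Nat.gcd d (q - 1))) (L : Type) [Group L] [Finite L] (π : L →* K) (hπ : PCE π) :
    ¬ p ∣ Nat.card π.ker := not_dvd_gcd hp hn hq (card_ker_dvd h hπ)

/-- **`E₈(q)`.** -/
theorem row_E8 : Row ↥(chevE8.group F) := by
  obtain ⟨p, hp, hch, n, hn, hq⟩ := char_of F
  have : Fact p.Prime := ⟨hp⟩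
  have : IsSimpleGroup ↥(chevE8.group F) := (Cfsg.Agent.S1054.result chevE8 (by simp)).1
  have hmul : ∀ (L : Type) [Group L] [Finite L] (π : L →* ↥(chevE8.group F)), PCE π → Nat.card π.ker = 1 :=
    fun L _ _ π hπ => Nat.dvd_one.1 (card_ker_dvd (Cfsg.Agent.S2107.result (F := F)) hπ)
  have hPD : PD ↥(chevE8.group F) (Nat.card F ^ 4) :=
    PD_group (by simp) p (fun L _ _ π hπ h => hp.one_lt.ne' (Nat.dvd_one.1 (hmul L π hπ ▸ h)))
      (z := 239) (b := ![120, 122, 125, 129]) (g := ![238, 237, 236, 235]) (c := ![1, 1, 1, 1])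
      (by decide +kernel) (by intro i; fin_cases i <;> simp) (by decide +kernel) (by decide +kernel) (by decide +kernel)
  have hq2 : 2 ≤ Fintype.card F := Fintype.one_lt_card
  generalize hQ : Fintype.card F = Q at hq2 hq
  have h48 : Q ^ 4 ≤ Q ^ 8 := Nat.pow_le_pow_right (by omega) (by norm_num)
  have h4 : 2 ≤ Q ^ 4 := le_trans hq2 (Nat.le_self_pow (by norm_num) _)
  have h8 : 2 * Q ^ 4 ≤ Q ^ 8 := by
    calc 2 * Q ^ 4 ≤ Q ^ 4 * Q ^ 4 := Nat.mul_le_mul_right _ h4
      _ = Q ^ 8 := by ring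
  obtain ⟨x, hx⟩ := exists_of_exact (by omega) (exact_E8_24 (F := F) (N := Q ^ 8 - Q ^ 4 + 1) hQ
    (by push_cast [Nat.cast_sub h48]; ring))
  refine Row.of_bound (μ := 1) x hx (fun L _ _ π hπ => (hmul L π hπ).le) hPD (pow_pos Nat.card_pos _) ?_
  have e : (Q ^ 4) ^ 2 = Q ^ 8 := by ring
  rw [Nat.card_eq_fintype_card, one_mul, hQ, e]
  omega

/-- **`E₇(q)`.** -/
theorem row_E7 : Row ↥(chevE7.group F) := by
  obtain ⟨p, hp, hch, n, hn, hq⟩ := char_of F
  have : Fact p.Prime := ⟨hp⟩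
  have : IsSimpleGroup ↥(chevE7.group F) := (Cfsg.Agent.S1054.result chevE7 (by simp)).1
  have hM := Cfsg.Agent.S2106.result (F := F) rfl
  have hPD : PD ↥(chevE7.group F) (Nat.card F ^ 4) :=
    PD_group (by simp) p (fun L _ _ π hπ => hmul_gcd hp hn hq hM L π hπ)
      (z := 125) (b := ![93, 94, 95, 96]) (g := ![124, 123, 122, 121]) (c := ![1, -1, 1, -1])
      (by decide +kernel) (by intro i; fin_cases i <;> simp) (by decide +kernel) (by decide +kernel) (by decide +kernel)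
  have hq2 : 2 ≤ Fintype.card F := Fintype.one_lt_card
  generalize hQ : Fintype.card F = Q at hq2 hq hM
  have h24 : Q ^ 2 ≤ Q ^ 4 := Nat.pow_le_pow_right (by omega) (by norm_num)
  have hd : Nat.gcd 2 (Q - 1) ∣ (Q ^ 4 - Q ^ 2 + 1) * (Q ^ 3 + 1) := by
    rcases (Nat.dvd_prime Nat.prime_two).1 (Nat.gcd_dvd_left 2 (Q - 1)) with h | h
    · rw [h]; exact one_dvd _
    · rw [h]
      have h1 : 2 ∣ Q - 1 := h ▸ Nat.gcd_dvd_right 2 (Q - 1)
      refine dvd_mul_of_dvd_right ?_ _
      have h2 : Odd Q := by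
        obtain ⟨a, ha⟩ := h1
        exact ⟨a, by omega⟩
      exact (h2.pow.add_one).two_dvd
  have hg0 : 0 < Nat.gcd 2 (Q - 1) := Nat.gcd_pos_of_pos_left _ (by norm_num)
  obtain ⟨x, hx⟩ := exists_of_cyclic (Nat.div_pos (Nat.le_of_dvd (Nat.mul_pos (Nat.succ_pos _) (Nat.succ_pos _)) hd) hg0)
    (Cfsg.Agent.S2374.result (F := F) Q hQ)
  refine Row.of_bound (μ := Nat.gcd 2 (Q - 1)) x hx (fun L _ _ π hπ => Nat.le_of_dvd hg0 (card_ker_dvd hM hπ)) hPD
    (pow_pos Nat.card_pos _) ?_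
  rw [Nat.mul_div_cancel' hd, Nat.card_eq_fintype_card, hQ]
  have h1 : Q ^ 4 - Q ^ 2 + 1 ≤ Q ^ 4 := by
    have : 1 ≤ Q ^ 2 := Nat.one_le_pow _ _ (by omega)
    omega
  have h2 : Q ^ 3 + 1 ≤ Q ^ 4 := by
    have : 1 ≤ Q ^ 3 := Nat.one_le_pow _ _ (by omega)
    calc Q ^ 3 + 1 ≤ 2 * Q ^ 3 := by omega
      _ ≤ Q * Q ^ 3 := Nat.mul_le_mul_right _ hq2
      _ = Q ^ 4 := by ring
  calc (Q ^ 4 - Q ^ 2 + 1) * (Q ^ 3 + 1) ≤ Q ^ 4 * Q ^ 4 := Nat.mul_le_mul h1 h2
    _ = (Q ^ 4) ^ 2 := by ring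

/-- **`E₆(q)`.** -/
theorem row_E6 : Row ↥(chevE6.group F) := by
  obtain ⟨p, hp, hch, n, hn, hq⟩ := char_of F
  have : Fact p.Prime := ⟨hp⟩
  have : IsSimpleGroup ↥(chevE6.group F) := (Cfsg.Agent.S1054.result chevE6 (by simp)).1
  have hM := Cfsg.Agent.S2105.result (F := F) rfl
  have hPD : PD ↥(chevE6.group F) (Nat.card F ^ 4) :=
    PD_group (by simp) p (fun L _ _ π hπ => hmul_gcd hp hn hq hM L π hπ)
      (z := 71) (b := ![46, 47, 48, 49]) (g := ![70, 69, 68, 67]) (c := ![1, -1, 1, -1])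
      (by decide +kernel) (by intro i; fin_cases i <;> simp) (by decide +kernel) (by decide +kernel) (by decide +kernel)
  have hq2 : 2 ≤ Fintype.card F := Fintype.one_lt_card
  generalize hQ : Fintype.card F = Q at hq2 hq hM
  have hg0 : 0 < Nat.gcd 3 (Q - 1) := Nat.gcd_pos_of_pos_left _ (by norm_num)
  have hg3 : Nat.gcd 3 (Q - 1) ≤ 3 := Nat.gcd_le_left _ (by norm_num)
  have h3 : 8 ≤ Q ^ 3 := by
    calc 8 = 2 ^ 3 := by norm_num
      _ ≤ Q ^ 3 := Nat.pow_le_pow_left hq2 3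
  have h6 : 8 * Q ^ 3 ≤ Q ^ 6 := by
    calc 8 * Q ^ 3 ≤ Q ^ 3 * Q ^ 3 := Nat.mul_le_mul_right _ h3
      _ = Q ^ 6 := by ring
  obtain ⟨x, hx⟩ := exists_of_exact (m := (Q ^ 6 + Q ^ 3 + 1) / Nat.gcd 3 (Q - 1)) (by
      have : 6 / 3 ≤ (Q ^ 6 + Q ^ 3 + 1) / Nat.gcd 3 (Q - 1) := Nat.div_le_div (by omega) hg3 (by omega)
      omega)
    (exact_E6_9 (F := F) (N := Q ^ 6 + Q ^ 3 + 1) hQ (by push_cast; ring))
  refine Row.of_bound (μ := Nat.gcd 3 (Q - 1)) x hx (fun L _ _ π hπ => Nat.le_of_dvd hg0 (card_ker_dvd hM hπ)) hPD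
    (pow_pos Nat.card_pos _) ?_
  refine (Nat.mul_div_le _ _).trans ?_
  rw [Nat.card_eq_fintype_card, hQ]
  calc Q ^ 6 + Q ^ 3 + 1 ≤ 2 * Q ^ 6 := by omega
    _ ≤ Q ^ 2 * Q ^ 6 := Nat.mul_le_mul_right _ (le_trans hq2 (Nat.le_self_pow (by norm_num) _))
    _ = (Q ^ 4) ^ 2 := by ring

/-- **`F₄(q)`.** -/
theorem row_F4 : Row ↥(chevF4.group F) := by
  obtain ⟨p, hp, hch, n, hn, hq⟩ := char_of F
  have : Fact p.Prime := ⟨hp⟩
  have : IsSimpleGroup ↥(chevF4.group F) := (Cfsg.Agent.S1054.result chevF4 (by simp)).1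
  have hq2 : 2 ≤ Fintype.card F := Fintype.one_lt_card
  have h24 : Fintype.card F ^ 2 ≤ Fintype.card F ^ 4 := Nat.pow_le_pow_right (by omega) (by norm_num)
  have h4 : 2 ≤ Fintype.card F ^ 2 := le_trans hq2 (Nat.le_self_pow (by norm_num) _)
  have h8 : 2 * Fintype.card F ^ 2 ≤ Fintype.card F ^ 4 := by
    calc 2 * Fintype.card F ^ 2 ≤ Fintype.card F ^ 2 * Fintype.card F ^ 2 := Nat.mul_le_mul_right _ h4
      _ = Fintype.card F ^ 4 := by ring
  obtain ⟨x, hx⟩ := exists_of_exact (by omega) (exact_F4_12 (F := F) (N := Fintype.card F ^ 4 - Fintype.card F ^ 2 + 1) rfl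
    (by push_cast [Nat.cast_sub h24]; ring))
  rcases Nat.eq_or_lt_of_le hq2 with h2 | h3
  · -- `F₄(2)`
    have hM := Cfsg.Agent.S2104.result (F := F) h2.symm
    have hcard : Nat.card ↥(chevF4.group F) = 3311126603366400 := by
      rw [Cfsg.Agent.S1062.result (F := F) h2.symm]; norm_num
    have hPD : PD ↥(chevF4.group F) 7 := by
      refine PD.of_prime (not_comm (by rw [hcard]; norm_num)) (by norm_num : Nat.Prime 13) (fun L _ _ π hπ h => ?_) ?_ ?_
        (not_psl (by norm_num) (by norm_num) ?_) (by norm_num)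
      · have := h.trans (card_ker_dvd hM hπ)
        revert this; norm_num
      · rw [hcard]; norm_num
      · rw [hcard]; norm_num
      · rw [hcard]; norm_num
    rw [← h2] at hx
    exact Row.of_bound (μ := 2) x hx (fun L _ _ π hπ => Nat.le_of_dvd (by norm_num) (card_ker_dvd hM hπ)) hPD
      (by norm_num) (by norm_num)
  · have hmul : ∀ (L : Type) [Group L] [Finite L] (π : L →* ↥(chevF4.group F)), PCE π → Nat.card π.ker = 1 :=
      fun L _ _ π hπ => Nat.dvd_one.1 (card_ker_dvd (Cfsg.Agent.S2103.result (F := F) h3) hπ)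
    have hPD : PD ↥(chevF4.group F) (Nat.card F ^ 2) :=
      PD_group (by simp) p (fun L _ _ π hπ h => hp.one_lt.ne' (Nat.dvd_one.1 (hmul L π hπ ▸ h)))
        (z := 47) (b := ![24, 26]) (g := ![46, 45]) (c := ![1, 1])
        (by decide +kernel) (by intro i; fin_cases i <;> simp) (by decide +kernel) (by decide +kernel) (by decide +kernel)
    refine Row.of_bound (μ := 1) x hx (fun L _ _ π hπ => (hmul L π hπ).le) hPD (pow_pos Nat.card_pos _) ?_
    have e : (Fintype.card F ^ 2) ^ 2 = Fintype.card F ^ 4 := by ring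
    rw [Nat.card_eq_fintype_card, one_mul, e]
    omega

/-- **`G₂(q)`, `q > 2`.** -/
theorem row_G2 (hF : 3 ≤ Fintype.card F) : Row ↥(chevG2.group F) := by
  classical
  obtain ⟨p, hp, hch, n, hn, hq⟩ := char_of F
  have : Fact p.Prime := ⟨hp⟩
  have hex : ∃ a : F, a ≠ 0 ∧ a ≠ 1 := by
    by_contra hcon
    push Not at hcon
    have h1 : (Finset.univ : Finset F) ⊆ {0, 1} := by
      intro x _
      by_cases hx : x = 0
      · simp [hx]
      · simp [hcon x hx]
    have h2 := Finset.card_le_card h1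
    have h3 : ({0, 1} : Finset F).card ≤ 2 := Finset.card_le_two
    rw [Finset.card_univ] at h2
    omega
  have : IsSimpleGroup ↥(chevG2.group F) := (Cfsg.Agent.S1055.result hex).1
  obtain ⟨x, hx⟩ := exists_of_cyclic (Nat.succ_pos _) (Cfsg.Agent.S2371.result (F := F) _ rfl hF)
  rcases lt_or_ge (Fintype.card F) 5 with h5 | h5
  · have h34 : Fintype.card F = 3 ∨ Fintype.card F = 4 := by omega
    rcases h34 with h3 | h4
    · have hM := Cfsg.Agent.S2101.result (F := F) h3
      have hcard : Nat.card ↥(chevG2.group F) = 4245696 := by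
        rw [Cfsg.Agent.S1059.result (F := F) h3]; norm_num
      have hPD : PD ↥(chevG2.group F) 7 := by
        refine PD.of_prime (not_comm (by rw [hcard]; norm_num)) (by norm_num : Nat.Prime 13) (fun L _ _ π hπ h => ?_) ?_ ?_
          (not_psl (by norm_num) (by norm_num) ?_) (by norm_num)
        · have := h.trans (card_ker_dvd hM hπ)
          revert this; norm_num
        · rw [hcard]; norm_num
        · rw [hcard]; norm_num
        · rw [hcard]; norm_num
      rw [h3] at hx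
      exact Row.of_bound (μ := 3) x hx (fun L _ _ π hπ => Nat.le_of_dvd (by norm_num) (card_ker_dvd hM hπ)) hPD
        (by norm_num) (by norm_num)
    · have hM := Cfsg.Agent.S2102.result (F := F) h4
      have hcard : Nat.card ↥(chevG2.group F) = 251596800 := by
        rw [Cfsg.Agent.S1059.result (F := F) h4]; norm_num
      have hPD : PD ↥(chevG2.group F) 7 := by
        refine PD.of_prime (not_comm (by rw [hcard]; norm_num)) (by norm_num : Nat.Prime 13) (fun L _ _ π hπ h => ?_) ?_ ?_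
          (not_psl (by norm_num) (by norm_num) ?_) (by norm_num)
        · have := h.trans (card_ker_dvd hM hπ)
          revert this; norm_num
        · rw [hcard]; norm_num
        · rw [hcard]; norm_num
        · rw [hcard]; norm_num
      rw [h4] at hx
      exact Row.of_bound (μ := 2) x hx (fun L _ _ π hπ => Nat.le_of_dvd (by norm_num) (card_ker_dvd hM hπ)) hPD
        (by norm_num) (by norm_num)
  · have hmul : ∀ (L : Type) [Group L] [Finite L] (π : L →* ↥(chevG2.group F)), PCE π → Nat.card π.ker = 1 :=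
      fun L _ _ π hπ => Nat.dvd_one.1 (card_ker_dvd (Cfsg.Agent.S2100.result (F := F) h5) hπ)
    have hnd : ∀ (L : Type) [Group L] [Finite L] (π : L →* ↥(chevG2.group F)), PCE π → ¬ p ∣ Nat.card π.ker :=
      fun L _ _ π hπ h => hp.one_lt.ne' (Nat.dvd_one.1 (hmul L π hπ ▸ h))
    by_cases h3 : p = 3
    · subst h3
      have hPD : PD ↥(chevG2.group F) (Nat.card F ^ 1) :=
        PD_group (by simp) 3 hnd (z := 11) (b := ![6]) (g := ![10]) (c := ![1])
          (by decide +kernel) (by intro i; fin_cases i; simp) (by decide +kernel) (by decide +kernel) (by decide +kernel)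
      have hqq : Fintype.card F ≤ Fintype.card F ^ 2 := Nat.le_self_pow (by norm_num) _
      have h2q : 2 * Fintype.card F ≤ Fintype.card F ^ 2 := by nlinarith
      have h3q : 3 ∣ Fintype.card F := hq ▸ dvd_pow_self 3 hn.ne'
      obtain ⟨y, hy⟩ := exists_of_exact (by omega) (exact_G2_6 (F := F) (N := Fintype.card F ^ 2 - Fintype.card F + 1) rfl
        (by push_cast [Nat.cast_sub hqq]; ring) (by
          intro h
          have h6 : 3 ∣ Fintype.card F ^ 2 - Fintype.card F := Nat.dvd_sub (dvd_pow h3q (by norm_num)) h3q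
          have h7 := (Nat.dvd_add_right h6).1 h
          omega))
      refine Row.of_bound (μ := 1) y hy (fun L _ _ π hπ => (hmul L π hπ).le) hPD (pow_pos Nat.card_pos _) ?_
      rw [Nat.card_eq_fintype_card, one_mul, pow_one]
      omega
    · have hPD : PD ↥(chevG2.group F) (Nat.card F ^ 2) :=
        PD_group (by simp) p hnd (z := 11) (b := ![6, 8]) (g := ![10, 9]) (c := ![1, 3])
          (by decide +kernel) (by
            intro i
            fin_cases i
            · simp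
            · show ((3 : ℤ) : F) ≠ 0
              intro h
              have h6 : ((3 : ℕ) : F) = 0 := by exact_mod_cast h
              rw [CharP.cast_eq_zero_iff F p] at h6
              exact h3 ((Nat.prime_dvd_prime_iff_eq hp Nat.prime_three).1 h6))
          (by decide +kernel) (by decide +kernel) (by decide +kernel)
      refine Row.of_bound (μ := 1) x hx (fun L _ _ π hπ => (hmul L π hπ).le) hPD (pow_pos Nat.card_pos _) ?_
      rw [Nat.card_eq_fintype_card, one_mul]
      nlinarith [Nat.pow_le_pow_left h5 2]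

end Cfsg.Agent.H951.TCRows
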