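import Cfsg.Agent.H951.TCRows
import Cfsg.Agent.S2110
import Cfsg.Agent.S2342

/-!
# Products of two commutators: `³D₄(q)` (helper951)
-/

set_option autoImplicit false

namespace Cfsg.Agent.H951.TCTwD4

open Subgroup Cfsg.Lie Cfsg.Agent.H51.Mult Cfsg.Agent.H253.TC Cfsg.Agent.H951.TCLift Cfsg.Agent.H951.TCData
  Cfsg.Agent.H951.TCRows Cfsg.Agent.H129.CycT

universe u

/-- **`³D₄(q)`.** -/
theorem row {K : Type u} [Field K] [Fintype K] {q : ℕ} (hq : IsPrimePow q) (hK : Fintype.card K = q ^ 3) :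
    Row ↥(twistedD4 K q) := by
  have hmul : ∀ (L : Type) [Group L] [Finite L] (π : L →* ↥(twistedD4 K q)), PCE π → Nat.card π.ker = 1 :=
    fun L _ _ π hπ => Nat.dvd_one.1 (card_ker_dvd (Cfsg.Agent.S2110.result hq hK) hπ)
  have hq2 : 2 ≤ q := hq.two_le
  have h24 : q ^ 2 ≤ q ^ 4 := Nat.pow_le_pow_right (by omega) (by norm_num)
  have h4 : 2 ≤ q ^ 2 := le_trans hq2 (Nat.le_self_pow (by norm_num) _)
  have h8 : 2 * q ^ 2 ≤ q ^ 4 := by
    calc 2 * q ^ 2 ≤ q ^ 2 * q ^ 2 := Nat.mul_le_mul_right _ h4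
      _ = q ^ 4 := by ring
  obtain ⟨x, hx⟩ := exists_of_exact (by omega) (exact_tD4_12 (F := K) (N := q ^ 4 - q ^ 2 + 1) hq hK
    (by push_cast [Nat.cast_sub h24]; ring))
  refine Row.of_bound (μ := 1) x hx (fun L _ _ π hπ => (hmul L π hπ).le)
    (PD_of_irr hmul (Cfsg.Agent.S2342.result q hq hK)) (Nat.mul_pos (by omega) (Nat.succ_pos _)) ?_
  rw [one_mul]
  calc q ^ 4 - q ^ 2 + 1 ≤ q * (q ^ 4 - q ^ 2 + 1) := Nat.le_mul_of_pos_left _ (by omega)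
    _ ≤ (q * (q ^ 4 - q ^ 2 + 1)) ^ 2 := Nat.le_self_pow (by norm_num) _

end Cfsg.Agent.H951.TCTwD4
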