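import Cfsg.Agent.H951.TCRows
import Cfsg.Agent.H121.E6Mem
import Cfsg.Agent.S1066
import Cfsg.Agent.S1070
import Cfsg.Agent.S2108

/-!
# Products of two commutators: `²E₆(q)` (helper951)
-/

set_option autoImplicit false

namespace Cfsg.Agent.H951.TCTwE6

open Subgroup Cfsg.Lie Cfsg.Agent.H51.Mult Cfsg.Agent.H253.TC Cfsg.Agent.H951.TCLift Cfsg.Agent.H951.TCData
  Cfsg.Agent.H951.TCRows Cfsg.Agent.H951.TCChev Cfsg.Agent.H951.TCRankOne Cfsg.Agent.H129.CycT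
open Cfsg.Agent.ChevalleyStructure.Elts
open Cfsg.Agent.H121.HexMin (fx mem_fx coe_fx)

universe u

variable {K : Type u} [Field K] [Fintype K] {q : ℕ}

/-- the positive unipotent subgroup of `²E₆(q)` -/
def UT (K : Type u) [Field K] (q : ℕ) : Subgroup ↥(twistedE6 K q) := (chevE6.posUnipotent K).subgroupOf (twistedE6 K q)

theorem isPGroup_UT (p : ℕ) [Fact p.Prime] [CharP K p] : IsPGroup p ↥(UT K q) := by
  obtain ⟨n, -, hn⟩ := FiniteField.card K p
  have h1 : IsPGroup p ↥(chevE6.posUnipotent K) :=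
    IsPGroup.of_card (n := n * (chevE6.nroots / 2)) (by rw [Cfsg.Agent.S1027.result chevE6 (by simp), hn, pow_mul])
  exact h1.comap_subtype

/-- the degrees, if the prime of the field does not divide the kernels -/
theorem deg (hq : IsPrimePow q) (hK : Fintype.card K = q ^ 2) (p : ℕ) [Fact p.Prime] [CharP K p]
    [IsSimpleGroup ↥(twistedE6 K q)]
    (hmul : ∀ (L : Type) [Group L] [Finite L] (π : L →* ↥(twistedE6 K q)), PCE π → ¬ p ∣ Nat.card π.ker) :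
    PD ↥(twistedE6 K q) (q ^ 4) := by
  obtain ⟨φ, hφ, hqq⟩ := Cfsg.Agent.ChevalleyStructure.TwE6Basic.exists_frob hq hK
  have hφφ : ∀ t, φ (φ t) = t := fun t => by rw [hφ, hφ, hqq]
  let σ : K ≃+* K := RingEquiv.ofBijective φ ⟨φ.injective, fun x => ⟨φ x, hφφ x⟩⟩
  have hσ : ∀ t, σ t = t ^ q := hφ
  have hcard : Nat.card (fx σ) = q :=
    Cfsg.Agent.H121.Quad.card_fx (by rw [Nat.card_eq_fintype_card, hK]) hσ hq.one_lt
  have hD : InList chevE6 := by simp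
  have hm : ∀ {r : ℕ}, Cfsg.Agent.H121.E6M.lo r = true → ∀ t : fx σ, xG hD r (t : K) ∈ twistedE6 K q :=
    fun {r} hr t => Cfsg.Agent.H121.E6M.mem1 hφ hφφ hr t.2
  have hu : ∀ {r : ℕ} (hr : chevE6.IsPosRoot r) (t : fx σ) (h : xG hD r (t : K) ∈ twistedE6 K q),
      (⟨_, h⟩ : ↥(twistedE6 K q)) ∈ UT K q := fun {r} hr t _ => Subgroup.subset_closure ⟨r, t, hr, coe_xG hD r _⟩
  have key := PD_roots hD (F := ↥(fx σ)) (fx σ).subtype (H := twistedE6 K q) (k := 4) (z := 71)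
    (b := ![46, 47, 51, 53]) (g := ![70, 69, 65, 63]) (c := ![1, -1, -1, 1]) (by decide +kernel)
    (by intro i; fin_cases i <;> simp)
    (fun t => hm (by decide +kernel) t)
    (fun i t => hm (by revert i; decide +kernel) t) (fun i t => hm (by revert i; decide +kernel) t)
    (lifts_of_isPGroup (Fact.out : p.Prime) (isPGroup_UT p) hmul) (fun t => hu (by decide +kernel) t _)
    (fun i t => hu (by revert i; decide +kernel) t _) (fun i t => hu (by revert i; decide +kernel) t _) (by decide +kernel)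
  rwa [hcard] at key

/-- **`²E₆(q)`, `q > 2`.** -/
theorem row_gt (hq : IsPrimePow q) (hK : Fintype.card K = q ^ 2) (h2 : q ≠ 2) : Row ↥(twistedE6 K q) := by
  obtain ⟨p, hp, hch, n, hn, hpn⟩ := char_of K
  have : Fact p.Prime := ⟨hp⟩
  have : IsSimpleGroup ↥(twistedE6 K q) := (Cfsg.Agent.S1070.result hq hK).1
  have hM := Cfsg.Agent.S2108.result hq hK h2
  have hpq : p ∣ q := by
    have : p ∣ q ^ 2 := by rw [← hK, hpn]; exact dvd_pow_self p hn.ne'
    exact hp.dvd_of_dvd_pow this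
  have hPD : PD ↥(twistedE6 K q) (q ^ 4) := deg hq hK p fun L _ _ π hπ h => by
    have h1 : p ∣ q + 1 := (h.trans (card_ker_dvd hM hπ)).trans (Nat.gcd_dvd_right _ _)
    exact hp.one_lt.ne' (Nat.dvd_one.1 ((Nat.dvd_add_right hpq).1 h1))
  have hq2 : 2 ≤ q := hq.two_le
  have hg0 : 0 < Nat.gcd 3 (q + 1) := Nat.gcd_pos_of_pos_left _ (by norm_num)
  have hg3 : Nat.gcd 3 (q + 1) ≤ 3 := Nat.gcd_le_left _ (by norm_num)
  have h3 : 8 ≤ q ^ 3 := by
    calc 8 = 2 ^ 3 := by norm_num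
      _ ≤ q ^ 3 := Nat.pow_le_pow_left hq2 3
  have h6 : 8 * q ^ 3 ≤ q ^ 6 := by
    calc 8 * q ^ 3 ≤ q ^ 3 * q ^ 3 := Nat.mul_le_mul_right _ h3
      _ = q ^ 6 := by ring
  have h36 : q ^ 3 ≤ q ^ 6 := by omega
  obtain ⟨x, hx⟩ := exists_of_exact (m := (q ^ 6 - q ^ 3 + 1) / Nat.gcd 3 (q + 1)) (by
      have : 6 / 3 ≤ (q ^ 6 - q ^ 3 + 1) / Nat.gcd 3 (q + 1) := Nat.div_le_div (by omega) hg3 (by omega)
      omega)
    (exact_tE6_18 (F := K) (N := q ^ 6 - q ^ 3 + 1) hq hK (by push_cast [Nat.cast_sub h36]; ring))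
  refine Row.of_bound (μ := Nat.gcd 3 (q + 1)) x hx (fun L _ _ π hπ => Nat.le_of_dvd hg0 (card_ker_dvd hM hπ)) hPD
    (pow_pos (by omega) _) ?_
  refine (Nat.mul_div_le _ _).trans ?_
  calc q ^ 6 - q ^ 3 + 1 ≤ q ^ 6 := by omega
    _ ≤ q ^ 2 * q ^ 6 := Nat.le_mul_of_pos_left _ (pow_pos (by omega) _)
    _ = (q ^ 4) ^ 2 := by ring

end Cfsg.Agent.H951.TCTwE6
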