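import Cfsg.Agent.H951.TCTwE6
import Cfsg.Agent.H253.TwoComm.Fused
import Cfsg.Agent.H253.TwoComm.Norm
import Cfsg.Agent.S2109
import Cfsg.Agent.S2227

/-!
# Products of two commutators: `²E₆(2)` (helper951)

The Sylow `5`-subgroup is elementary abelian of order `25` and all elements of order `5` are conjugate, so the degrees of
the covers are at least `24`; the multiplier has order `12` and there is a self-centralizing cyclic subgroup of order `19`.
-/

set_option autoImplicit false

namespace Cfsg.Agent.H951.TCTwE6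

open Subgroup Cfsg.Lie Cfsg.Agent.H51.Mult Cfsg.Agent.H253.TC Cfsg.Agent.H951.TCRows Cfsg.Agent.H129.CycT

universe u v

/-- a group in which the elements of order `5` are conjugate and one has the centralizer `5 × A₈` -/
theorem exists_fused {G : Type v} [Group G] [Finite G] (h1 : ∀ x y : G, orderOf x = 5 → orderOf y = 5 → IsConj x y)
    (h5 : 5 ∣ Nat.card G) (h2 : ∀ x : G, orderOf x = 5 →
      Nonempty (↥(centralizer ({x} : Set G)) ≃* (Multiplicative (ZMod 5) × ↥(alternatingGroup (Fin 8))))) :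
    ∃ B : Subgroup G, IsPGroup 5 ↥B ∧ Nat.card ↥B = 25 ∧ ∀ a ∈ B, a ≠ 1 → ∀ b ∈ B, b ≠ 1 → IsConj a b := by
  have : Fact (Nat.Prime 5) := ⟨by norm_num⟩
  obtain ⟨x, hx⟩ := exists_prime_orderOf_dvd_card' 5 h5
  obtain ⟨e⟩ := h2 x hx
  have h8 : 5 ∣ Nat.card ↥(alternatingGroup (Fin 8)) := by
    rw [nat_card_alternatingGroup, Nat.card_fin]
    decide
  obtain ⟨c, hc⟩ := exists_prime_orderOf_dvd_card' 5 h8
  let Q : Subgroup (Multiplicative (ZMod 5) × ↥(alternatingGroup (Fin 8))) := (⊤ : Subgroup (Multiplicative (ZMod 5))).prod (zpowers c)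
  let f : Multiplicative (ZMod 5) × ↥(alternatingGroup (Fin 8)) →* G :=
    (centralizer ({x} : Set G)).subtype.comp e.symm.toMonoidHom
  have hf : Function.Injective f := (centralizer ({x} : Set G)).subtype_injective.comp e.symm.injective
  have hQ : Nat.card ↥Q = 25 := by
    rw [Nat.card_congr (Subgroup.prodEquiv _ _).toEquiv, Nat.card_prod, Nat.card_zpowers, hc,
      Nat.card_congr (Subgroup.topEquiv (G := Multiplicative (ZMod 5))).toEquiv, Nat.card_congr Multiplicative.toAdd, Nat.card_zmod]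
  have hB : Nat.card ↥(Q.map f) = 25 := by
    rw [← hQ]
    exact (Nat.card_congr (Q.equivMapOfInjective f hf).toEquiv).symm
  have hpow : ∀ a ∈ Q.map f, a ^ 5 = 1 := by
    rintro _ ⟨⟨a, b⟩, hab, rfl⟩
    rw [← map_pow]
    have hb : b ∈ zpowers c := hab.2
    obtain ⟨i, rfl⟩ := hb
    have e1 : a ^ 5 = 1 := by
      have := pow_card_eq_one' (G := Multiplicative (ZMod 5)) (x := a)
      rwa [Nat.card_congr Multiplicative.toAdd, Nat.card_zmod] at this
    have e2 : ((fun x => c ^ x) i : ↥(alternatingGroup (Fin 8))) ^ 5 = 1 := by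
      show (c ^ i) ^ 5 = 1
      rw [← zpow_natCast, ← zpow_mul, mul_comm, zpow_mul, zpow_natCast, ← hc, pow_orderOf_eq_one, one_zpow]
    rw [Prod.pow_mk, e1, e2]
    exact map_one f
  have hord : ∀ a ∈ Q.map f, a ≠ 1 → orderOf a = 5 := fun a ha ha1 => orderOf_eq_prime (hpow a ha) ha1
  exact ⟨Q.map f, IsPGroup.of_card (n := 2) (by rw [hB]; norm_num), hB,
    fun a ha ha1 b hb hb1 => h1 a b (hord a ha ha1) (hord b hb hb1)⟩

/-- **`²E₆(2)`.** -/
theorem row_two {K : Type u} [Field K] [Fintype K] (hK : Fintype.card K = 2 ^ 2) : Row ↥(twistedE6 K 2) := by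
  have hq : IsPrimePow 2 := Nat.prime_two.isPrimePow
  have hs : IsSimpleGroup ↥(twistedE6 K 2) := (Cfsg.Agent.S1070.result hq hK).1
  have hA := Cfsg.Agent.S2109.result (K := K) (by rw [hK]; norm_num)
  have hcA : Nat.card (Multiplicative (ZMod 3 × ZMod 2 × ZMod 2)) = 12 := by
    rw [Nat.card_congr Multiplicative.toAdd, Nat.card_prod, Nat.card_prod, Nat.card_zmod, Nat.card_zmod]
  obtain ⟨h1, h2⟩ := Cfsg.Agent.S2227.result (K := K) (by rw [hK]; norm_num)
  have h5 : 5 ∣ Nat.card ↥(twistedE6 K 2) := by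
    have h3 := Cfsg.Agent.S1066.result hq hK
    norm_num at h3
    omega
  obtain ⟨B, hB1, hB2, hB3⟩ := exists_fused h1 h5 h2
  have hPD : PD ↥(twistedE6 K 2) 24 :=
    PD.of_fused (p := 5) (by norm_num) (not_dvd_ker hA (by rw [hcA]; norm_num)) B hB1 hB3 (by rw [hB2])
  obtain ⟨x, hx⟩ := exists_of_exact (m := 57 / Nat.gcd 3 (2 + 1)) (by norm_num)
    (exact_tE6_18 (F := K) (N := 57) hq hK (by norm_num))
  exact Row.of_mult hA x (c := 19) (by simpa using hx) hPD (by norm_num) (by rw [hcA]; norm_num)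

/-- **All the groups `²E₆(q)`.** -/
theorem row {K : Type u} [Field K] [Fintype K] {q : ℕ} (hq : IsPrimePow q) (hK : Fintype.card K = q ^ 2) :
    Row ↥(twistedE6 K q) := by
  by_cases h : q = 2
  · subst h
    exact row_two hK
  · exact row_gt hq hK h

end Cfsg.Agent.H951.TCTwE6
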