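import Cfsg.Agent.H951.TCData
import Cfsg.Agent.KFacts.TwF4.CentZ
import Cfsg.Agent.KFacts.TwF4.Full
import Cfsg.Agent.H129.CycRow
import Cfsg.Agent.H228.RegCent
import Cfsg.Agent.S1068
import Cfsg.Agent.S1072
import Cfsg.Agent.S2114

/-!
# `²F₄(q)`: degrees `≥ q²`, and an element with centralizer of order `≤ q⁴ - q² + 1` (helper951)
-/

set_option autoImplicit false

namespace Cfsg.Agent.H951.TCTwF4

open Subgroup Cfsg.Lie Cfsg.Agent.H51.Mult Cfsg.Agent.H253.TC Cfsg.Agent.H951.TCLift Cfsg.Agent.H951.TCData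
  Cfsg.Agent.KFacts.TwF4

universe u v

section Deg

variable {F : Type u} [Field F] {σ : F →+* F} {G : Type v} [Group G] (S : Full σ G)

include S in
theorem char2 (x : F) : x + x = 0 := by
  have := S.two
  linear_combination x * this

theorem o_zero (a : ZMod 8) : S.o a 0 = 1 := by
  have h := S.o_add a 0 0
  rw [add_zero] at h
  exact mul_eq_left.1 h

theorem e_zero (a : ZMod 8) : S.e a 0 0 = 1 := by
  have h := S.e_mul a 0 0 0 0
  simp only [add_zero, zero_mul] at h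
  exact mul_eq_left.1 h

theorem z_add (a : ZMod 8) (s t : F) : S.e a 0 (s + t) = S.e a 0 s * S.e a 0 t := by
  rw [S.e_mul, add_zero, zero_mul, add_zero]

theorem z_inv (a : ZMod 8) (s : F) : (S.e a 0 s)⁻¹ = S.e a 0 s := by
  rw [inv_eq_iff_mul_eq_one, ← z_add, char2 S, e_zero]

theorem z_z1 (a : ZMod 8) (s t : F) : S.e a 0 s * S.e (a + 1) 0 t = S.e (a + 1) 0 t * S.e a 0 s := by
  rw [S.e_e1, zero_mul, o_zero, mul_one]

include S in
theorem deg [Finite F] [IsSimpleGroup G]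
    (hmul : ∀ (L : Type) [Group L] [Finite L] (π : L →* G), PCE π → Nat.card π.ker = 1) : PD G (Nat.card F ^ 2) := by
  refine PD_of_heis (lifts_of_trivial ⊤ hmul) 2 (fun t => S.e 2 0 t) ![fun t => S.e 1 0 t, fun t => S.e 3 0 t]
    ![fun t => S.o 3 t, fun t => S.o 0 t] (fun _ => 1) (fun _ => mem_top _) (fun _ _ => mem_top _) (fun _ _ => mem_top _)
    (fun _ => one_ne_zero) (fun s t => z_add S 2 s t) ?_ ?_ ?_ ?_ ?_ ?_ ?_
  · intro i s t
    fin_cases i
    · exact z_add S 1 s t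
    · exact z_add S 3 s t
  · intro i s t
    fin_cases i
    · exact (z_z1 S 1 t s).symm
    · exact z_z1 S 2 s t
  · intro i j hij s t
    fin_cases i <;> fin_cases j
    · exact absurd rfl hij
    · exact S.e_e2 1 0 s 0 t
    · exact (S.e_e2 1 0 t 0 s).symm
    · exact absurd rfl hij
  · intro i s t
    fin_cases i
    · have h := S.e_o1 2 0 t s
      rw [zero_mul, e_zero, mul_one] at h
      exact h.symm
    · have h := S.o_e2 0 s 0 t
      rw [mul_zero, e_zero, mul_one] at h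
      exact h
  · intro i j hij s t
    fin_cases i <;> fin_cases j
    · exact absurd rfl hij
    · exact (S.e_o0 3 0 t s).symm
    · exact S.o_e1 0 s 0 t
    · exact absurd rfl hij
  · intro i s t
    fin_cases i
    · have h := S.e_o2 1 0 t s
      simp only [zero_mul, zero_add, map_zero, e_zero, o_zero, mul_one] at h
      show S.e 1 0 t * S.o 3 s = S.o 3 s * (S.e 1 0 t * S.e 2 0 (1 * s * t))
      rw [one_mul, mul_comm s t, ← mul_assoc]
      exact h
    · have h := S.o_e3 0 s 0 t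
      simp only [mul_zero, zero_add, map_zero, e_zero, o_zero, mul_one] at h
      show S.e 3 0 t * S.o 0 s = S.o 0 s * (S.e 3 0 t * S.e 2 0 (1 * s * t))
      rw [one_mul, ← mul_assoc, ← mul_inv_eq_iff_eq_mul, z_inv]
      have h2 : S.o 0 s * S.e 2 0 (s * t) = S.e 2 0 (s * t) * S.o 0 s := by
        have h := S.o_e2 0 s 0 (s * t)
        rw [mul_zero, e_zero, mul_one] at h
        exact h
      exact h.symm
  · refine ⟨1, fun h => ?_⟩
    have h1 := S.injE 2 0 1 0 0 (h.trans (e_zero S 2).symm)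
    exact one_ne_zero h1.2

end Deg

/-- the order of `²F₄(q)` is divisible by the prime divisors of `q⁴ - q² + 1` -/
theorem dvd_card {q r N : ℕ} (hN : (N : ℤ) = 1 - (q : ℤ) ^ 2 + (q : ℤ) ^ 4) (hr : r ∣ N) :
    r ∣ q ^ 12 * (q - 1) * (q ^ 3 + 1) * (q ^ 4 - 1) * (q ^ 6 + 1) := by
  have h1 : q ^ 6 + 1 = (q ^ 2 + 1) * N := by
    have : ((q ^ 6 + 1 : ℕ) : ℤ) = (((q ^ 2 + 1) * N : ℕ) : ℤ) := by
      push_cast
      rw [hN]
      ring
    exact_mod_cast this
  rw [h1]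
  exact dvd_mul_of_dvd_right (dvd_mul_of_dvd_right hr _) _

variable {K : Type u} [Field K] [Fintype K]

/-- **`²F₄(q)`, `q > 2`.** -/
theorem row {m : ℕ} (hm : 1 ≤ m) (hK : Fintype.card K = 2 ^ (2 * m + 1)) : Row ↥(twistedF4 K (2 ^ m)) := by
  obtain ⟨φ, hφ⟩ := Cfsg.Agent.ChevalleyStructure.TwF4.TwistedFix.exists_rln hK
  have := Cfsg.Agent.ChevalleyStructure.TwF4.Twisted.charP_two hK
  have : IsSimpleGroup ↥(twistedF4 K (2 ^ m)) := (Cfsg.Agent.S1072.result hm hK).1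
  set q := 2 ^ (2 * m + 1)
  have hq8 : 2 ≤ q := by
    calc 2 = 2 ^ 1 := by norm_num
      _ ≤ 2 ^ (2 * m + 1) := Nat.pow_le_pow_right (by norm_num) (by omega)
  have h24 : q ^ 2 ≤ q ^ 4 := Nat.pow_le_pow_right (by omega) (by norm_num)
  have hN : ((q ^ 4 - q ^ 2 + 1 : ℕ) : ℤ) = 1 - (q : ℤ) ^ 2 + (q : ℤ) ^ 4 := by
    push_cast [Nat.cast_sub h24]; ring
  have h4 : 4 ≤ q ^ 2 := by nlinarith
  have h1 : q ^ 4 - q ^ 2 + 1 ≠ 1 := by
    have h2 : q ^ 4 = q ^ 2 * q ^ 2 := by ring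
    have h3 : 2 * q ^ 2 ≤ q ^ 4 := by rw [h2]; exact Nat.mul_le_mul_right _ (by omega)
    omega
  obtain ⟨r, hr, hrN⟩ := Nat.exists_prime_and_dvd h1
  have hcard : r ∣ Nat.card ↥(twistedF4 K (2 ^ m)) := by
    rw [Cfsg.Agent.S1068.result hK]
    exact dvd_card hN hrN
  have hle : twistedF4 K (2 ^ m) ≤ chevF4.group K :=
    Cfsg.Agent.H228.RegUnip.genSubgroup_le (by simp) _
  have hex := Cfsg.Agent.H129.CycT.exact_F4_12 (F := K) (q := q) (by rw [hK]) hN
  have hmul : ∀ (L : Type) [Group L] [Finite L] (π : L →* ↥(twistedF4 K (2 ^ m))), PCE π → Nat.card π.ker = 1 :=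
    fun L _ _ π hπ => Nat.dvd_one.1 (card_ker_dvd (Cfsg.Agent.S2114.result hm hK) hπ)
  refine row_of_prime (c := q ^ 4 - q ^ 2 + 1) (mu := 1) (D := Nat.card K ^ 2) hr hcard (fun x hx => ?_)
    (fun L _ _ π hπ => (hmul L π hπ).le) (deg (Cfsg.Agent.KFacts.TwF4.Inst.full hK hφ) hmul) (pow_pos Nat.card_pos 2) ?_
  · refine (card_centralizer_le_of_injective (Subgroup.inclusion hle) (Subgroup.inclusion_injective hle) x).trans ?_
    rw [Cfsg.Agent.H129.CycT.CycExact.card_centralizer hr hrN hex]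
    rw [← hx]
    exact orderOf_injective _ (Subgroup.inclusion_injective hle) x
  · rw [Nat.card_eq_fintype_card, hK]
    have h5 : (q ^ 2) ^ 2 = q ^ 4 := by ring
    rw [h5]
    omega

end Cfsg.Agent.H951.TCTwF4
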