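import Cfsg.Agent.H951.Step
/-!
# Totally isotropic invariant subspaces (symplectic case) via Chevalley–Warning
-/

set_option autoImplicit false
set_option linter.unusedSectionVars false
set_option linter.unusedVariables false

namespace Cfsg.Agent.H951

open Module Polynomial

variable {F V : Type*} [Field F] [AddCommGroup V] [Module F V] [FiniteDimensional F V]
variable {σ : F →+* F} {ε : F} {B : V → V → F} {U W : Submodule F V} {x : Module.End F V} {r : ℕ}

/-- Common isotropic vectors of few quadratic forms `v ↦ B(v, g v)`. -/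
theorem exists_common_isotropic [Fintype F] (hB : Frm (RingHom.id F) ε B) {n : ℕ} (hn : 2 * n < finrank F U)
    (g : Fin n → Module.End F V) : ∃ v ∈ U, v ≠ 0 ∧ ∀ k, B v (g k v) = 0 := by
  classical
  obtain ⟨p, hp⟩ := CharP.exists F
  have hpP : p.Prime := (FiniteField.card F p).choose_spec.1
  set N := finrank F U with hN
  let b := finBasis F U
  let f : Fin n → MvPolynomial (Fin N) F := fun k =>
    ∑ a, ∑ c, MvPolynomial.C (B (b a : V) (g k (b c : V))) * (MvPolynomial.X a * MvPolynomial.X c)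
  let vec : (Fin N → F) → V := fun t => ∑ a, t a • (b a : V)
  have hvec : ∀ t, vec t ∈ U := fun t => U.sum_mem fun a _ => U.smul_mem _ (b a).2
  have heval : ∀ k t, MvPolynomial.eval t (f k) = B (vec t) (g k (vec t)) := by
    intro k t
    show MvPolynomial.eval t (∑ a, ∑ c, MvPolynomial.C (B (b a : V) (g k (b c : V))) *
      (MvPolynomial.X a * MvPolynomial.X c)) = B (∑ a, t a • (b a : V)) (g k (∑ a, t a • (b a : V)))
    rw [map_sum, hB.sum_left]
    refine Finset.sum_congr rfl fun a _ => ?_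
    rw [map_sum, map_sum, hB.sum_right]
    refine Finset.sum_congr rfl fun c _ => ?_
    rw [map_smul, hB.smul_left, hB.smul_right, RingHom.id_apply, map_mul, map_mul, MvPolynomial.eval_C,
      MvPolynomial.eval_X, MvPolynomial.eval_X]
    ring
  have hdeg : ∀ k, (f k).totalDegree ≤ 2 := by
    intro k
    refine MvPolynomial.totalDegree_finsetSum_le fun a _ => MvPolynomial.totalDegree_finsetSum_le fun c _ => ?_
    refine (MvPolynomial.totalDegree_mul _ _).trans ?_
    rw [MvPolynomial.totalDegree_C, zero_add]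
    refine (MvPolynomial.totalDegree_mul _ _).trans ?_
    rw [MvPolynomial.totalDegree_X, MvPolynomial.totalDegree_X]
  have hsum : (∑ k ∈ (Finset.univ : Finset (Fin n)), (f k).totalDegree) < Fintype.card (Fin N) := by
    calc (∑ k ∈ (Finset.univ : Finset (Fin n)), (f k).totalDegree) ≤ ∑ k ∈ (Finset.univ : Finset (Fin n)), 2 :=
          Finset.sum_le_sum fun k _ => hdeg k
      _ = 2 * n := by simp [mul_comm]
      _ < Fintype.card (Fin N) := by rw [Fintype.card_fin]; exact hn
  have hdvd := char_dvd_card_solutions_of_sum_lt p hsum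
  have h0 : ∀ k ∈ (Finset.univ : Finset (Fin n)), MvPolynomial.eval (0 : Fin N → F) (f k) = 0 := by
    intro k _
    rw [heval]
    have : vec 0 = 0 := by simp [vec]
    rw [this, map_zero, hB.zero_left]
  let z : {t : Fin N → F // ∀ k ∈ (Finset.univ : Finset (Fin n)), MvPolynomial.eval t (f k) = 0} := ⟨0, h0⟩
  have hcard : 1 < Fintype.card {t : Fin N → F // ∀ k ∈ (Finset.univ : Finset (Fin n)), MvPolynomial.eval t (f k) = 0} := by
    have hpos : 0 < Fintype.card {t : Fin N → F // ∀ k ∈ (Finset.univ : Finset (Fin n)), MvPolynomial.eval t (f k) = 0} :=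
      Fintype.card_pos_iff.2 ⟨z⟩
    exact lt_of_lt_of_le hpP.one_lt (Nat.le_of_dvd hpos (by convert hdvd))
  obtain ⟨t, ht⟩ := Fintype.exists_ne_of_one_lt_card hcard z
  refine ⟨vec t.1, hvec _, ?_, fun k => ?_⟩
  · intro h
    apply ht
    apply Subtype.ext
    have h1 : ((∑ a, t.1 a • b a : U) : V) = 0 := by
      rw [Submodule.coe_sum]
      exact h
    have h2 : ∑ a, t.1 a • b a = 0 := Subtype.ext h1
    funext a
    exact Fintype.linearIndependent_iff.1 b.linearIndependent t.1 h2 a
  · rw [← heval]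
    exact t.2 k (Finset.mem_univ k)

/-- The cyclic subspace of `v` is totally isotropic if `B(v, x^k v) = 0` for all `k`. -/
lemma exists_ti_cyc (hB : Frm σ ε B) (hx : Isom B x) (hU : Inv x U) {v : V} (hv : v ∈ U) (hv0 : v ≠ 0)
    (h : ∀ k : ℕ, B v ((x ^ k) v) = 0) : ∃ C ≤ U, Inv x C ∧ C ≠ ⊥ ∧ TI B C := by
  refine ⟨Submodule.span F (Set.range fun k : ℕ => (x ^ k) v), ?_, ?_, ?_, ?_⟩
  · rw [Submodule.span_le]
    rintro _ ⟨k, rfl⟩
    exact hU.pow k v hv
  · intro w hw
    induction hw using Submodule.span_induction with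
    | mem w hw =>
      obtain ⟨k, rfl⟩ := hw
      apply Submodule.subset_span
      exact ⟨k + 1, by simp only; rw [pow_succ', Module.End.mul_apply]⟩
    | zero => rw [map_zero]; exact Submodule.zero_mem _
    | add a b _ _ ha hb => rw [map_add]; exact Submodule.add_mem _ ha hb
    | smul t a _ ha => rw [map_smul]; exact Submodule.smul_mem _ t ha
  · intro h0
    have h1 : v ∈ Submodule.span F (Set.range fun k : ℕ => (x ^ k) v) := Submodule.subset_span ⟨0, by simp⟩
    rw [h0, Submodule.mem_bot] at h1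
    exact hv0 h1
  · have key : ∀ a b : ℕ, B ((x ^ a) v) ((x ^ b) v) = 0 := by
      intro a b
      rcases le_total a b with hab | hab
      · obtain ⟨c, rfl⟩ := Nat.exists_eq_add_of_le hab
        rw [pow_add, Module.End.mul_apply, hx.pow a]
        exact h c
      · obtain ⟨c, rfl⟩ := Nat.exists_eq_add_of_le hab
        rw [pow_add, Module.End.mul_apply, hx.pow b]
        exact hB.eq_zero_comm.1 (h c)
    intro w hw w' hw'
    induction hw using Submodule.span_induction with
    | mem w hw =>
      obtain ⟨a, rfl⟩ := hw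
      induction hw' using Submodule.span_induction with
      | mem w' hw' => obtain ⟨b, rfl⟩ := hw'; exact key a b
      | zero => exact hB.zero_right _
      | add s t _ _ hs ht => rw [hB.add_right, hs, ht, add_zero]
      | smul c t _ ht => rw [hB.smul_right, ht, mul_zero]
    | zero => exact hB.zero_left _
    | add s t _ _ hs ht => rw [hB.add_left, hs, ht, add_zero]
    | smul c t _ ht => rw [hB.smul_left, ht, mul_zero]

/-- Extension of totally isotropic invariant subspaces. -/
theorem exists_ti_of_step (hB : Frm σ ε B) (hss : x.IsSemisimple) (hperp : ∀ W, Inv x W → Inv x (hB.perp W)) {D : ℕ}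
    {T : Submodule F V} (step : ∀ U ≤ T, Inv x U → Nd B U → D < finrank F U → ∃ C ≤ U, Inv x C ∧ C ≠ ⊥ ∧ TI B C)
    (hUT : U ≤ T) (hU : Inv x U) (hUn : Nd B U) : ∃ W ≤ U, Inv x W ∧ TI B W ∧ finrank F U ≤ 2 * finrank F W + D := by
  induction hn : finrank F U using Nat.strong_induction_on generalizing U with
  | _ n ih =>
    by_cases hD : n ≤ D
    · exact ⟨⊥, bot_le, inv_bot, ti_bot hB, by omega⟩
    obtain ⟨C, hCU, hC, hC0, hCt⟩ := step U hUT hU hUn (by omega)
    have hCle : C ≤ hB.perp C ⊓ U := le_inf (hB.ti_iff.1 hCt) hCU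
    obtain ⟨U', hU', hU'le, h1, h2⟩ := exists_rel_compl hss hC ((hperp C hC).inf hU) hCle
    obtain ⟨hn1, hn2, hn3, hn4⟩ := nd_compl_ti hB hUn hCU hCt h1 h2
    have hCpos : 0 < finrank F C := by
      rw [Nat.pos_iff_ne_zero]
      exact fun h => hC0 (Submodule.finrank_eq_zero.1 h)
    obtain ⟨W', hW'U, hW', hW't, hd⟩ := ih (finrank F U') (by omega) (hn3.trans hUT) hU' hn1 rfl
    refine ⟨W' ⊔ C, sup_le (hW'U.trans hn3) hCU, hW'.sup hC, ti_sup hB hW't hCt (hW'U.trans hn2), ?_⟩
    have h3 : W' ⊓ C = ⊥ := by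
      rw [eq_bot_iff, ← h1]
      exact fun v hv => ⟨hv.2, hW'U hv.1⟩
    rw [finrank_sup_of_disj h3]
    omega

/-- The Chevalley–Warning step for `x^r = 1`, `r` odd. -/
lemma step_cw [Fintype F] (hB : Frm (RingHom.id F) ε B) (ha : ∀ v, B v v = 0) (hx : Isom B x) (hr : Odd r)
    (hxr : x ^ r = 1) (U : Submodule F V) (hU : Inv x U) (h : r - 1 < finrank F U) :
    ∃ C ≤ U, Inv x C ∧ C ≠ ⊥ ∧ TI B C := by
  obtain ⟨s, hs⟩ := hr
  obtain ⟨v, hv, hv0, hk⟩ := exists_common_isotropic hB (U := U) (n := s) (by omega) (fun k => x ^ ((k : ℕ) + 1))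
  refine exists_ti_cyc hB hx hU hv hv0 ?_
  have hmod : ∀ k : ℕ, (x ^ k) v = (x ^ (k % r)) v := by
    intro k
    conv_lhs => rw [← Nat.div_add_mod k r, pow_add, pow_mul, hxr, one_pow, one_mul]
  intro k
  rw [hmod]
  have hlt : k % r < r := Nat.mod_lt _ (by omega)
  set l := k % r with hl
  rcases Nat.eq_zero_or_pos l with h0 | hpos
  · rw [h0]; exact ha v
  by_cases hle : l ≤ s
  · have := hk ⟨l - 1, by omega⟩
    simp only at this
    rwa [Nat.sub_add_cancel hpos] at this
  · have h1 := hk ⟨r - l - 1, by omega⟩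
    simp only at h1
    have h2 : r - l - 1 + 1 = r - l := by omega
    rw [h2] at h1
    -- B v (x^l v) = B (x^{r-l} v) v
    have h3 := hx.pow (r - l) v ((x ^ l) v)
    rw [← Module.End.mul_apply (x ^ (r - l)) (x ^ l), ← pow_add, Nat.sub_add_cancel hlt.le, hxr] at h3
    change B ((x ^ (r - l)) v) v = _ at h3
    rw [← h3]
    exact hB.eq_zero_comm.1 h1

end Cfsg.Agent.H951
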