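import Cfsg.Agent.H951.Move
import Cfsg.Agent.ClassicalGeometry.GUBasic
import Cfsg.Agent.S0277
import Cfsg.Agent.S0284
import Cfsg.Agent.S0837
/-!
# The unitary space `F^n`, `|F| = q^2`
-/

set_option autoImplicit false
set_option linter.unusedSectionVars false
set_option linter.unusedVariables false

namespace Cfsg.Agent.H951

open Module Polynomial Cfsg

variable {F : Type*} [Field F] [Fintype F] {q n : ℕ}

theorem exists_sig (hF : Fintype.card F = q ^ 2) :
    ∃ σ : F →+* F, (∀ a, σ a = a ^ q) ∧ (∀ a, σ (σ a) = a) ∧ σ ≠ RingHom.id F := by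
  obtain ⟨σ, hσ⟩ := ClassicalGeometry.GUBasic.exists_powHom hF
  have hq := ClassicalGeometry.GUBasic.two_le hF
  refine ⟨σ, hσ, fun a => ?_, fun h => ?_⟩
  · rw [hσ, hσ, ← pow_mul, ← pow_two, ← hF, FiniteField.pow_card]
  · -- x^q = x for all x
    classical
    have h1 : ∀ x : F, x ^ q = x := fun x => by rw [← hσ, h]; rfl
    have h2 := FiniteField.X_pow_card_sub_X_natDegree_eq F (p := q) (by omega)
    have h3 : (X ^ q - X : F[X]) ≠ 0 := FiniteField.X_pow_card_sub_X_ne_zero F (by omega)
    have h4 : (Finset.univ : Finset F).val ≤ (X ^ q - X : F[X]).roots := by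
      rw [Multiset.le_iff_subset Finset.univ.nodup]
      intro x _
      rw [mem_roots h3]
      simp [h1 x]
    have h5 := Multiset.card_le_card h4
    have h6 := card_roots' (X ^ q - X : F[X])
    rw [h2] at h6
    have h7 : Fintype.card F ≤ q := by
      have : Multiset.card (Finset.univ : Finset F).val = Fintype.card F := rfl
      omega
    rw [hF] at h7
    nlinarith

lemma frm_herm {σ : F →+* F} (hσ : ∀ a, σ a = a ^ q) (h2 : ∀ a, σ (σ a) = a) (n : ℕ) :
    Frm σ 1 (hermForm n F q) where
  add_left u v w := by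
    simp only [hermForm, Pi.add_apply, add_mul, Finset.sum_add_distrib]
  smul_left a u v := by
    simp only [hermForm, Pi.smul_apply, smul_eq_mul, mul_assoc, Finset.mul_sum]
  herm u v := by
    simp only [hermForm, map_sum, map_mul, one_mul]
    refine Finset.sum_congr rfl fun i _ => ?_
    rw [← hσ (v i), h2, hσ (u i), mul_comm]
  sigma_sq := h2
  eps_ne := one_ne_zero

lemma kind_herm {σ : F →+* F} (hne : σ ≠ RingHom.id F) (n : ℕ) : Kind σ 1 (hermForm n F q) := Or.inl ⟨hne, rfl⟩

lemma herm_single_right (hq : q ≠ 0) (u : Fin n → F) (i : Fin n) : hermForm n F q u (Pi.single i 1) = u i := by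
  classical
  rw [hermForm, Finset.sum_eq_single i]
  · simp
  · intro j _ hj
    rw [Pi.single_eq_of_ne hj, zero_pow hq, mul_zero]
  · intro h; exact absurd (Finset.mem_univ i) h

lemma nd_herm (hq : q ≠ 0) : Nd (hermForm n F q) (⊤ : Submodule F (Fin n → F)) := by
  intro u _ hu
  obtain ⟨i, hi⟩ := Function.ne_iff.1 hu
  exact ⟨Pi.single i 1, trivial, by rwa [herm_single_right hq]⟩

/-! ### numerics -/

lemma neg_pow_eq_one_iff {r : ℕ} [Fact r.Prime] (hr2 : r ≠ 2) {g : ZMod r} {i c : ℕ} (hi : i = orderOf g)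
    (hi0 : 0 < i)
    (hc : c = if i % 4 = 0 then i else if i % 4 = 2 then i / 2 else 2 * i) (k : ℕ) :
    (-g) ^ k = 1 ↔ c ∣ k := by
  have h1ne : (-1 : ZMod r) ≠ 1 := by
    intro h
    have h2 : ((2 : ℕ) : ZMod r) = 0 := by push_cast; linear_combination -h
    rw [ZMod.natCast_eq_zero_iff] at h2
    exact hr2 ((Nat.prime_dvd_prime_iff_eq Fact.out Nat.prime_two).1 h2)
  have hpow : ∀ m, g ^ m = 1 ↔ i ∣ m := fun m => by rw [hi, orderOf_dvd_iff_pow_eq_one]
  rcases Nat.even_or_odd k with hk | hk
  · rw [hk.neg_pow, hpow]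
    obtain ⟨l, hl⟩ := hk
    rw [hc]
    split_ifs with h4 h2
    · rfl
    · -- i ≡ 2 mod 4 : i/2 odd
      obtain ⟨j, hj⟩ : ∃ j, i = 2 * j := ⟨i / 2, by omega⟩
      have hjo : Nat.Coprime 2 j := by
        rw [Nat.coprime_two_left, Nat.odd_iff]; omega
      have : i / 2 = j := by omega
      rw [this, hj]
      constructor
      · exact fun h => (Dvd.intro_left 2 rfl).trans h
      · intro h
        exact Nat.Coprime.mul_dvd_of_dvd_of_dvd hjo ⟨l, by omega⟩ h
    · have hio : Nat.Coprime 2 i := by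
        rw [Nat.coprime_two_left, Nat.odd_iff]; omega
      constructor
      · intro h; exact Nat.Coprime.mul_dvd_of_dvd_of_dvd hio ⟨l, by omega⟩ h
      · exact fun h => (Dvd.intro_left 2 rfl).trans h
  · rw [hk.neg_pow]
    have hk' : k % 2 = 1 := Nat.odd_iff.1 hk
    constructor
    · intro h
      have h3 : g ^ k = -1 := by linear_combination -h
      have h4 : g ^ (2 * k) = 1 := by rw [mul_comm, pow_mul, h3]; ring
      rw [hpow] at h4
      have h5 : ¬ i ∣ k := by
        rw [← hpow, h3]; exact h1ne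
      have hie : i % 2 = 0 := by
        by_contra hodd
        apply h5
        have : Nat.Coprime i 2 := by rw [Nat.coprime_two_right, Nat.odd_iff]; omega
        exact this.dvd_of_dvd_mul_left h4
      obtain ⟨j, hj⟩ : ∃ j, i = 2 * j := ⟨i / 2, by omega⟩
      rw [hj] at h4
      have hjk : j ∣ k := Nat.dvd_of_mul_dvd_mul_left two_pos h4
      have hjo : j % 2 = 1 := by
        by_contra hje
        obtain ⟨t, rfl⟩ := hjk
        have : j * t % 2 = 0 := by
          rw [Nat.mul_mod]
          have : j % 2 = 0 := by omega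
          rw [this]; simp
        omega
      have h6 : i % 4 = 2 := by omega
      rw [hc, if_neg (by omega), if_pos h6, hj]
      simpa using hjk
    · intro h
      rw [hc] at h
      split_ifs at h with h4 h2
      · exfalso
        obtain ⟨t, ht⟩ := h
        have : i * t % 2 = 0 := by
          rw [Nat.mul_mod]
          have : i % 2 = 0 := by omega
          rw [this]; simp
        omega
      · obtain ⟨j, hj⟩ : ∃ j, i = 2 * j := ⟨i / 2, by omega⟩
        have hij : i / 2 = j := by omega
        rw [hij] at h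
        have h7 : g ^ j = -1 := by
          have h8 : (g ^ j) ^ 2 = 1 := by rw [← pow_mul, mul_comm, ← hj, hpow]
          have h9 : (g ^ j - 1) * (g ^ j + 1) = 0 := by linear_combination h8
          rcases mul_eq_zero.1 h9 with h | h
          · exfalso
            have : g ^ j = 1 := by linear_combination h
            rw [hpow] at this
            have := Nat.le_of_dvd (by omega) this
            omega
          · linear_combination h
        obtain ⟨t, rfl⟩ := h
        rw [pow_mul, h7]
        have ht : Odd t := (Nat.odd_mul.1 hk).2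
        rw [ht.neg_one_pow, neg_neg]
      · exfalso
        obtain ⟨t, ht⟩ := h
        rw [mul_assoc] at ht
        omega

/-- `r` divides `q^k - (-1)^k` iff `c ∣ k`. -/
lemma dvd_iff_c {r : ℕ} [Fact r.Prime] (hr2 : r ≠ 2) {i c : ℕ} (hq : 0 < q) (hi : i = orderOf (q : ZMod r))
    (hi0 : 0 < i) (hc : c = if i % 4 = 0 then i else if i % 4 = 2 then i / 2 else 2 * i) {k : ℕ} (hk : 0 < k) :
    (r ∣ if Even k then q ^ k - 1 else q ^ k + 1) ↔ c ∣ k := by
  rw [← neg_pow_eq_one_iff hr2 hi hi0 hc k]
  rw [← ZMod.natCast_eq_zero_iff]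
  split_ifs with he
  · rw [he.neg_pow, Nat.cast_sub (Nat.one_le_pow _ _ hq)]
    push_cast
    rw [sub_eq_zero]
  · rw [Nat.not_even_iff_odd] at he
    rw [he.neg_pow]
    push_cast
    constructor
    · intro h; linear_combination -h
    · intro h; linear_combination -h

/-- The order of `q^2` modulo `r`. -/
lemma ord_sq {r : ℕ} [Fact r.Prime] {i : ℕ} (hF : Fintype.card F = q ^ 2) (hi : i = orderOf (q : ZMod r))
    (hi0 : 0 < i) : orderOf (Fintype.card F : ZMod r) = if Even i then i / 2 else i := by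
  rw [hF]
  push_cast
  have h1 : orderOf ((q : ZMod r) ^ 2) = i / Nat.gcd i 2 := by rw [hi, orderOf_pow' _ two_ne_zero]
  rw [h1]
  split_ifs with he
  · obtain ⟨j, hj⟩ := he
    have : Nat.gcd i 2 = 2 := Nat.gcd_eq_right ⟨j, by omega⟩
    rw [this]
  · have : Nat.gcd i 2 = 1 := by
      rw [Nat.not_even_iff_odd] at he
      exact Nat.coprime_two_right.2 he
    rw [this, Nat.div_one]

lemma blockNum_unitary {r : ℕ} [Fact r.Prime] (hr2 : r ≠ 2) {σ : F →+* F} (hσ : ∀ a, σ a = a ^ q)
    (h2 : ∀ a, σ (σ a) = a) {p : ℕ} [Fact p.Prime] [CharP F p] (hF : Fintype.card F = q ^ 2) {i c : ℕ}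
    (hi : i = orderOf (q : ZMod r)) (hi0 : 0 < i)
    (hc : c = if i % 4 = 0 then i else if i % 4 = 2 then i / 2 else 2 * i) :
    BlockNum σ p r (orderOf (Fintype.card F : ZMod r)) c := by
  have hq := ClassicalGeometry.GUBasic.two_le hF
  rw [ord_sq hF hi hi0]
  by_cases h4 : i % 4 = 2
  · right
    have hc' : c = i / 2 := by rw [hc, if_neg (by omega), if_pos h4]
    refine ⟨by rw [hc', if_pos (Nat.even_iff.2 (by omega))], ?_⟩
    -- q = p^e
    obtain ⟨m, hpp, hm⟩ := FiniteField.card F p
    have hqp : ∃ e, q = p ^ e := by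
      have : q ∣ p ^ (m : ℕ) := by rw [← hm, hF]; exact Dvd.intro_left q (pow_two q).symm
      obtain ⟨e, -, he⟩ := (Nat.dvd_prime_pow hpp).1 this
      exact ⟨e, he⟩
    obtain ⟨e, he⟩ := hqp
    have hco : c % 2 = 1 := by omega
    refine ⟨e * c, fun a => ?_, ?_⟩
    · rw [pow_mul, ← he]
      have h3 : ∀ j : ℕ, ∀ a : F, a ^ (q ^ (2 * j)) = a := by
        intro j a
        rw [pow_mul, ← hF, FiniteField.pow_card_pow]
      obtain ⟨j, hj⟩ : ∃ j, c = 2 * j + 1 := ⟨c / 2, by omega⟩
      rw [hj, pow_succ, pow_mul a, h3, hσ]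
    · rw [pow_mul, ← he]
      have h5 := (dvd_iff_c (q := q) hr2 (by omega) hi hi0 hc (k := c) (by omega)).2 dvd_rfl
      rwa [if_neg (Nat.not_even_iff.2 hco)] at h5
  · left
    by_cases h0 : i % 4 = 0
    · rw [hc, if_pos h0, if_pos (Nat.even_iff.2 (by omega))]
      omega
    · rw [hc, if_neg h0, if_neg h4, if_neg (by rw [Nat.not_even_iff]; omega)]

end Cfsg.Agent.H951
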