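import Cfsg.Agent.H951.UBridge
/-!
# Elements of prime order of the unitary groups
-/

set_option autoImplicit false
set_option linter.unusedSectionVars false
set_option linter.unusedVariables false

namespace Cfsg.Agent.H951

open Module Polynomial Cfsg

variable {F V : Type*} [Field F] [Fintype F] {q n : ℕ} [AddCommGroup V] [Module F V] [FiniteDimensional F V]
variable {σ : F →+* F} {B : V → V → F} {W : Submodule F V} {r : ℕ}

lemma natCast_ne_zero_of_ord {q r : ℕ} [Fact r.Prime] {i : ℕ} (hi : i = orderOf (q : ZMod r)) (hi0 : 0 < i) :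
    (q : ZMod r) ≠ 0 := by
  intro h
  have h1 : (q : ZMod r) ^ i = 1 := by rw [hi]; exact pow_orderOf_eq_one _
  rw [h, zero_pow hi0.ne'] at h1
  exact zero_ne_one h1

theorem card_norm_one (hF : Fintype.card F = q ^ 2) (hσ : ∀ a, σ a = a ^ q) (hne : σ ≠ RingHom.id F)
    (hB : Frm σ 1 B) (hW : Nd B W) :
    Nat.card {v : V // v ∈ W ∧ B v v = 1} = (if Even (finrank F W) then q ^ (finrank F W - 1) * (q ^ finrank F W - 1)
      else q ^ (finrank F W - 1) * (q ^ finrank F W + 1)) := by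
  have hq := ClassicalGeometry.GUBasic.two_le hF
  obtain ⟨φ, hφ⟩ := exists_equiv_of_top hB (frm_herm hσ hB.sigma_sq (finrank F W)) (Or.inl ⟨hne, rfl⟩)
    (kind_herm hne _) hW (nd_herm (by omega)) (by simp)
  rw [← Cfsg.Agent.S0284.result hF (finrank F W)]
  refine (Nat.card_congr ?_).symm
  refine (φ.toEquiv.subtypeEquiv (q := fun w : W => B (w : V) (w : V) = 1) fun v => ?_).trans ?_
  · rw [← hφ]; rfl
  · exact {
      toFun := fun w => ⟨w.1.1, w.1.2, w.2⟩
      invFun := fun v => ⟨⟨v.1, v.2.1⟩, v.2.2⟩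
      left_inv := fun w => rfl
      right_inv := fun v => rfl }

/-- `c` divides the dimension of a nondegenerate invariant subspace without fixed vectors. -/
theorem dvd_finrank_unitary [Fact r.Prime] (hr2 : r ≠ 2) (hr : (r : F) ≠ 0) (hF : Fintype.card F = q ^ 2)
    (hσ : ∀ a, σ a = a ^ q) (hne : σ ≠ RingHom.id F) (hB : Frm σ 1 B) {i c : ℕ}
    (hi : i = orderOf (q : ZMod r)) (hi0 : 0 < i)
    (hc : c = if i % 4 = 0 then i else if i % 4 = 2 then i / 2 else 2 * i) {x : Module.End F V}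
    (hx : Isom B x) (hxr : x ^ r = 1) (W : Submodule F V) (hWi : Inv x W) (hW : Nd B W) (hWc : W ≤ cm x) :
    c ∣ finrank F W := by
  have hrP : r.Prime := Fact.out
  have hq := ClassicalGeometry.GUBasic.two_le hF
  rcases Nat.eq_zero_or_pos (finrank F W) with h0 | hpos
  · rw [h0]; exact dvd_zero c
  have : Finite V := Module.finite_of_finite F
  rw [← dvd_iff_c (q := q) hr2 (by omega) hi hi0 hc hpos]
  have h1 := card_modEq hxr {v : V | v ∈ W ∧ B v v = 1} (fun v hv => ⟨hWi v hv.1, by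
    show B (x v) (x v) = 1
    rw [hx]; exact hv.2⟩)
  have h2 : Nat.card {v : V // v ∈ {v : V | v ∈ W ∧ B v v = 1} ∧ x v = v} = 0 := by
    rw [Nat.card_eq_zero]
    left
    refine ⟨fun v => ?_⟩
    obtain ⟨⟨hv1, hv2⟩, hv3⟩ := v.2
    have h3 : (v : V) ∈ fx x ⊓ cm x := ⟨mem_fx.2 hv3, hWc hv1⟩
    rw [(isCompl_fx_cm hr hxr).inf_eq_bot, Submodule.mem_bot] at h3
    rw [h3, hB.zero_left] at hv2
    exact zero_ne_one hv2
  rw [h2] at h1
  have h4 : r ∣ Nat.card {v : V // v ∈ W ∧ B v v = 1} := (Nat.modEq_zero_iff_dvd.1 h1)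
  rw [card_norm_one hF hσ hne hB hW] at h4
  have h5 : ¬ r ∣ q ^ (finrank F W - 1) := by
    intro h
    have := hrP.dvd_of_dvd_pow h
    exact natCast_ne_zero_of_ord hi hi0 ((ZMod.natCast_eq_zero_iff _ _).2 this)
  split_ifs at h4 with he
  · rw [if_pos he]; exact (hrP.dvd_mul.1 h4).resolve_left h5
  · rw [if_neg he]; exact (hrP.dvd_mul.1 h4).resolve_left h5

/-- A matrix of `GU_n` as an isometry. -/
lemma isom_toLin' {M : Matrix (Fin n) (Fin n) F}
    (hM : ∀ u v, hermForm n F q (M.mulVec u) (M.mulVec v) = hermForm n F q u v) :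
    Isom (hermForm n F q) (Matrix.toLin' M) := by
  intro u v
  rw [Matrix.toLin'_apply, Matrix.toLin'_apply]
  exact hM u v

lemma pow_toLin' {ι : Type*} [Fintype ι] [DecidableEq ι] (M : Matrix ι ι F) (k : ℕ) :
    (Matrix.toLin' M) ^ k = Matrix.toLin' (M ^ k) := (Matrix.toLin'_pow M k).symm

/-- Elements of order `r` of `GU_c`. -/
theorem exists_block_unitary [Fact r.Prime] (hr2 : r ≠ 2) (hF : Fintype.card F = q ^ 2) {i c : ℕ}
    (hi : i = orderOf (q : ZMod r)) (hi0 : 0 < i)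
    (hc : c = if i % 4 = 0 then i else if i % 4 = 2 then i / 2 else 2 * i) :
    ∃ y : Module.End F (Fin c → F), Isom (hermForm c F q) y ∧ y ^ r = 1 ∧ y ≠ 1 := by
  have hq := ClassicalGeometry.GUBasic.two_le hF
  have hrP : r.Prime := Fact.out
  have hc0 : 0 < c := by
    rw [hc]; split_ifs <;> omega
  have h1 : r ∣ Nat.card (Cfsg.GU c F q) := by
    rw [Cfsg.Agent.S0277.result hF c]
    refine Dvd.dvd.mul_left ?_ _
    refine dvd_trans ?_ (Finset.dvd_prod_of_mem _ (Finset.mem_range.2 (Nat.sub_lt hc0 one_pos)))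
    have h2 := (dvd_iff_c (q := q) hr2 (by omega) hi hi0 hc (k := c) hc0).2 dvd_rfl
    have e1 : c - 1 + 1 = c := by omega
    rw [e1]
    rcases Nat.even_or_odd c with he | ho
    · rw [if_pos he] at h2
      rw [if_neg]
      · exact h2
      · rw [Nat.not_even_iff_odd]; obtain ⟨t, ht⟩ := he; exact ⟨t - 1, by omega⟩
    · rw [if_neg (Nat.not_even_iff_odd.2 ho)] at h2
      rw [if_pos]
      · exact h2
      · obtain ⟨t, ht⟩ := ho; exact ⟨t, by omega⟩
  have : Finite (Cfsg.GU c F q) := inferInstance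
  obtain ⟨g, hg⟩ := exists_prime_orderOf_dvd_card' r h1
  set M : Matrix (Fin c) (Fin c) F := ((g : Matrix.GeneralLinearGroup (Fin c) F) : Matrix (Fin c) (Fin c) F) with hM
  have hgr : g ^ r = 1 := by rw [← hg]; exact pow_orderOf_eq_one g
  have hMr : M ^ r = 1 := by
    have h3 : (((g ^ r : Cfsg.GU c F q) : Matrix.GeneralLinearGroup (Fin c) F) : Matrix (Fin c) (Fin c) F) = M ^ r := by
      rw [Subgroup.coe_pow, Units.val_pow_eq_pow_val]
    rw [← h3, hgr]; rfl
  refine ⟨Matrix.toLin' M, isom_toLin' g.2, ?_, ?_⟩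
  · rw [pow_toLin', hMr, Matrix.toLin'_one]; rfl
  · intro h
    have h4 : M = 1 := by
      apply Matrix.toLin'.injective
      rw [h, Matrix.toLin'_one]; rfl
    have h5 : g = 1 := Subtype.ext (Units.ext h4)
    rw [h5, orderOf_one] at hg
    exact hrP.one_lt.ne hg

/-- Elements `x` with `dim [V, x] = c M` on every nondegenerate hermitian space. -/
theorem exists_elt_unitary [Fact r.Prime] (hr2 : r ≠ 2) (hr : (r : F) ≠ 0) (hF : Fintype.card F = q ^ 2)
    (hσ : ∀ a, σ a = a ^ q) (hne : σ ≠ RingHom.id F) (hB : Frm σ 1 B) (hV : Nd B (⊤ : Submodule F V)) {i c : ℕ}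
    (hi : i = orderOf (q : ZMod r)) (hi0 : 0 < i)
    (hc : c = if i % 4 = 0 then i else if i % 4 = 2 then i / 2 else 2 * i) {M : ℕ} (hM : c * M ≤ finrank F V) :
    ∃ x : Module.End F V, Isom B x ∧ x ^ r = 1 ∧ finrank F ↥(cm x) = c * M := by
  have hq := ClassicalGeometry.GUBasic.two_le hF
  refine exists_elt hB (Or.inl ⟨hne, rfl⟩) hV hr (fun h => absurd h hne) ?_ M hM
  intro U hU hUc
  obtain ⟨y, hy, hyr, hy1⟩ := exists_block_unitary hr2 hF hi hi0 hc
  have hB' := frm_herm hσ hB.sigma_sq c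
  refine exists_blk hB hB' (Or.inl ⟨hne, rfl⟩) (kind_herm hne c) (nd_herm (by omega)) hr ?_ hy hyr hy1 hU
    (by rw [hUc]; simp)
  intro y hy hyr
  have h1 := hy.nd_inf_cm hB' hr hyr (U := ⊤) (fun _ _ => trivial) (nd_herm (by omega))
  rw [top_inf_eq] at h1
  have h2 : Inv y (cm y) := by
    intro v hv
    obtain ⟨w, rfl⟩ := mem_cm.1 hv
    exact mem_cm.2 ⟨y w, by rw [map_sub]⟩
  have h3 := dvd_finrank_unitary hr2 hr hF hσ hne hB' hi hi0 hc hy hyr _ h2 h1 le_rfl
  have h4 : finrank F (Fin c → F) = c := by simp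
  rw [h4]
  exact h3

end Cfsg.Agent.H951
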