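import Cfsg.Agent.H951.UNe2
import Cfsg.Agent.H951.Mono
import Cfsg.Agent.H951.Step
/-!
# Nondegenerate `m`-spaces of the unitary space: `r` odd dividing `q + 1` (`i = 2`)
-/

set_option autoImplicit false
set_option linter.unusedSectionVars false
set_option linter.unusedVariables false

namespace Cfsg.Agent.H951

open Module Polynomial Cfsg

section roots

variable {F : Type*} [Field F] [Fintype F]

lemma exists_root_of_pow {z : F} {g r : ℕ} (hg : 0 < g) (hz : z ^ g = 1) (hd : r * g ∣ Fintype.card F - 1) :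
    ∃ w : F, w ^ r = z := by
  have hz0 : z ≠ 0 := by rintro rfl; rw [zero_pow hg.ne'] at hz; exact zero_ne_one hz
  obtain ⟨γ, hγ⟩ := IsCyclic.exists_generator (α := Fˣ)
  have hN : orderOf γ = Fintype.card F - 1 := by
    rw [orderOf_eq_card_of_forall_mem_zpowers hγ, Nat.card_units, Nat.card_eq_fintype_card]
  obtain ⟨e, he⟩ : ∃ e : ℕ, γ ^ e = Units.mk0 z hz0 := by
    have := hγ (Units.mk0 z hz0)
    rw [← mem_powers_iff_mem_zpowers] at this
    exact this
  have h1 : γ ^ (e * g) = 1 := by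
    rw [pow_mul, he]
    ext
    rw [Units.val_pow_eq_pow_val]
    exact hz
  rw [← orderOf_dvd_iff_pow_eq_one, hN] at h1
  have h2 : r * g ∣ e * g := hd.trans h1
  obtain ⟨s, hs⟩ := Nat.dvd_of_mul_dvd_mul_right hg h2
  refine ⟨((γ ^ s : Fˣ) : F), ?_⟩
  rw [← Units.val_pow_eq_pow_val, ← pow_mul, mul_comm, ← hs, he]
  rfl

lemma exists_of_order {d : ℕ} (hd : d ∣ Fintype.card F - 1) : ∃ z : F, orderOf z = d := by
  obtain ⟨γ, hγ⟩ := IsCyclic.exists_generator (α := Fˣ)
  have hN : orderOf γ = Fintype.card F - 1 := by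
    rw [orderOf_eq_card_of_forall_mem_zpowers hγ, Nat.card_units, Nat.card_eq_fintype_card]
  refine ⟨((γ ^ (orderOf γ / d) : Fˣ) : F), ?_⟩
  rw [orderOf_units, orderOf_pow_orderOf_div (orderOf_pos γ).ne' (by rw [hN]; exact hd)]

end roots

variable {F : Type*} [Field F] [Fintype F] {q n r : ℕ}

lemma succ_dvd_card_sub (hF : Fintype.card F = q ^ 2) : Fintype.card F - 1 = (q + 1) * (q - 1) := by
  rw [hF]
  have hq := ClassicalGeometry.GUBasic.two_le hF
  obtain ⟨s, rfl⟩ : ∃ s, q = s + 1 := ⟨q - 1, by omega⟩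
  simp only [Nat.add_sub_cancel]
  rw [Nat.sub_eq_iff_eq_add (Nat.one_le_pow _ _ (by omega))]
  ring

/-- Roots of norm-one elements have norm one, `r` odd dividing `q + 1`. -/
lemma norm_of_root [Fact r.Prime] (hr2 : r ≠ 2) (hF : Fintype.card F = q ^ 2) (hrq : r ∣ q + 1) {z w : F}
    (hz : z ^ (q + 1) = 1) (hw : w ^ r = z) : w ^ (q + 1) = 1 := by
  have hrP : r.Prime := Fact.out
  have hq := ClassicalGeometry.GUBasic.two_le hF
  have hw0 : w ≠ 0 := by
    rintro rfl
    rw [zero_pow hrP.ne_zero] at hw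
    rw [← hw, zero_pow (by omega)] at hz
    exact zero_ne_one hz
  have h1 : (w ^ (q + 1)) ^ (q - 1) = 1 := by
    rw [← pow_mul, ← succ_dvd_card_sub hF]
    exact FiniteField.pow_card_sub_one_eq_one w hw0
  have h2 : (w ^ (q + 1)) ^ r = 1 := by
    rw [← pow_mul, mul_comm, pow_mul, hw, hz]
  have hco : Nat.Coprime r (q - 1) := by
    rw [hrP.coprime_iff_not_dvd]
    intro h
    have h3 : r ∣ (q + 1) - (q - 1) := Nat.dvd_sub hrq h
    have h4 : (q + 1) - (q - 1) = 2 := by omega
    rw [h4] at h3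
    exact hr2 ((Nat.prime_dvd_prime_iff_eq hrP Nat.prime_two).1 h3)
  have h3 : orderOf (w ^ (q + 1)) ∣ Nat.gcd r (q - 1) :=
    Nat.dvd_gcd (orderOf_dvd_of_pow_eq_one h2) (orderOf_dvd_of_pow_eq_one h1)
  rw [hco, Nat.dvd_one, orderOf_eq_one_iff] at h3
  exact h3

/-- Nondegenerate invariant subspaces of every dimension `r j` when `T^r = z` is not an `r`-th power. -/
theorem exists_nd_of_nonroot {V : Type*} [AddCommGroup V] [Module F V] [FiniteDimensional F V] {σ : F →+* F}
    {ε : F} {B : V → V → F} [Fact r.Prime] (hr2 : r ≠ 2) (hB : Frm σ ε B) (hV : Nd B (⊤ : Submodule F V)) {T : Module.End F V}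
    (hT : Isom B T) {z : F} (hz0 : z ≠ 0) (hTr : T ^ r = z • 1) (hz : ∀ b : F, b ^ r ≠ z) {j : ℕ} (hj : r * j ≤ finrank F V) : ∃ W : Submodule F V, Inv T W ∧ Nd B W ∧ finrank F W = r * j := by
  have hrP : r.Prime := Fact.out
  have hirr : Irreducible (X ^ r - C z : F[X]) := X_pow_sub_C_irreducible_of_prime hrP hz
  have haev : aeval T (X ^ r - C z : F[X]) = 0 := by
    rw [map_sub, map_pow, aeval_X, aeval_C, hTr, sub_eq_zero]
    rfl
  have hss : T.IsSemisimple := Module.End.isSemisimple_of_squarefree_aeval_eq_zero hirr.squarefree haev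
  have hinj : Function.Injective T := by
    obtain ⟨s, hs⟩ : ∃ s, r = s + 1 := ⟨r - 1, by have := hrP.pos; omega⟩
    have h : ∀ w : V, (T ^ s) (T w) = z • w := by
      intro w
      rw [← Module.End.mul_apply, ← pow_succ, ← hs, hTr]
      rfl
    intro u v huv
    have h1 : z • u = z • v := by rw [← h u, ← h v, huv]
    exact smul_right_injective V hz0 h1
  have hkil : ∀ v : V, aeval T (X ^ r - C z : F[X]) v = 0 := fun v => by rw [haev]; rfl
  have step : ∀ W, Inv T W → Nd B W → W ≠ ⊥ → ∃ W' ≤ W, Inv T W' ∧ Nd B W' ∧ finrank F W' = r := by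
    intro W hW hWn h0
    rcases exists_block hB hT hinj hss hW hWn h0 with ⟨U, hUW, hU, hUn⟩ |
      ⟨U, U', hUW, hU'W, hU, hU', hti, hti', hdis, hp, hnd⟩
    · exact ⟨U, hUW, hU.2.1, hUn, by
        rw [hU.finrank_eq_natDegree hirr fun v _ => hkil v, natDegree_X_pow_sub_C]⟩
    · have h2 : ∃ u ∈ U', T (T u) ≠ u := by
        by_contra hno
        push Not at hno
        obtain ⟨v, hv, hv0⟩ := (Submodule.ne_bot_iff _).1 hU'.1
        obtain ⟨k, hk⟩ := hrP.odd_of_ne_two hr2
        have h3 : ∀ j : ℕ, ∀ w ∈ U', (T ^ (2 * j)) w = w := by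
          intro j
          induction j with
          | zero => intro w _; simp
          | succ j ih =>
            intro w hw
            rw [mul_add, mul_one, pow_add, Module.End.mul_apply, pow_two, Module.End.mul_apply, hno w hw, ih w hw]
        have h4 : ∀ w ∈ U', T w = z • w := by
          intro w hw
          have h5 : (T ^ r) w = z • w := by rw [hTr]; rfl
          rw [hk, pow_add, pow_one, Module.End.mul_apply, h3 k _ (hU'.2.1 w hw)] at h5
          exact h5
        have h5 : z • z • v = v := by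
          have := hno v hv
          rwa [h4 v hv, map_smul, h4 v hv] at this
        have h6 : z ^ 2 = 1 := by
          have h7 : (z ^ 2 - 1) • v = 0 := by
            rw [sub_smul, pow_two, mul_smul, h5, one_smul, sub_self]
          rcases smul_eq_zero.1 h7 with h | h
          · linear_combination h
          · exact absurd h hv0
        apply hz z
        rw [hk, pow_add, pow_mul, h6, one_pow, one_mul, pow_one]
      obtain ⟨S, hS, hSi, hSn⟩ := exists_nd_irr hB hT hinj hirr hU hU' (fun u _ => hkil u) (fun u _ => hkil u)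
        hti hti' hp h2
      exact ⟨S, hS.trans (sup_le hUW hU'W), hSi.2.1, hSn, by
        rw [hSi.finrank_eq_natDegree hirr fun v _ => hkil v, natDegree_X_pow_sub_C]⟩
  obtain ⟨W, -, h1, h2, h3⟩ := exists_nd_of_step (x := T) hB
    (fun W hW => hT.inv_perp hB hinj hW) hrP.pos step (W := ⊤) (fun _ _ => trivial) hV (j := j)
    (by rw [finrank_top]; exact hj)
  exact ⟨W, h1, h2, h3⟩

end Cfsg.Agent.H951
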