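import Cfsg.Agent.H951.Cayley
import Cfsg.Agent.H951.JReal
import Cfsg.Agent.H951.UTwo
import Cfsg.Agent.H951.MSum
/-!
# Unipotent elements of `PSU_n(q)` on nondegenerate `m`-spaces
-/

set_option autoImplicit false
set_option linter.unusedSectionVars false
set_option linter.unusedVariables false

namespace Cfsg.Agent.H951

open Module Polynomial Cfsg

variable {F : Type*} [Field F] [Fintype F] {q n m p : ℕ}

/-- The case `r = p`. -/
theorem ustat_p [Fact p.Prime] [CharP F p] (hF : Fintype.card F = q ^ 2) (hn : 3 ≤ n) (hm : 1 ≤ m)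
    (hmn : 2 * m < n) :
    UStat F n q m p ↔ (∀ μ : Multiset ℕ, (∀ a ∈ μ, 0 < a ∧ a ≤ p) → μ.sum = n → ∃ ν : Multiset ℕ, ν ≤ μ ∧ ν.sum = m) := by
  have hpP : p.Prime := Fact.out
  have hq := ClassicalGeometry.GUBasic.two_le hF
  obtain ⟨σ, hσ, hσ2, hne⟩ := exists_sig hF
  have hB := frm_herm hσ hσ2 n
  have hK : Kind σ 1 (hermForm n F q) := kind_herm hne n
  have hV : Nd (hermForm n F q) (⊤ : Submodule F (Fin n → F)) := nd_herm (by omega)
  have hfr : finrank F (Fin n → F) = n := by simp
  have hpq : p ∣ q := by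
    obtain ⟨k, -, hk⟩ := FiniteField.card F p
    have h1 : p ∣ q ^ 2 := by rw [← hF, hk]; exact dvd_pow_self p k.2.ne'
    exact hpP.dvd_of_dvd_pow h1
  have hco : Nat.Coprime p (q + 1) := by
    rw [hpP.coprime_iff_not_dvd]
    intro h
    have h1 := (Nat.dvd_add_right hpq).1 h
    exact hpP.one_lt.ne' (Nat.dvd_one.1 h1)
  rw [ustat_iff]
  constructor
  · intro h μ hμ hsum
    -- realise μ
    have hreal : ∀ s a, (s = 1 ∧ 0 < a ∧ a ≤ p) → ∀ U : Submodule F (Fin n → F), Nd (hermForm n F q) U →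
        finrank F U = s * a → ∃ N : Module.End F (Fin n → F), Skew (hermForm n F q) N ∧
      (∀ v ∈ hB.perp U, N v = 0) ∧ (∀ v, N v ∈ U) ∧ N ^ p = 0 ∧ Blk (hermForm n F q) N U s a := by
      rintro s a ⟨rfl, ha, hap⟩ U hU hUd
      obtain ⟨k, rfl⟩ : ∃ k, a = k + 1 := ⟨a - 1, by omega⟩
      obtain ⟨c, hc0, hc⟩ : ∃ c : F, c ≠ 0 ∧ c = (-1) ^ k * σ c := by
        rcases neg_one_pow_eq_or F k with h1 | h1
        · exact ⟨1, one_ne_zero, by rw [h1, map_one, one_mul]⟩
        · obtain ⟨c, hc⟩ := ClassicalGeometry.InvolutiveNorm.exists_sigma_ne hne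
          refine ⟨c - σ c, sub_ne_zero.2 hc.symm, ?_⟩
          rw [h1, map_sub, hσ2]; ring
      obtain ⟨N, h1, h2, h3, h4, h5⟩ := exists_block_real hB hK (fun h => absurd h hne) (s := 1) (k := k)
        (fun _ _ => c) (fun _ _ => by rw [mul_one]; exact hc) (by
          intro x hx
          have := hx 0
          rw [Fin.sum_univ_one] at this
          ext b
          rw [Subsingleton.elim b 0]
          exact (mul_eq_zero.1 this).resolve_right hc0) hU hUd
      refine ⟨N, h1, h2, h3, ?_, h5⟩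
      obtain ⟨t, ht⟩ : ∃ t, p = t + (k + 1) := ⟨p - (k + 1), by omega⟩
      rw [ht, pow_add, h4, mul_zero]
    obtain ⟨N, h1, -, -, h4, h5⟩ := exists_real hB hK hpP.ne_zero hreal (fun h => absurd h hne)
      (μ.map fun a => (1, a)) (by
        intro x hx
        obtain ⟨a, ha, rfl⟩ := Multiset.mem_map.1 hx
        exact ⟨rfl, hμ a ha⟩) ⊤ hV (by
        rw [finrank_top, hfr, ← hsum, Multiset.map_map]
        simp)
    by_cases hN0 : N = 0
    · -- all parts are 1
      have h6 := h5.rank hB 1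
      rw [hN0, pow_one, Submodule.map_zero, finrank_bot, Multiset.map_map] at h6
      simp only [Function.comp_def, one_mul] at h6
      have h7 : ∀ a ∈ μ, a = 1 := by
        intro a ha
        have h8 : a - 1 ∈ μ.map fun x => x - 1 := Multiset.mem_map.2 ⟨a, ha, rfl⟩
        have h9 := Multiset.sum_eq_zero_iff.1 h6.symm _ h8
        have := (hμ a ha).1
        omega
      have h8 : μ = Multiset.replicate n 1 := by
        rw [Multiset.eq_replicate]
        refine ⟨?_, h7⟩
        have h9 : μ = Multiset.replicate (Multiset.card μ) 1 := Multiset.eq_replicate_card.2 h7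
        rw [h9, Multiset.sum_replicate] at hsum
        simpa using hsum
      refine ⟨Multiset.replicate m 1, ?_, by simp⟩
      rw [h8]
      exact (Multiset.replicate_le_replicate 1).2 (by omega)
    obtain ⟨y, hy, hyp, hyW, hy1⟩ := exists_isom_of_skew (p := p) hB h1 h4
    obtain ⟨W, hW, hWn, hWm⟩ := h y hy (det_eq_one_of_coprime hF hy hyp hco) ⟨1, by rw [hyp, one_smul]⟩ (by
      intro z hz
      have h2 : z ^ (q + 1) = 1 := norm_of_scalar hσ hB hV (exists_ne_zero (by omega)) (r := 1) hy (by rw [pow_one, hz])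
      have h3 : z ^ p = 1 := by
        obtain ⟨v, hv⟩ := exists_ne_zero (F := F) (n := n) (by omega)
        have h4 : (y ^ p) v = z ^ p • v := by rw [hz, smul_pow_end, one_pow]; rfl
        rw [hyp] at h4
        change v = z ^ p • v at h4
        have h5 : (z ^ p - 1) • v = 0 := by rw [sub_smul, ← h4, one_smul, sub_self]
        rcases smul_eq_zero.1 h5 with h | h
        · linear_combination h
        · exact absurd h hv
      have h6 : orderOf z ∣ Nat.gcd p (q + 1) :=
        Nat.dvd_gcd (orderOf_dvd_of_pow_eq_one h3) (orderOf_dvd_of_pow_eq_one h2)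
      rw [hco, Nat.dvd_one, orderOf_eq_one_iff] at h6
      exact hN0 (hy1 (by rw [hz, h6, one_smul])))
    have hWN : Inv N W := (hyW W).1 hW
    have hperp : ∀ W, Inv N W → Inv N (hB.perp W) := fun W hW => h1.inv_perp hB hW
    obtain ⟨ν, hν, hν1⟩ := exists_jt hB hperp (step_herm hne hB h1 h4) W hWN hWn
    have hWp := hB.nd_perp_inf hV hWn le_top
    rw [inf_top_eq] at hWp
    obtain ⟨ν', hν', hν'1⟩ := exists_jt hB hperp (step_herm hne hB h1 h4) (hB.perp W) (hperp _ hWN) hWp
    have hadd := hν.add hB hν' fun u hu w hw => hB.eq_zero_comm.1 (hw u hu)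
    rw [(hB.isCompl_perp hWn).sup_eq_top] at hadd
    have hpairs : ∀ (κ : Multiset (ℕ × ℕ)) (hκ : ∀ x ∈ κ, x.1 = 1 ∧ 0 < x.2 ∧ x.2 ≤ p) (j : ℕ),
        (κ.map fun x => x.1 * (x.2 - j)).sum = ((κ.map Prod.snd).map fun x => x - j).sum := by
      intro κ hκ j
      rw [Multiset.map_map]
      congr 1
      apply Multiset.map_congr rfl
      intro x hx
      rw [(hκ x hx).1, one_mul]; rfl
    have hall : ∀ x ∈ ν + ν', x.1 = 1 ∧ 0 < x.2 ∧ x.2 ≤ p := by
      intro x hx
      rcases Multiset.mem_add.1 hx with h | h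
      · exact hν1 x h
      · exact hν'1 x h
    have heq : μ = (ν + ν').map Prod.snd := by
      apply multiset_eq_of_sums (fun a ha => (hμ a ha).1)
      · intro a ha
        obtain ⟨x, hx, rfl⟩ := Multiset.mem_map.1 ha
        exact (hall x hx).2.1
      · intro j
        rw [← hpairs _ hall, ← hadd.rank hB j, h5.rank hB j, Multiset.map_map]
        simp
    refine ⟨ν.map Prod.snd, ?_, ?_⟩
    · rw [heq, Multiset.map_add]
      exact Multiset.le_add_right _ _
    · have h6 := hν.finrank_eq hB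
      rw [hWm] at h6
      rw [h6]
      congr 1
      apply Multiset.map_congr rfl
      intro x hx
      rw [(hν1 x hx).1, one_mul]
  · intro h T hT hTd hTz hns
    obtain ⟨z, hTr⟩ := hTz
    have hz1 := norm_of_scalar hσ hB hV (exists_ne_zero (by omega)) hT hTr
    obtain ⟨w, hw1, hw⟩ := exists_root_of_coprime hz1 hco
    have hw0 : w ≠ 0 := by rintro rfl; rw [zero_pow (by omega)] at hw1; exact zero_ne_one hw1
    have hwi : w⁻¹ ^ (q + 1) = 1 := by rw [inv_pow, hw1, inv_one]
    have hy := isom_smul hσ hB hT hwi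
    have hyr : (w⁻¹ • T) ^ p = 1 := by
      rw [smul_pow_end, hTr, smul_smul, ← hw, ← mul_pow, inv_mul_cancel₀ hw0, one_pow, one_smul]
    obtain ⟨N, h1, h4, hyW⟩ := exists_skew_of_isom (p := p) hB hy hyr
    obtain ⟨μ, hμ, hμ1⟩ := exists_jt hB (fun W hW => h1.inv_perp hB hW) (step_herm hne hB h1 h4) ⊤
      (fun _ _ => trivial) hV
    have hd := hμ.finrank_eq hB
    rw [finrank_top, hfr] at hd
    have hmap : μ = (μ.map Prod.snd).map fun a => (1, a) := by
      rw [Multiset.map_map]
      conv_lhs => rw [← Multiset.map_id μ]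
      apply Multiset.map_congr rfl
      intro x hx
      exact Prod.ext (hμ1 x hx).1 rfl
    obtain ⟨ν, hν, hνm⟩ := h (μ.map Prod.snd) (by
      intro a ha
      obtain ⟨x, hx, rfl⟩ := Multiset.mem_map.1 ha
      exact (hμ1 x hx).2) (by
      rw [hd]
      congr 1
      apply Multiset.map_congr rfl
      intro x hx
      rw [(hμ1 x hx).1, one_mul])
    have hle : ν.map (fun a => (1, a)) ≤ μ := by
      rw [hmap]; exact Multiset.map_le_map hν
    obtain ⟨W, -, hW⟩ := hμ.sub hle
    refine ⟨W, (inv_smul_iff (inv_ne_zero hw0)).1 ((hyW W).2 hW.inv), hW.nd hB, ?_⟩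
    rw [hW.finrank_eq hB, ← hνm, Multiset.map_map]
    simp

end Cfsg.Agent.H951
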